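import Cfsg.Agent.Lib.InvolTimesPSL.AffineSwap
import Cfsg.Agent.Lib.CharInt.Burnside
import Cfsg.Agent.Lib.Coprime.FittingLength

/-!
# Affine groups normalising a Singer cycle

Either the elements with trivial linear part translate to every point, or `|E| = 8` and the group has
order `168` (`Exceptional`).
-/

set_option autoImplicit false
set_option linter.style.haveILetI false

namespace Cfsg.Agent.InvolTimesPSL

open Subgroup
open scoped Pointwise

universe u v

theorem three_le_card {α : Type*} [Finite α] {a b c : α} (hab : a ≠ b) (hac : a ≠ c) (hbc : b ≠ c) :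
    3 ≤ Nat.card α := by
  classical
  have := Fintype.ofFinite α
  rw [Nat.card_eq_fintype_card]
  refine le_trans (le_of_eq ?_) (Finset.card_le_univ ({a, b, c} : Finset α))
  exact (Finset.card_eq_three.2 ⟨a, b, c, hab, hac, hbc, rfl⟩).symm

theorem index_of_card_mul {G : Type*} [Group G] [Finite G] {H : Subgroup G} {m : ℕ}
    (h : Nat.card G = Nat.card H * m) : H.index = m :=
  Nat.eq_of_mul_eq_mul_left Nat.card_pos (H.card_mul_index.trans h)

theorem card_comap_quot {G : Type*} [Group G] [Finite G] (N : Subgroup G) [N.Normal]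
    (K : Subgroup (G ⧸ N)) :
    Nat.card (K.comap (QuotientGroup.mk' N)) = Nat.card N * Nat.card K := by
  have h1 : (K.comap (QuotientGroup.mk' N)).index = K.index :=
    index_comap_of_surjective K (QuotientGroup.mk'_surjective N)
  have h2 := (K.comap (QuotientGroup.mk' N)).card_mul_index
  have h3 := K.card_mul_index
  rw [h1, ← N.card_mul_index, index_eq_card (H := N), ← h3, ← mul_assoc] at h2
  exact Nat.eq_of_mul_eq_mul_right (Nat.pos_of_ne_zero index_ne_zero_of_finite) h2

namespace Aff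

variable {X : Type u} {E : Type v} [Group X] [AddCommGroup E] [DistribMulAction X E]

/-- The exceptional conclusion. -/
structure Exceptional (A : Aff X E) : Prop where
  inj : ∀ g : X, (∀ e : E, g • e = e) → g = 1
  cardE : Nat.card E = 8
  cardX : Nat.card X = 168
  cent : ∀ x : X, x * x = 1 → x ≠ 1 → Nat.card (centralizer ({x} : Set X)) = 8
  sylow : ∀ P : Sylow 2 X, Nat.card (P : Subgroup X) = 8 ∧
    ∃ a ∈ (P : Subgroup X), ∃ b ∈ (P : Subgroup X), a * a = 1 ∧ b * b = 1 ∧ (a * b) ^ 2 ≠ 1 ∧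
      (a * b) ^ 4 = 1 ∧ (P : Subgroup X) ≤ closure {a, b}

variable {A : Aff X E} {e₀ : E} {s : ℕ} (S : Small A e₀ s) [Finite X] [Finite E]

include S

/-- Each involution centraliser has only one central involution. -/
theorem Small.unique_central {x x' : X} (hx : x * x = 1) (hx1 : x ≠ 1) (hx' : x' * x' = 1)
    (hx'1 : x' ≠ 1) (hmem : x' ∈ centralizer ({x} : Set X))
    (hcen : ∀ g ∈ centralizer ({x} : Set X), g * x' = x' * g) : x' = x := by
  classical
  set P := centralizer ({x} : Set X) with hPdef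
  have hP : Nat.card P = 2 ^ s := S.card_cent hx hx1
  have hxP : x ∈ P := mem_centralizer_singleton_iff.2 rfl
  set N := normalizer (P : Set X) with hN
  let B : Subgroup X :=
    { carrier := {g | g ∈ P ∧ g * g = 1 ∧ ∀ m ∈ P, m * g = g * m}
      one_mem' := ⟨one_mem _, one_mul 1, fun m _ => by rw [one_mul, mul_one]⟩
      mul_mem' := fun {a b} ⟨ha, ha2, hac⟩ ⟨hb, hb2, hbc⟩ => ⟨mul_mem ha hb, by
          rw [mul_assoc, ← mul_assoc b a b, hac b hb, mul_assoc a b b, hb2, mul_one, ha2],
        fun m hm => by rw [← mul_assoc, hac m hm, mul_assoc, hbc m hm, mul_assoc]⟩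
      inv_mem' := fun {a} ⟨ha, ha2, hac⟩ => by
        rw [inv_eq_of_mul_eq_one_left ha2]; exact ⟨ha, ha2, hac⟩ }
  have hBmem : ∀ g, g ∈ B ↔ g ∈ P ∧ g * g = 1 ∧ ∀ m ∈ P, m * g = g * m := fun g => Iff.rfl
  have hxB : x ∈ B := ⟨hxP, hx, fun m hm => mem_centralizer_singleton_iff.1 hm⟩
  have hx'B : x' ∈ B := ⟨hmem, hx', hcen⟩
  -- `N` is transitive on `B \ {1}` with stabiliser `P`
  obtain ⟨h, h1, h2⟩ := S.exists_swapper
  have hBc : ∀ b ∈ B, b ≠ 1 → ∃ c ∈ N, b = c * x * c⁻¹ := by
    intro b hb hb1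
    obtain ⟨c1, hc1⟩ := S.involution_conj h1 h2 hb.2.1 hb1
    obtain ⟨c2, hc2⟩ := S.involution_conj h1 h2 hx hx1
    refine ⟨c1 * c2⁻¹, ?_, by rw [hc1, hc2]; group⟩
    have hCb := S.eq_cent hP hb.2.1 hb1 hb.2.2
    rw [hN, mem_normalizer_iff]
    intro m
    set c := c1 * c2⁻¹ with hc
    have hbx : b = c * x * c⁻¹ := by rw [hc, hc1, hc2]; group
    conv_rhs => rw [← hCb]
    rw [hPdef, mem_centralizer_singleton_iff, mem_centralizer_singleton_iff, hbx]
    constructor
    · intro e
      calc c * m * c⁻¹ * (c * x * c⁻¹) = c * (m * x) * c⁻¹ := by group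
        _ = _ := by rw [e]; group
    · intro e
      calc m * x = c⁻¹ * (c * m * c⁻¹ * (c * x * c⁻¹)) * c := by group
        _ = x * m := by rw [e]; group
  have hPN : P ≤ N := le_normalizer
  have hBN : ∀ c ∈ N, ∀ b ∈ B, c * b * c⁻¹ ∈ B := by
    intro c hc b ⟨hb, hb2, hbc⟩
    refine ⟨((mem_normalizer_iff.1 hc) b).1 hb, by
      calc c * b * c⁻¹ * (c * b * c⁻¹) = c * (b * b) * c⁻¹ := by group
        _ = 1 := by rw [hb2]; group, fun m hm => ?_⟩
    have hm' : c⁻¹ * m * c ∈ P := by
      refine ((mem_normalizer_iff.1 hc) _).2 ?_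
      rwa [show c * (c⁻¹ * m * c) * c⁻¹ = m by group]
    calc m * (c * b * c⁻¹) = c * ((c⁻¹ * m * c) * b) * c⁻¹ := by group
      _ = _ := by rw [hbc _ hm']; group
  have hcardN : Nat.card {b : B // b ≠ 1} * Nat.card P = Nat.card N := by
    have hbij : ∀ b : {b : B // b ≠ 1}, ∃ c ∈ N, ((b.1 : B) : X) = c * x * c⁻¹ := fun b =>
      hBc _ b.1.2 fun h0 => b.2 (Subtype.ext h0)
    choose c hc hcx using hbij
    rw [← Nat.card_prod]
    refine Nat.card_eq_of_bijective (fun p : {b : B // b ≠ 1} × P =>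
      (⟨c p.1 * p.2, mul_mem (hc p.1) (hPN p.2.2)⟩ : N)) ⟨?_, ?_⟩
    · rintro ⟨b, m⟩ ⟨b', m'⟩ heq
      have h3 : c b * (m : X) = c b' * (m' : X) := congrArg Subtype.val heq
      have h4 : ((b.1 : B) : X) = b'.1 := by
        have hm : ∀ m : P, (m : X) * x * (m : X)⁻¹ = x := fun m => by
          rw [mem_centralizer_singleton_iff.1 m.2, mul_inv_cancel_right]
        rw [hcx, hcx]
        calc c b * x * (c b)⁻¹ = c b * ((m : X) * x * (m : X)⁻¹) * (c b)⁻¹ := by rw [hm m]
          _ = (c b * m) * x * (c b * (m : X))⁻¹ := by group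
          _ = c b' * ((m' : X) * x * (m' : X)⁻¹) * (c b')⁻¹ := by rw [h3]; group
          _ = _ := by rw [hm m']
      obtain rfl : b = b' := Subtype.ext (Subtype.ext h4)
      rw [mul_left_cancel_iff] at h3
      rw [Subtype.ext h3]
    · rintro ⟨g, hg⟩
      have hb1 : g * x * g⁻¹ ∈ B := hBN g hg x hxB
      have hne : (⟨_, hb1⟩ : B) ≠ 1 := fun h0 => hx1 (conj_eq_one_iff.1 (congrArg Subtype.val h0))
      have hm : (c ⟨_, hne⟩)⁻¹ * g ∈ P := by
        have h3 : g * x * g⁻¹ = c ⟨_, hne⟩ * x * (c ⟨_, hne⟩)⁻¹ := hcx ⟨_, hne⟩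
        rw [hPdef, mem_centralizer_singleton_iff]
        calc (c ⟨_, hne⟩)⁻¹ * g * x = (c ⟨_, hne⟩)⁻¹ * (g * x * g⁻¹) * g := by group
          _ = (c ⟨_, hne⟩)⁻¹ * (c ⟨_, hne⟩ * x * (c ⟨_, hne⟩)⁻¹) * g :=
              congrArg (fun z => (c ⟨_, hne⟩)⁻¹ * z * g) h3
          _ = _ := by group
      exact ⟨⟨⟨_, hne⟩, ⟨_, hm⟩⟩, Subtype.ext (mul_inv_cancel_left _ _)⟩
  set t := Nat.card {b : B // b ≠ 1} with ht
  haveI : Fact (Nat.Prime 2) := ⟨Nat.prime_two⟩
  obtain ⟨c, hcs, hc⟩ : ∃ c ≤ s, Nat.card B = 2 ^ c :=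
    (Nat.dvd_prime_pow Nat.prime_two).1 (hP ▸ card_dvd_of_le fun g hg => hg.1)
  have htc : t + 1 = 2 ^ c := by
    have := Fintype.ofFinite B
    rw [← hc, ht, Nat.card_eq_fintype_card, Fintype.card_subtype_compl, Fintype.card_subtype_eq,
      ← Nat.card_eq_fintype_card]
    have := Nat.card_pos (α := B)
    omega
  have htdvd : t ∣ 2 ^ s - 1 := by
    have h3 : t * 2 ^ s ∣ ((2 ^ s - 1) * s) * 2 ^ s := by
      rw [← hP, hcardN, hP, mul_comm ((2 ^ s - 1) * s), ← S.card_X]
      exact card_subgroup_dvd_card N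
    have h4 : t ∣ (2 ^ s - 1) * s := Nat.dvd_of_mul_dvd_mul_right (by positivity) h3
    refine Nat.Coprime.dvd_of_dvd_mul_right ?_ h4
    refine ((Nat.Prime.coprime_iff_not_dvd S.prime).2 fun hd => S.not_dvd_normalizer hP ?_).symm
    rw [← hN, ← hcardN]
    exact dvd_mul_of_dvd_left hd _
  rcases eq_or_lt_of_le hcs with rfl | hlt
  · -- `P` elementary: impossible
    exfalso
    have hBP : B = P := eq_of_le_of_card_ge (fun g hg => hg.1) (by rw [hP, hc])
    have hidx : N.index = c := by
      refine index_of_card_mul ?_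
      rw [← hcardN, hP, S.card_X, show t = 2 ^ c - 1 by omega]
      ring
    have hfree : ∀ σ : P, σ ≠ 1 → ∀ a : X ⧸ N, (σ : X) • a = a → a = QuotientGroup.mk 1 := by
      intro σ hσ a ha
      induction a using QuotientGroup.induction_on with
      | H g =>
        rw [MulAction.Quotient.smul_mk, eq_comm, QuotientGroup.eq, smul_eq_mul, ← mul_assoc] at ha
        set u := g⁻¹ * (σ : X) * g with hu
        have hσ2 : (σ : X) * σ = 1 := ((hBP.symm ▸ σ.2 : (σ : X) ∈ B)).2.1
        have hu2 : u * u = 1 := by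
          rw [hu]; calc g⁻¹ * σ * g * (g⁻¹ * σ * g) = g⁻¹ * ((σ : X) * σ) * g := by group
            _ = 1 := by rw [hσ2]; group
        have hu1 : u ≠ 1 := fun h0 => hσ (Subtype.ext (by
          calc (σ : X) = g * u * g⁻¹ := by rw [hu]; group
            _ = 1 := by rw [h0]; group))
        have huP : u ∈ P := by
          have hQ : (P.subgroupOf N).index = t := by
            refine index_of_card_mul ?_
            rw [Nat.card_congr (subgroupOfEquivOfLe hPN).toEquiv, ← hcardN, mul_comm]
          haveI hnor : (P.subgroupOf N).Normal :=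
            (normal_subgroupOf_iff_le_normalizer hPN).2 le_rfl
          have h6 : (QuotientGroup.mk' (P.subgroupOf N)) ⟨u, ha⟩ = 1 := by
            refine orderOf_eq_one_iff.1 (Nat.eq_one_of_dvd_coprimes (a := 2) (b := t) ?_ ?_ ?_)
            · exact Nat.coprime_two_left.2 (Nat.odd_iff.2 (by
                have : Even (2 ^ c) := (Nat.even_pow).2 ⟨even_two, by have := S.three; omega⟩
                rw [Nat.even_iff] at this
                omega))
            · refine orderOf_dvd_of_pow_eq_one ?_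
              rw [← map_pow]
              exact (congrArg _ (Subtype.ext (by rw [SubmonoidClass.coe_pow, pow_two]; exact hu2))).trans
                (map_one _)
            · rw [← hQ, index_eq_card]
              exact orderOf_dvd_natCard _
          exact mem_subgroupOf.1 ((QuotientGroup.eq_one_iff (⟨u, ha⟩ : N)).1 h6)
        have hC1 : centralizer ({u} : Set X) = P :=
          S.eq_cent hP hu2 hu1 ((hBP.symm ▸ huP : u ∈ B)).2.2
        have hC2 : centralizer ({(σ : X)} : Set X) = P :=
          S.eq_cent hP hσ2 (fun h0 => hσ (Subtype.ext h0)) ((hBP.symm ▸ σ.2 : (σ : X) ∈ B)).2.2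
        rw [QuotientGroup.eq, mul_one]
        refine inv_mem ?_
        rw [hN, mem_normalizer_iff]
        intro m
        conv_lhs => rw [← hC1]
        conv_rhs => rw [← hC2]
        rw [mem_centralizer_singleton_iff, mem_centralizer_singleton_iff, hu]
        constructor
        · intro e
          calc g * m * g⁻¹ * σ = g * (m * (g⁻¹ * σ * g)) * g⁻¹ := by group
            _ = _ := by rw [e]; group
        · intro e
          calc m * (g⁻¹ * σ * g) = g⁻¹ * (g * m * g⁻¹ * σ) * g := by group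
            _ = _ := by rw [e]; group
    obtain ⟨a, ha⟩ : ∃ a : X ⧸ N, a ≠ QuotientGroup.mk 1 := by
      by_contra hcon
      push Not at hcon
      have h3 : N.index ≤ 1 := by
        rw [index_eq_card]
        exact Finite.card_le_one_iff_subsingleton.2 ⟨fun a b => (hcon a).trans (hcon b).symm⟩
      have := S.three
      omega
    have hle : Nat.card P ≤ Nat.card (X ⧸ N) := by
      refine Nat.card_le_card_of_injective (fun σ : P => (σ : X) • a) fun σ σ' hσ => ?_
      by_contra hne
      refine ha (hfree (σ'⁻¹ * σ) (fun h0 => hne (inv_mul_eq_one.1 h0).symm) a ?_)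
      rw [Subgroup.coe_mul, Subgroup.coe_inv, mul_smul, show (σ : X) • a = (σ' : X) • a from hσ,
        inv_smul_smul]
    rw [hP, ← index_eq_card, hidx] at hle
    have := Nat.lt_two_pow_self (n := c)
    omega
  · have hc1 : c = 1 := by
      have h3 : t ∣ Nat.gcd (2 ^ c - 1) (2 ^ s - 1) := Nat.dvd_gcd (by rw [← htc]; simp) htdvd
      have hc0 : c ≠ 0 := by
        rintro rfl
        have : B = ⊥ := card_eq_one.1 (by rw [hc, pow_zero])
        exact hx1 (mem_bot.1 (this ▸ hxB))
      have hco : Nat.gcd c s = 1 := ((Nat.Prime.coprime_iff_not_dvd S.prime).2 fun hd => by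
        have := Nat.le_of_dvd (by omega) hd; omega).symm
      rw [Nat.pow_sub_one_gcd_pow_sub_one, hco] at h3
      have h4 : t = 1 := Nat.dvd_one.1 h3
      have h5 : 2 ^ c = 2 ^ 1 := by omega
      exact Nat.pow_right_injective le_rfl h5
    subst hc1
    by_contra hne
    have : 3 ≤ Nat.card B := by
      exact three_le_card (a := (⟨1, one_mem B⟩ : B)) (b := ⟨x, hxB⟩) (c := ⟨x', hx'B⟩)
        (fun h0 => hx1 (congrArg Subtype.val h0).symm) (fun h0 => hx'1 (congrArg Subtype.val h0).symm)
        (fun h0 => hne (congrArg Subtype.val h0).symm)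
    omega

theorem Small.exceptional : Exceptional A := by
  classical
  obtain ⟨h, h1, h2⟩ := S.exists_swapper
  obtain ⟨hh, hinv⟩ := S.swapper h1 h2
  have hh1 : h ≠ 1 := fun h0 => S.e0 (by rw [← h1, h0, A.δ_one])
  have h3s := S.three
  haveI : Fact (Nat.Prime 2) := ⟨Nat.prime_two⟩
  haveI := Fact.mk S.prime
  -- the stabiliser of `e₀` in the linear action
  set L := MulAction.stabilizer X e₀ with hL
  have hFL : A.F e₀ ≤ L := inf_le_right
  have hhL : h ∈ L := h2
  have hcardL : Nat.card L = 2 ^ s * s := by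
    rw [A.card_eq_mul L (fun e => ?_), S.cardE, inf_comm, hL, ← Aff.F, S.cardF]
    obtain ⟨g, hg⟩ := A.surj e
    obtain ⟨x, hx, hxe⟩ := A.zpowers_k_trans S.e0
      (show g⁻¹ • e₀ ≠ 0 from fun h0 => S.e0 ((smul_eq_zero_iff_eq _).1 h0))
    refine ⟨g * x, ?_, by rw [A.δ_mul_mem _ (A.zpowers_k_le hx), hg]⟩
    show (g * x) • e₀ = e₀
    rw [mul_smul, hxe, smul_inv_smul]
  set W : Subgroup L := Cfsg.pCore 2 L with hW
  haveI : W.Normal := inferInstance
  set W' : Subgroup X := W.map L.subtype with hW'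
  have hW'c : Nat.card W' = Nat.card W := card_map_of_injective L.subtype_injective
  obtain ⟨w, hw⟩ : ∃ w, Nat.card W = 2 ^ w := PCore.exists_card_pCore
  have hconjW : ∀ g ∈ L, ∀ m ∈ W', g * m * g⁻¹ ∈ W' := by
    rintro g hg _ ⟨m, hm, rfl⟩
    exact ⟨⟨g, hg⟩ * m * ⟨g, hg⟩⁻¹, (inferInstance : W.Normal).conj_mem m hm _, rfl⟩
  have hws : w ≤ s := by
    have h4 : 2 ^ w ∣ 2 ^ s * s := by rw [← hw, ← hcardL]; exact card_subgroup_dvd_card W
    exact (Nat.pow_dvd_pow_iff_le_right (by norm_num)).1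
      ((Nat.Coprime.pow_left w (Nat.coprime_two_left.2 S.odd_s)).dvd_of_dvd_mul_right h4)
  obtain ⟨y, hy, hy1, hFy⟩ := S.exists_y
  have hws' : w ≠ s := by
    rintro rfl
    exact S.not_normalises (P := W') (hW'c.trans hw) hy hy1 (hconjW y (hFL hy))
  -- the image of `F` in `L / W` is normal, so `W` has index `2 s`
  have hwge : s ≤ w + 1 := by
    haveI : Nontrivial (L ⧸ W) := by
      rw [← Finite.one_lt_card_iff_nontrivial, ← index_eq_card]
      have h4 := W.card_mul_index
      rw [hw, hcardL] at h4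
      by_contra hle
      have h5 : W.index = 1 := by
        have := index_ne_zero_of_finite (H := W)
        omega
      rw [h5, mul_one] at h4
      have : 2 ^ w ≤ 2 ^ s := Nat.pow_le_pow_right two_pos hws
      have : 2 ^ s * 2 ≤ 2 ^ s * s := Nat.mul_le_mul_left _ (by omega)
      have := Nat.two_pow_pos s
      omega
    have hquot : W.index = 2 ^ (s - w) * s := by
      refine index_of_card_mul ?_
      rw [hcardL, hw, ← mul_assoc, ← pow_add, Nat.add_sub_cancel' hws]
    haveI : Group.IsSolvable (L ⧸ W) := CharInt.isSolvable_of_card_eq (a := s - w) (b := 1)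
      Nat.prime_two S.prime (by rw [← index_eq_card, hquot, pow_one])
    obtain ⟨r, hr, hrne⟩ := Coprime.exists_pCore_ne_bot (Q := L ⧸ W)
    haveI := Fact.mk hr
    obtain ⟨i, hi⟩ : ∃ i, Nat.card (Cfsg.pCore r (L ⧸ W)) = r ^ i := PCore.exists_card_pCore
    have hrs : r = s := by
      have hdvd : r ∣ 2 ^ (s - w) * s := by
        rw [← hquot, index_eq_card]
        refine dvd_trans ?_ (card_subgroup_dvd_card (Cfsg.pCore r (L ⧸ W)))
        rw [hi]
        refine dvd_pow_self _ fun hi0 => hrne (card_eq_one.1 (by rw [hi, hi0, pow_zero]))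
      rcases hr.dvd_mul.1 hdvd with h | h
      · have := (Nat.prime_dvd_prime_iff_eq hr Nat.prime_two).1 (hr.dvd_of_dvd_pow h)
        subst this
        exact absurd PCore.pCore_quotient_self_eq_bot hrne
      · exact (Nat.prime_dvd_prime_iff_eq hr S.prime).1 h
    subst hrs
    set M := (Cfsg.pCore r (L ⧸ W)).comap (QuotientGroup.mk' W) with hM
    have hMcard : Nat.card M = 2 ^ w * r ^ i := by
      rw [card_comap_quot W, hw, hi]
    have hi1 : i = 1 := by
      have hi0 : i ≠ 0 := fun hi0 => hrne (card_eq_one.1 (by rw [hi, hi0, pow_zero]))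
      by_contra hne
      have h4 : r ^ 2 ∣ 2 ^ r * r := by
        rw [← hcardL]
        exact ((pow_dvd_pow r (by omega)).trans (Dvd.intro_left _ hMcard.symm)).trans
          (card_subgroup_dvd_card M)
      rw [pow_two] at h4
      have h5 : r ∣ 2 ^ r := Nat.dvd_of_mul_dvd_mul_right hr.pos h4
      have := (Nat.prime_dvd_prime_iff_eq hr Nat.prime_two).1 (hr.dvd_of_dvd_pow h5)
      omega
    subst hi1
    -- a Sylow `r`-subgroup of `M` is conjugate to `F`
    set FL : Subgroup L := (A.F e₀).subgroupOf L with hFLdef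
    have hFLc : Nat.card FL = r := (Nat.card_congr (subgroupOfEquivOfLe hFL).toEquiv).trans S.cardF
    have hidxL : ¬ r ∣ FL.index := by
      rw [index_of_card_mul (H := FL) (m := 2 ^ r) (by rw [hcardL, hFLc, mul_comm])]
      intro hd
      have := (Nat.prime_dvd_prime_iff_eq hr Nat.prime_two).1 (hr.dvd_of_dvd_pow hd)
      omega
    have hMn : M.Normal := Subgroup.Normal.comap inferInstance _
    have hFM : FL ≤ M := by
      intro g hg
      have h4 : (QuotientGroup.mk' M) g = 1 := by
        refine orderOf_eq_one_iff.1 (Nat.eq_one_of_dvd_coprimes (a := r) (b := 2 ^ (r - w)) ?_ ?_ ?_)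
        · exact Nat.Coprime.pow_right _ (Nat.coprime_two_right.2 S.odd_s)
        · refine dvd_trans (orderOf_map_dvd _ g) ?_
          rw [← hFLc]
          exact (Subgroup.orderOf_mk g hg) ▸ orderOf_dvd_natCard _
        · refine dvd_trans (orderOf_dvd_natCard _) ?_
          rw [← index_eq_card, index_of_card_mul (H := M) (m := 2 ^ (r - w)) (by
            rw [hcardL, hMcard, pow_one, mul_assoc, mul_comm r, ← mul_assoc, ← pow_add,
              Nat.add_sub_cancel' hws])]
      exact (QuotientGroup.eq_one_iff g).1 h4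
    let T : Sylow r M := (IsPGroup.of_card (n := 1) (G := FL.subgroupOf M) (by
      rw [Nat.card_congr (subgroupOfEquivOfLe hFM).toEquiv, hFLc, pow_one])).toSylow (by
      rw [index_of_card_mul (H := FL.subgroupOf M) (m := 2 ^ w) (by
        rw [hMcard, Nat.card_congr (subgroupOfEquivOfLe hFM).toEquiv, hFLc, pow_one, mul_comm])]
      intro hd
      have := (Nat.prime_dvd_prime_iff_eq hr Nat.prime_two).1 (hr.dvd_of_dvd_pow hd)
      omega)
    have hfr := Sylow.normalizer_sup_eq_top T
    have hTmap : (T : Subgroup M).map M.subtype = FL := by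
      show (FL.subgroupOf M).map M.subtype = FL
      rw [subgroupOf_map_subtype, inf_eq_left.2 hFM]
    rw [hTmap] at hfr
    set NF := normalizer (FL : Set L) with hNF
    have hNFc : Nat.card NF ≤ r + r := by
      rw [← S.cardF, ← Nat.card_sum]
      have hfix : ∀ g : NF, ((g : L) : X) ∈ A.F e₀ ∨ h * ((g : L) : X) ∈ A.F e₀ := by
        intro g
        set x := ((g : L) : X) with hx
        have hxe : x • e₀ = e₀ := (g : L).2
        have hyx : x⁻¹ * y * x ∈ A.F e₀ := by
          have := ((mem_normalizer_iff.1 (inv_mem g.2)) ⟨y, hFL hy⟩).1 hy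
          rw [inv_inv] at this
          exact this
        have h4 : A.act y (A.δ x) = A.δ x := A.conj_mem_X0.1 hyx.1
        rw [A.act_of_δ hy.1] at h4
        rcases S.fix y hy hy1 _ h4 with h5 | h5
        · exact Or.inl ⟨h5, hxe⟩
        · refine Or.inr ⟨?_, ?_⟩
          · show A.δ (h * x) = 0
            rw [A.δ_mul, h1, h5, h2, A.two]
          · show (h * x) • e₀ = e₀
            rw [mul_smul, hxe, h2]
      refine Nat.card_le_card_of_injective (fun g : NF =>
        if hg : ((g : L) : X) ∈ A.F e₀ then Sum.inl ⟨_, hg⟩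
        else Sum.inr ⟨h * ((g : L) : X), (hfix g).resolve_left hg⟩) fun a b hab => ?_
      dsimp only at hab
      split_ifs at hab with ha hb hb <;>
        simp only [Sum.inl.injEq, Sum.inr.injEq, Subtype.mk.injEq, mul_right_inj, reduceCtorEq] at hab <;>
        exact Subtype.ext (Subtype.ext hab)
    have hcardle : Nat.card L ≤ Nat.card NF * Nat.card W := by
      have hWle : NF ⊔ W = ⊤ := by
        rw [eq_top_iff, ← hfr, sup_le_iff]
        refine ⟨le_sup_left, ?_⟩
        have hMeq : M = FL ⊔ W := by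
          refine (eq_of_le_of_card_ge (sup_le hFM fun g hg => ?_) ?_).symm
          · show QuotientGroup.mk' W g ∈ Cfsg.pCore r (L ⧸ W)
            rw [show QuotientGroup.mk' W g = 1 from (QuotientGroup.eq_one_iff g).2 hg]
            exact one_mem _
          · rw [hMcard, pow_one]
            have h4 : 2 ^ w * r ∣ Nat.card ↥(FL ⊔ W) := by
              refine Nat.Coprime.mul_dvd_of_dvd_of_dvd ?_ (hw ▸ card_dvd_of_le le_sup_right)
                (hFLc ▸ card_dvd_of_le le_sup_left)
              exact Nat.Coprime.pow_left _ (Nat.coprime_two_left.2 S.odd_s)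
            exact Nat.le_of_dvd Nat.card_pos h4
        rw [hMeq]
        exact sup_le_sup_right le_normalizer W
      have h4 := Subgroup.mul_normal NF W
      rw [hWle, coe_top] at h4
      have h5 := Set.natCard_mul_le (s := (NF : Set L)) (t := (W : Set L))
      rw [← h4] at h5
      simpa using h5
    have h6 : 2 ^ r * r ≤ 2 ^ (w + 1) * r := by
      calc 2 ^ r * r ≤ Nat.card NF * Nat.card W := hcardL ▸ hcardle
        _ ≤ (r + r) * 2 ^ w := by rw [hw]; exact Nat.mul_le_mul_right _ hNFc
        _ = 2 ^ (w + 1) * r := by ring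
    exact (Nat.pow_le_pow_iff_right (by norm_num)).1 (Nat.le_of_mul_le_mul_right h6 hr.pos)
  have hw1 : w + 1 = s := by omega
  -- the involutions in the centre of `W`
  have hWF : ∀ g ∈ W', g ∈ A.F e₀ → g = 1 := fun g hg hgF => by
    by_contra hg1
    have h4 := S.orderOf_F hgF hg1
    have h5 : orderOf g ∣ 2 ^ w := by
      rw [← hw, ← hW'c, ← Subgroup.orderOf_mk g hg]; exact orderOf_dvd_natCard _
    rw [h4] at h5
    have := (Nat.prime_dvd_prime_iff_eq S.prime Nat.prime_two).1 (S.prime.dvd_of_dvd_pow h5)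
    omega
  have hfpf : ∀ g ∈ W', g * y = y * g → g = 1 := fun g hg hgy =>
    hWF g hg (S.cent y hy hy1 g hgy)
  have hhW : h ∉ W' := by
    intro hhW
    have h4 : h * (y * h * y⁻¹) ∈ W' := mul_mem hhW (hconjW y (hFL hy) h hhW)
    have h5 : h * (y * h * y⁻¹) = y⁻¹ * y⁻¹ := by
      have h6 : h * y * h = y⁻¹ := by
        have := hinv y hy
        rwa [inv_eq_of_mul_eq_one_left hh] at this
      calc h * (y * h * y⁻¹) = (h * y * h) * y⁻¹ := by group
        _ = _ := by rw [h6]
    have h7 := hWF _ h4 (by rw [h5]; exact mul_mem (inv_mem hy) (inv_mem hy))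
    rw [h5, ← mul_inv_rev, inv_eq_one] at h7
    have h8 : orderOf y ∣ 2 := orderOf_dvd_of_pow_eq_one (by rw [pow_two, h7])
    rw [S.orderOf_F hy hy1] at h8
    have := Nat.le_of_dvd two_pos h8
    omega
  set P := W' ⊔ zpowers h with hP
  have hmemP : ∀ g ∈ P, g ∈ W' ∨ h * g ∈ W' := by
    intro g hg
    rw [hP] at hg
    have hnle : zpowers h ≤ normalizer (W' : Set X) := by
      rw [zpowers_le, mem_normalizer_iff]
      intro m
      refine ⟨hconjW h hhL m, fun hm => ?_⟩
      have := hconjW h hhL _ hm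
      rwa [show h * (h * m * h⁻¹) * h⁻¹ = (h * h) * m * (h * h)⁻¹ by group, hh, one_mul, inv_one,
        mul_one] at this
    have hg' : g ∈ ((W' : Set X) * (zpowers h : Set X)) := by
      rw [← coe_mul_of_right_le_normalizer_left _ _ hnle]; exact hg
    obtain ⟨a, ha, b, hb, rfl⟩ := hg'
    obtain ⟨i, rfl⟩ := mem_zpowers_iff.1 hb
    rcases Int.even_or_odd i with ⟨j, rfl⟩ | ⟨j, rfl⟩
    · left
      show a * h ^ (j + j) ∈ W'
      rw [zpow_add, ← Commute.mul_zpow (Commute.refl h), hh, one_zpow, mul_one]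
      exact ha
    · right
      show h * (a * h ^ (2 * j + 1)) ∈ W'
      rw [zpow_add, show 2 * j = j + j by ring, zpow_add, ← Commute.mul_zpow (Commute.refl h), hh,
        one_zpow, zpow_one, one_mul, ← mul_assoc]
      have h4 := hconjW h hhL a ha
      rwa [inv_eq_of_mul_eq_one_left hh] at h4
  have hPc : Nat.card P = 2 ^ s := by
    refine le_antisymm ?_ ?_
    · have h4 : Nat.card P ≤ Nat.card (W' ⊕ W') := by
        refine Nat.card_le_card_of_injective (fun g : P =>
          if hg : (g : X) ∈ W' then Sum.inl ⟨_, hg⟩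
          else Sum.inr ⟨h * g, (hmemP g g.2).resolve_left hg⟩) fun a b hab => ?_
        dsimp only at hab
        split_ifs at hab with ha hb hb <;>
          simp only [Sum.inl.injEq, Sum.inr.injEq, Subtype.mk.injEq, mul_right_inj, reduceCtorEq] at hab <;>
          exact Subtype.ext hab
      rw [Nat.card_sum, hW'c, hw] at h4
      rw [← hw1, pow_succ]
      omega
    · have h4 := card_mul_index (W'.subgroupOf P)
      rw [Nat.card_congr (subgroupOfEquivOfLe (le_sup_left : W' ≤ P)).toEquiv, hW'c, hw] at h4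
      have h5 : (W'.subgroupOf P).index ≠ 1 := fun h0 => hhW (by
        have := index_eq_one.1 h0
        rw [subgroupOf_eq_top] at this
        exact this (mem_sup_right (mem_zpowers h)))
      have h6 : (W'.subgroupOf P).index ≠ 0 := index_ne_zero_of_finite
      have h7 : 2 ^ w * 2 ≤ 2 ^ w * (W'.subgroupOf P).index := Nat.mul_le_mul_left _ (by omega)
      rw [h4] at h7
      rwa [← hw1, pow_succ]
  let B : Subgroup X :=
    { carrier := {g | g ∈ W' ∧ g * g = 1 ∧ ∀ m ∈ W', m * g = g * m}
      one_mem' := ⟨one_mem _, one_mul 1, fun m _ => by rw [one_mul, mul_one]⟩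
      mul_mem' := fun {a b} ⟨ha, ha2, hac⟩ ⟨hb, hb2, hbc⟩ => ⟨mul_mem ha hb, by
          rw [mul_assoc, ← mul_assoc b a b, hac b hb, mul_assoc a b b, hb2, mul_one, ha2],
        fun m hm => by rw [← mul_assoc, hac m hm, mul_assoc, hbc m hm, mul_assoc]⟩
      inv_mem' := fun {a} ⟨ha, ha2, hac⟩ => by
        rw [inv_eq_of_mul_eq_one_left ha2]; exact ⟨ha, ha2, hac⟩ }
  have hBW : B ≤ W' := fun g hg => hg.1
  have hconjB : ∀ g ∈ L, ∀ b ∈ B, g * b * g⁻¹ ∈ B := by
    intro g hg b ⟨hb, hb2, hbc⟩
    refine ⟨hconjW g hg b hb, by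
      calc g * b * g⁻¹ * (g * b * g⁻¹) = g * (b * b) * g⁻¹ := by group
        _ = 1 := by rw [hb2]; group, fun m hm => ?_⟩
    have hm' : g⁻¹ * m * g ∈ W' := by
      have := hconjW g⁻¹ (inv_mem hg) m hm
      rwa [inv_inv] at this
    calc m * (g * b * g⁻¹) = g * ((g⁻¹ * m * g) * b) * g⁻¹ := by group
      _ = _ := by rw [hbc _ hm']; group
  obtain ⟨a, haB, ha1⟩ : ∃ a ∈ B, a ≠ 1 := by
    haveI : Nontrivial W' := by
      rw [← Finite.one_lt_card_iff_nontrivial, hW'c, hw]
      exact Nat.one_lt_two_pow (by omega)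
    have hWp : IsPGroup 2 W' := IsPGroup.of_card (hW'c.trans hw)
    haveI := hWp.center_nontrivial
    obtain ⟨z, hz⟩ := exists_prime_orderOf_dvd_card' (G := center W') 2 (by
      obtain ⟨i, hi⟩ := IsPGroup.iff_card.1 (hWp.to_subgroup (center W'))
      rw [hi]
      exact dvd_pow_self 2 fun h0 => by
        have h4 : 1 < Nat.card (center W') := Finite.one_lt_card
        rw [hi, h0] at h4
        simp at h4)
    have hz1 : z ≠ 1 := fun h0 => by rw [h0, orderOf_one] at hz; norm_num at hz
    refine ⟨((z : W') : X), ⟨(z : W').2, ?_, fun m hm => ?_⟩, fun h0 =>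
      hz1 (Subtype.ext (Subtype.ext h0))⟩
    · have h4 := pow_orderOf_eq_one z
      rw [hz, pow_two] at h4
      exact congrArg (fun q : center W' => ((q : W') : X)) h4
    · exact congrArg Subtype.val (mem_center_iff.1 z.2 ⟨m, hm⟩)
  have hfix : ∀ b ∈ B, (b * (h * b * h⁻¹)) * h = h * (b * (h * b * h⁻¹)) := by
    intro b hb
    have hb' := hconjB h hhL b hb
    rw [inv_eq_of_mul_eq_one_left hh] at hb' ⊢
    calc b * (h * b * h) * h = b * h * b * (h * h) := by group
      _ = (h * h) * (b * h * b) := by rw [hh, one_mul, mul_one]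
      _ = h * ((h * b * h) * b) := by group
      _ = _ := by rw [hb.2.2 _ (hBW hb')]
  obtain ⟨u, huB, hu1, huh⟩ : ∃ u ∈ B, u ≠ 1 ∧ u * h = h * u := by
    by_cases h4 : a * (h * a * h⁻¹) = 1
    · refine ⟨a, haB, ha1, ?_⟩
      have h5 : h * a * h⁻¹ = a := by
        rw [mul_eq_one_iff_inv_eq, inv_eq_of_mul_eq_one_left haB.2.1] at h4
        exact h4.symm
      exact (mul_inv_eq_iff_eq_mul.1 h5).symm
    · exact ⟨_, mul_mem haB (hconjB h hhL a haB), h4, hfix a haB⟩
  have hcentP : ∀ b ∈ B, b * h = h * b → ∀ g ∈ P, g * b = b * g := by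
    intro b hb hbh
    have : P ≤ centralizer ({b} : Set X) := sup_le
      (fun g hg => mem_centralizer_singleton_iff.2 (hb.2.2 g hg))
      (zpowers_le.2 (mem_centralizer_singleton_iff.2 hbh.symm))
    exact fun g hg => mem_centralizer_singleton_iff.1 (this hg)
  have hCu : centralizer ({u} : Set X) = P := S.eq_cent hPc huB.2.1 hu1 (hcentP u huB huh)
  have honly : ∀ b ∈ B, b * h = h * b → b = 1 ∨ b = u := by
    intro b hb hbh
    refine or_iff_not_imp_left.2 fun hb1 => S.unique_central huB.2.1 hu1 hb.2.1 hb1 ?_ ?_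
    · rw [hCu]; exact mem_sup_left (hBW hb)
    · rw [hCu]; exact hcentP b hb hbh
  have hB4 : Nat.card B ≤ 4 := by
    have hval : ∀ b : B, (b : X) * (h * b * h⁻¹) = 1 ∨ (b : X) * (h * b * h⁻¹) = u := fun b =>
      honly _ (mul_mem b.2 (hconjB h hhL b b.2)) (hfix b b.2)
    obtain hnone | ⟨b0, hb0⟩ := Classical.em (∀ b : B, (b : X) * (h * b * h⁻¹) = 1) |>.imp_right
      (fun hn => not_forall.1 hn)
    · refine le_trans (Nat.card_le_card_of_injective (β := Bool) (fun b : B => decide ((b : X) = 1))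
        fun b b' hbb => ?_) (by simp)
      have hb2 : ∀ b : B, (b : X) = 1 ∨ (b : X) = u := fun b => honly _ b.2 (by
        have h4 := hnone b
        rw [mul_eq_one_iff_inv_eq, inv_eq_of_mul_eq_one_left b.2.2.1] at h4
        exact (mul_inv_eq_iff_eq_mul.1 h4.symm).symm)
      apply Subtype.ext
      rcases hb2 b with h4 | h4 <;> rcases hb2 b' with h5 | h5 <;> simp [h4, h5, hu1] at hbb ⊢
    · refine le_trans (Nat.card_le_card_of_injective (β := Bool × Bool)
        (fun b : B => (decide ((b : X) * (h * b * h⁻¹) = 1),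
          if (b : X) * (h * b * h⁻¹) = 1 then decide ((b : X) = 1) else decide ((b : X) = b0)))
        fun b b' hbb => ?_) (by simp)
      have hfix0 : ∀ c : B, (c : X) * (h * c * h⁻¹) = 1 → (c : X) = 1 ∨ (c : X) = u := fun c hc =>
        honly _ c.2 (by
          rw [mul_eq_one_iff_inv_eq, inv_eq_of_mul_eq_one_left c.2.2.1] at hc
          exact (mul_inv_eq_iff_eq_mul.1 hc.symm).symm)
      have hfix1 : ∀ c : B, ¬ (c : X) * (h * c * h⁻¹) = 1 → (c : X) = b0 ∨ (c : X) = b0 * u := by
        intro c hc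
        have hc' : (c : X) * (h * c * h⁻¹) = u := (hval c).resolve_left hc
        have hb0' : (b0 : X) * (h * b0 * h⁻¹) = u := (hval b0).resolve_left hb0
        have hd : ((b0 * c : B) : X) * (h * ((b0 * c : B) : X) * h⁻¹) = 1 := by
          rw [Subgroup.coe_mul]
          have hsw : (c : X) * (h * b0 * h⁻¹) = (h * b0 * h⁻¹) * c :=
            (c.2.2.2 _ (hBW (hconjB h hhL _ b0.2))).symm
          calc (b0 : X) * c * (h * (b0 * c) * h⁻¹)
              = b0 * (c * (h * b0 * h⁻¹)) * (h * c * h⁻¹) := by group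
            _ = (b0 * (h * b0 * h⁻¹)) * (c * (h * c * h⁻¹)) := by rw [hsw]; group
            _ = 1 := by rw [hb0', hc', huB.2.1]
        have hinv0 : (b0 : X) * b0 = 1 := b0.2.2.1
        rcases hfix0 _ hd with h4 | h4 <;> rw [Subgroup.coe_mul] at h4
        · left
          calc (c : X) = (b0 * b0) * c := by rw [hinv0, one_mul]
            _ = _ := by rw [mul_assoc, h4, mul_one]
        · right
          calc (c : X) = (b0 * b0) * c := by rw [hinv0, one_mul]
            _ = _ := by rw [mul_assoc, h4]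
      apply Subtype.ext
      simp only [Prod.mk.injEq, decide_eq_decide] at hbb
      obtain ⟨h4, h5⟩ := hbb
      by_cases hb : (b : X) * (h * b * h⁻¹) = 1
      · rw [if_pos hb, if_pos (h4.1 hb), decide_eq_decide] at h5
        rcases hfix0 b hb with h6 | h6 <;> rcases hfix0 b' (h4.1 hb) with h7 | h7 <;>
          simp [h6, h7, hu1] at h5 ⊢
      · rw [if_neg hb, if_neg (fun h0 => hb (h4.2 h0)), decide_eq_decide] at h5
        rcases hfix1 b hb with h6 | h6 <;> rcases hfix1 b' (fun h0 => hb (h4.2 h0)) with h7 | h7 <;>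
          simp [h6, h7, hu1] at h5 ⊢
  -- `y` moves `u` around an orbit of length `s`
  have horb : ∀ i : Fin s, y ^ (i : ℕ) * u * (y ^ (i : ℕ))⁻¹ ∈ B := fun i =>
    hconjB _ (pow_mem (hFL hy) _) u huB
  have horbinj : Function.Injective fun i : Fin s => y ^ (i : ℕ) * u * (y ^ (i : ℕ))⁻¹ := by
    intro i j hij
    by_contra hne
    have hd : y ^ ((i : ℤ) - j) ≠ 1 := by
      intro h0
      have h4 := orderOf_dvd_iff_zpow_eq_one.2 h0
      rw [S.orderOf_F hy hy1] at h4
      have h5 := Int.eq_zero_of_dvd_of_natAbs_lt_natAbs h4 (by omega)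
      exact hne (Fin.ext (by omega))
    set z := y ^ ((i : ℤ) - j) with hz
    have hzF : z ∈ A.F e₀ := zpow_mem hy _
    have hzu : Commute u z := by
      have h4 : z * u * z⁻¹ = u := by
        rw [hz, sub_eq_neg_add, zpow_add, zpow_neg, zpow_natCast, zpow_natCast, mul_inv_rev, inv_inv]
        calc (y ^ (j : ℕ))⁻¹ * y ^ (i : ℕ) * u * ((y ^ (i : ℕ))⁻¹ * y ^ (j : ℕ))
            = (y ^ (j : ℕ))⁻¹ * (y ^ (i : ℕ) * u * (y ^ (i : ℕ))⁻¹) * y ^ (j : ℕ) := by group
          _ = u := by rw [show y ^ (i : ℕ) * u * (y ^ (i : ℕ))⁻¹ = _ from hij]; group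
      exact (mul_inv_eq_iff_eq_mul.1 h4).symm
    exact hu1 (hWF u (hBW huB) (S.cent z hzF hd u hzu))
  have hBcard : s + 1 ≤ Nat.card B := by
    have : Nat.card (Option (Fin s)) ≤ Nat.card B := by
      refine Nat.card_le_card_of_injective (fun o => match o with
        | none => (1 : B)
        | some i => ⟨_, horb i⟩) fun o o' hoo => ?_
      rcases o with _ | i <;> rcases o' with _ | j
      · rfl
      · exact absurd (conj_eq_one_iff.1 (congrArg Subtype.val hoo).symm) hu1
      · exact absurd (conj_eq_one_iff.1 (congrArg Subtype.val hoo)) hu1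
      · exact congrArg some (horbinj (congrArg Subtype.val hoo))
    rw [Finite.card_option, Nat.card_fin] at this
    exact this
  obtain rfl : s = 3 := by omega
  have hw2 : w = 2 := by omega
  subst hw2
  have hBW' : B = W' := eq_of_le_of_card_ge hBW (by rw [hW'c, hw]; norm_num; omega)
  obtain ⟨b, hbB, hbh⟩ : ∃ b ∈ B, b * h ≠ h * b := by
    by_contra hcon
    push Not at hcon
    have : Nat.card B ≤ Nat.card Bool := Nat.card_le_card_of_injective (fun b : B => decide ((b : X) = 1))
      fun b b' hbb => by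
        apply Subtype.ext
        rcases honly b b.2 (hcon b b.2) with h4 | h4 <;>
          rcases honly b' b'.2 (hcon b' b'.2) with h5 | h5 <;> simp [h4, h5, hu1] at hbb ⊢
    simp at this
    omega
  have hsq : (h * b) ^ 2 = u := by
    have h4 : (h * b) ^ 2 = b * (h * b * h⁻¹) := by
      rw [inv_eq_of_mul_eq_one_left hh, pow_two]
      have h5 := hconjB h hhL b hbB
      rw [inv_eq_of_mul_eq_one_left hh] at h5
      calc h * b * (h * b) = (h * b * h) * b := by group
        _ = _ := hbB.2.2 _ (hBW h5)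
    rw [h4]
    refine (honly _ (mul_mem hbB (hconjB h hhL b hbB)) (hfix b hbB)).resolve_left fun h0 => hbh ?_
    rw [mul_eq_one_iff_inv_eq, inv_eq_of_mul_eq_one_left hbB.2.1] at h0
    exact (mul_inv_eq_iff_eq_mul.1 h0.symm).symm
  set D := closure ({h, b} : Set X) with hD
  have hhD : h ∈ D := subset_closure (Set.mem_insert _ _)
  have hbD : b ∈ D := subset_closure (Set.mem_insert_of_mem _ rfl)
  have huD : u ∈ D := hsq ▸ pow_mem (mul_mem hhD hbD) 2
  have hBD : B ≤ D := by
    have h4 : 3 ≤ Nat.card ↥(B ⊓ D) := by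
      have hbu : b ≠ u := fun h0 => hbh (h0 ▸ huh)
      have hb1 : b ≠ 1 := fun h0 => hbh (by rw [h0, one_mul, mul_one])
      exact three_le_card (a := (1 : ↥(B ⊓ D))) (b := ⟨u, huB, huD⟩) (c := ⟨b, hbB, hbD⟩)
        (fun h0 => hu1 (congrArg Subtype.val h0).symm) (fun h0 => hb1 (congrArg Subtype.val h0).symm)
        (fun h0 => hbu (congrArg Subtype.val h0).symm)
    have h5 : Nat.card B = 4 := by omega
    have h6 : Nat.card ↥(B ⊓ D) ∣ 4 := h5 ▸ card_dvd_of_le inf_le_left
    have h7 : Nat.card ↥(B ⊓ D) ≤ 4 := Nat.le_of_dvd (by norm_num) h6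
    have h8 : Nat.card ↥(B ⊓ D) = 4 := by
      interval_cases hh8 : Nat.card ↥(B ⊓ D) <;> first | rfl | norm_num at h6
    exact (eq_of_le_of_card_ge inf_le_left (by rw [h5, h8])).symm.le.trans inf_le_right
  have hPD : P ≤ D := sup_le (hBW' ▸ hBD) (zpowers_le.2 hhD)
  refine ⟨S.inj, by rw [S.cardE]; norm_num, by rw [S.card_X]; norm_num,
    fun x hx hx1 => by rw [S.card_cent hx hx1]; norm_num, fun T => ?_⟩
  have hT : Nat.card (T : Subgroup X) = 8 :=
    (card_sylow_eq (n := 3) (m := 21) (by decide) (by rw [S.card_X]; norm_num) T).trans (by norm_num)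
  refine ⟨hT, ?_⟩
  let T0 : Sylow 2 X := (IsPGroup.of_card hPc).toSylow (by
    rw [index_of_card_mul (H := P) (m := 21) (by rw [S.card_X, hPc]; norm_num)]
    norm_num)
  obtain ⟨c, hc⟩ := MulAction.exists_smul_eq X T0 T
  have hmemT : ∀ g, g ∈ P → c * g * c⁻¹ ∈ (T : Subgroup X) := by
    intro g hg
    rw [← hc, Sylow.coe_subgroup_smul]
    exact Subgroup.smul_mem_pointwise_smul g (MulAut.conj c) _ hg
  have hbP : b ∈ P := mem_sup_left (hBW hbB)
  have hhP : h ∈ P := mem_sup_right (mem_zpowers h)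
  have hprod : c * h * c⁻¹ * (c * b * c⁻¹) = c * (h * b) * c⁻¹ := by group
  refine ⟨_, hmemT h hhP, _, hmemT b hbP, ?_, ?_, ?_, ?_, ?_⟩
  · calc c * h * c⁻¹ * (c * h * c⁻¹) = c * (h * h) * c⁻¹ := by group
      _ = 1 := by rw [hh]; group
  · calc c * b * c⁻¹ * (c * b * c⁻¹) = c * (b * b) * c⁻¹ := by group
      _ = 1 := by rw [hbB.2.1]; group
  · rw [hprod, conj_pow, hsq]
    exact fun h0 => hu1 (conj_eq_one_iff.1 h0)
  · rw [hprod, conj_pow, show (h * b) ^ 4 = ((h * b) ^ 2) ^ 2 by rw [← pow_mul], hsq, pow_two, huB.2.1]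
    group
  · intro g hg
    have hg' : c⁻¹ * g * c ∈ P := by
      have h1 : g ∈ ((c • T0 : Sylow 2 X) : Subgroup X) := hc.symm ▸ hg
      rw [Sylow.coe_subgroup_smul, Subgroup.mem_pointwise_smul_iff_inv_smul_mem] at h1
      have h9 : c⁻¹ * g * c ∈ (T0 : Subgroup X) := by
        simpa [← map_inv, MulAut.smul_def, mul_assoc] using h1
      exact h9
    have h10 : MulAut.conj c (c⁻¹ * g * c) ∈ D.map (MulAut.conj c).toMonoidHom :=
      ⟨_, hPD hg', rfl⟩
    rw [hD, MonoidHom.map_closure, Set.image_pair] at h10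
    simpa [MulAut.conj_apply, mul_assoc] using h10

end Aff

section Main

/-- **The affine lemma.** -/
theorem Aff.cases {X : Type u} {E : Type v} [Group X] [AddCommGroup E] [DistribMulAction X E]
    [Finite X] [Finite E] (A : Aff X E) (hE : 2 < Nat.card E) :
    (∀ e, ∃ g : X, (∀ x : E, g • x = x) ∧ A.δ g = e) ∨ Aff.Exceptional A := by
  suffices H : ∀ (n : ℕ) (X : Type u) [Group X] [DistribMulAction X E] [Finite X] (A : Aff X E),
      Nat.card X = n → (∀ e, ∃ g : X, (∀ x : E, g • x = x) ∧ A.δ g = e) ∨ Aff.Exceptional A from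
    H _ X A rfl
  intro n
  induction n using Nat.strong_induction_on with
  | _ n ih =>
  intro X _ _ _ A hn
  by_cases hinj : ∀ g : X, (∀ e : E, g • e = e) → g = 1
  · right
    obtain ⟨e₀, he₀⟩ : ∃ e₀ : E, e₀ ≠ 0 := by
      haveI : Nontrivial E := Finite.one_lt_card_iff_nontrivial.1 (by omega)
      exact exists_ne 0
    obtain ⟨s, hs, hs3, hF, hQ, hC, hfix⟩ := A.prime_stage hinj he₀ hE (fun H hk hH => by
      by_contra hne
      have hlt : Nat.card H < n := by
        rw [← hn]
        refine lt_of_le_of_ne (Nat.le_of_dvd Nat.card_pos (card_subgroup_dvd_card H)) fun h => ?_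
        exact hne (eq_top_of_card_eq H h)
      rcases ih _ hlt H (A.restrict H hk hH) rfl with h | h
      · obtain ⟨g, hg, hge⟩ := h e₀
        rw [show g = 1 from Subtype.ext (hinj g hg)] at hge
        exact he₀ (hge.symm.trans A.δ_one)
      · have h8 := h.cardE
        have h168 := h.cardX
        have hXc := A.card_group
        rw [A.card_X0 hinj he₀, h8] at hXc
        have hk1 := A.card_zpowers_k hinj he₀
        rw [h8] at hk1
        obtain ⟨hcyc, hpow⟩ := A.semilinear hinj he₀
        obtain ⟨g, hg⟩ := hcyc.exists_generator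
        have hF3 : Nat.card (A.F e₀) ≤ 3 := by
          have h := hpow g g.2
          rw [Subgroup.orderOf_coe, orderOf_eq_card_of_forall_mem_zpowers hg, h8] at h
          set m := Nat.card {e : E // (g : X) • e = e}
          by_contra hcon
          rcases Nat.lt_or_ge m 2 with hm | hm
          · interval_cases m <;> simp [Nat.card_pos.ne'] at h
          · have : 2 ^ 4 ≤ m ^ Nat.card (A.F e₀) :=
              (Nat.pow_le_pow_left hm 4).trans (Nat.pow_le_pow_right (by omega) (by omega))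
            omega
        have : Nat.card X ≤ 168 := by
          rw [hXc, show Nat.card (zpowers A.k) = 7 by omega]
          omega
        omega)
    exact Aff.Small.exceptional ⟨hinj, he₀, hs, hs3, hF, hQ, hC, hfix⟩
  · left
    push Not at hinj
    obtain ⟨g₀, hg₀, hne⟩ := hinj
    have h0 : A.δ g₀ ≠ 0 := fun h => hne (A.faith g₀ hg₀ h)
    intro e
    rcases eq_or_ne e 0 with rfl | he
    · exact ⟨1, fun x => one_smul _ x, A.δ_one⟩
    · obtain ⟨j, hj⟩ := A.trans _ e h0 he
      refine ⟨A.k ^ j * g₀ * (A.k ^ j)⁻¹, fun x => by rw [mul_smul, mul_smul, hg₀, smul_inv_smul], ?_⟩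
      rw [A.δ_mul_mem _ (A.X0.inv_mem (A.δ_k_pow j)), A.δ_mul, A.δ_k_pow, zero_add, hj]

end Main

end Cfsg.Agent.InvolTimesPSL
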