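import Cfsg.Agent.Lib.InvolTimesPSL.Semilinear
import Mathlib.GroupTheory.Sylow

/-!
# Affine groups whose point stabiliser normalises a Singer cycle: first facts

`Aff X E`: `X` acts on the elementary abelian `2`-group `E` linearly and, through the cocycle `δ`,
affinely by `e ↦ δ g + g • e`, faithfully and transitively; the stabiliser of `0` has odd order and
normalises the action of `k`, whose powers are transitive on `E \ {0}`.
-/

set_option autoImplicit false
set_option linter.style.haveILetI false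

namespace Cfsg.Agent.InvolTimesPSL

open Subgroup

universe u v

/-- Affine data, see the file header. -/
structure Aff (X : Type u) (E : Type v) [Group X] [AddCommGroup E] [DistribMulAction X E] where
  δ : X → E
  δ_mul : ∀ g h, δ (g * h) = δ g + g • δ h
  two : ∀ e : E, e + e = 0
  surj : ∀ e, ∃ g, δ g = e
  faith : ∀ g : X, (∀ e : E, g • e = e) → δ g = 0 → g = 1
  k : X
  δ_k : δ k = 0
  trans : ∀ e e' : E, e ≠ 0 → e' ≠ 0 → ∃ j : ℕ, k ^ j • e = e'
  norm : ∀ g : X, δ g = 0 → ∃ j : ℕ, ∀ e : E, (g * k * g⁻¹) • e = k ^ j • e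
  odd : ∀ g : X, δ g = 0 → Odd (orderOf g)

namespace Aff

variable {X : Type u} {E : Type v} [Group X] [AddCommGroup E] [DistribMulAction X E] (A : Aff X E)

theorem δ_one : A.δ 1 = 0 := by
  have h := A.δ_mul 1 1
  rw [one_mul, one_smul] at h
  exact (left_eq_add).1 h

include A in
theorem neg_eq (e : E) : -e = e := neg_eq_of_add_eq_zero_left (A.two e)

theorem δ_inv (g : X) : A.δ g⁻¹ = g⁻¹ • A.δ g := by
  have h := A.δ_mul g⁻¹ g
  rw [inv_mul_cancel, A.δ_one] at h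
  rw [eq_neg_of_add_eq_zero_left h.symm, A.neg_eq]

/-- The affine action. -/
def act (g : X) (e : E) : E := A.δ g + g • e

theorem act_zero (g : X) : A.act g 0 = A.δ g := by rw [act, smul_zero, add_zero]

theorem act_one (e : E) : A.act 1 e = e := by rw [act, A.δ_one, one_smul, zero_add]

theorem act_mul (g h : X) (e : E) : A.act (g * h) e = A.act g (A.act h e) := by
  rw [act, act, act, A.δ_mul, mul_smul, smul_add, add_assoc]

theorem act_of_δ {g : X} (hg : A.δ g = 0) (e : E) : A.act g e = g • e := by rw [act, hg, zero_add]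

theorem act_injective (g : X) : Function.Injective (A.act g) := fun a b h => by
  simpa [← act_mul, act_one] using congrArg (A.act g⁻¹) h

theorem act_inv_eq {g : X} {e e' : E} (h : A.act g e = e') : A.act g⁻¹ e' = e := by
  rw [← h, ← A.act_mul, inv_mul_cancel, A.act_one]

/-- The stabiliser of `0`. -/
def X0 : Subgroup X where
  carrier := {g | A.δ g = 0}
  one_mem' := A.δ_one
  mul_mem' {a b} ha hb := by
    show A.δ (a * b) = 0
    rw [A.δ_mul, (ha : A.δ a = 0), (hb : A.δ b = 0), smul_zero, add_zero]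
  inv_mem' {a} ha := by
    show A.δ a⁻¹ = 0
    rw [A.δ_inv, (ha : A.δ a = 0), smul_zero]

theorem mem_X0 {g : X} : g ∈ A.X0 ↔ A.δ g = 0 := Iff.rfl

theorem δ_mul_mem (g : X) {h : X} (hh : h ∈ A.X0) : A.δ (g * h) = A.δ g := by
  rw [A.δ_mul, (hh : A.δ h = 0), smul_zero, add_zero]

theorem δ_eq_iff {g h : X} : A.δ g = A.δ h ↔ g⁻¹ * h ∈ A.X0 := by
  rw [mem_X0, A.δ_mul, A.δ_inv, ← smul_add, smul_eq_zero_iff_eq, add_eq_zero_iff_eq_neg, A.neg_eq]

theorem δ_k_pow (j : ℕ) : A.δ (A.k ^ j) = 0 := pow_mem (show A.k ∈ A.X0 from A.δ_k) j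

theorem conj_mem_X0 {g h : X} : h⁻¹ * g * h ∈ A.X0 ↔ A.act g (A.δ h) = A.δ h := by
  rw [mem_X0, ← A.act_zero (h⁻¹ * g * h), A.act_mul, A.act_mul, A.act_zero]
  constructor
  · intro e
    have := congrArg (A.act h) e
    rwa [← A.act_mul, mul_inv_cancel, A.act_one, A.act_zero] at this
  · intro e
    rw [e, ← A.act_zero h, ← A.act_mul, inv_mul_cancel, A.act_one]

/-- `|H| = |E| |H_0|` for a subgroup transitive on points. -/
theorem card_eq_mul (H : Subgroup X) (hH : ∀ e, ∃ g ∈ H, A.δ g = e) :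
    Nat.card H = Nat.card E * Nat.card ↥(H ⊓ A.X0) := by
  choose f hf hf' using hH
  rw [← Nat.card_prod]
  refine (Nat.card_eq_of_bijective (fun p : E × ↥(H ⊓ A.X0) =>
    (⟨f p.1 * p.2, H.mul_mem (hf p.1) p.2.2.1⟩ : H)) ⟨?_, ?_⟩).symm
  · rintro ⟨e, c⟩ ⟨e', c'⟩ h
    have h1 : f e * (c : X) = f e' * (c' : X) := congrArg Subtype.val h
    have h2 := congrArg A.δ h1
    rw [A.δ_mul_mem _ c.2.2, A.δ_mul_mem _ c'.2.2, hf', hf'] at h2
    subst h2
    rw [mul_left_cancel_iff] at h1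
    rw [Subtype.ext h1]
  · rintro ⟨g, hg⟩
    refine ⟨⟨A.δ g, ⟨(f (A.δ g))⁻¹ * g, H.mul_mem (H.inv_mem (hf _)) hg, ?_⟩⟩, Subtype.ext ?_⟩
    · exact A.δ_eq_iff.1 (hf' _)
    · exact mul_inv_cancel_left _ _

theorem card_group : Nat.card X = Nat.card E * Nat.card A.X0 := by
  rw [← card_top (G := X), A.card_eq_mul ⊤ (fun e => ?_), top_inf_eq]
  obtain ⟨g, hg⟩ := A.surj e
  exact ⟨g, trivial, hg⟩

/-- Restriction to a transitive subgroup containing `k`. -/
def restrict (H : Subgroup X) (hk : A.k ∈ H) (hH : ∀ e, ∃ g ∈ H, A.δ g = e) : Aff H E where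
  δ := fun g => A.δ g
  δ_mul := fun g h => A.δ_mul g h
  two := A.two
  surj := fun e => by obtain ⟨g, hg, he⟩ := hH e; exact ⟨⟨g, hg⟩, he⟩
  faith := fun g h1 h2 => Subtype.ext (A.faith g h1 h2)
  k := ⟨A.k, hk⟩
  δ_k := A.δ_k
  trans := fun e e' he he' => A.trans e e' he he'
  norm := fun g hg => A.norm g hg
  odd := fun g hg => by rw [← Subgroup.orderOf_coe]; exact A.odd g hg

/-! ### The injective case -/

section Inj

variable (hinj : ∀ g : X, (∀ e : E, g • e = e) → g = 1) {e₀ : E} (he₀ : e₀ ≠ 0)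

include hinj in
theorem k_conj {g : X} (hg : g ∈ A.X0) : ∃ j : ℕ, g * A.k * g⁻¹ = A.k ^ j := by
  obtain ⟨j, hj⟩ := A.norm g hg
  refine ⟨j, eq_of_mul_inv_eq_one (hinj _ fun e => ?_)⟩
  rw [mul_smul, hj, smul_inv_smul]

include hinj in
theorem k_pow_eq_one {j : ℕ} {e : E} (he : e ≠ 0) (h : A.k ^ j • e = e) : A.k ^ j = 1 := by
  refine hinj _ fun e' => ?_
  rcases eq_or_ne e' 0 with rfl | he'
  · exact smul_zero _
  · obtain ⟨i, hi⟩ := A.trans e e' he he'
    rw [← hi, ← mul_smul, (Commute.pow_pow_self A.k j i).eq, mul_smul, h]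

include hinj in
theorem zpowers_k_eq_one [Finite X] {x : X} (hx : x ∈ zpowers A.k) {e : E} (he : e ≠ 0)
    (h : x • e = e) : x = 1 := by
  obtain ⟨j, rfl⟩ := mem_powers_iff_mem_zpowers.2 hx
  exact A.k_pow_eq_one hinj he h

include he₀ in
theorem zpowers_k_trans [Finite X] {e : E} (he : e ≠ 0) : ∃ x ∈ zpowers A.k, x • e₀ = e := by
  obtain ⟨j, hj⟩ := A.trans e₀ e he₀ he
  exact ⟨_, npow_mem_zpowers _ _, hj⟩

theorem zpowers_k_le : zpowers A.k ≤ A.X0 := zpowers_le.2 A.δ_k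

include hinj he₀ in
theorem card_zpowers_k [Finite X] [Finite E] : Nat.card (zpowers A.k) + 1 = Nat.card E := by
  classical
  have : Fintype E := Fintype.ofFinite E
  have hne : ∀ x : zpowers A.k, (x : X) • e₀ ≠ 0 := fun x h =>
    he₀ ((smul_eq_zero_iff_eq _).1 h)
  have h := Nat.card_eq_of_bijective
    (fun x : zpowers A.k => (⟨(x : X) • e₀, hne x⟩ : {e : E // e ≠ 0})) ⟨?_, ?_⟩
  · rw [h, Nat.card_eq_fintype_card, Fintype.card_subtype_compl, Fintype.card_subtype_eq,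
      ← Nat.card_eq_fintype_card]
    have := Nat.card_pos (α := E)
    omega
  · intro a b hab
    have h1 : (a : X) • e₀ = (b : X) • e₀ := congrArg Subtype.val hab
    refine Subtype.ext (inv_mul_eq_one.1 (A.zpowers_k_eq_one hinj
      (mul_mem (inv_mem b.2) a.2) he₀ ?_)).symm
    rw [mul_smul, h1, inv_smul_smul]
  · rintro ⟨e, he⟩
    obtain ⟨x, hx, hxe⟩ := A.zpowers_k_trans he₀ he
    exact ⟨⟨x, hx⟩, Subtype.ext hxe⟩

/-- The stabiliser of the two points `0`, `e`. -/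
def F (e : E) : Subgroup X := A.X0 ⊓ MulAction.stabilizer X e

theorem mem_F {e : E} {g : X} : g ∈ A.F e ↔ A.δ g = 0 ∧ g • e = e := Iff.rfl

include he₀ in
theorem exists_k_mul_F [Finite X] {g : X} (hg : g ∈ A.X0) :
    ∃ x ∈ zpowers A.k, x⁻¹ * g ∈ A.F e₀ := by
  obtain ⟨x, hx, hxe⟩ := A.zpowers_k_trans he₀
    (show g • e₀ ≠ 0 from fun h => he₀ ((smul_eq_zero_iff_eq _).1 h))
  refine ⟨x, hx, A.X0.mul_mem (A.X0.inv_mem (A.zpowers_k_le hx)) hg, ?_⟩
  show (x⁻¹ * g) • e₀ = e₀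
  rw [mul_smul, ← hxe, inv_smul_smul]

include hinj he₀ in
theorem card_X0 [Finite X] [Finite E] :
    Nat.card A.X0 = Nat.card (zpowers A.k) * Nat.card (A.F e₀) := by
  rw [← Nat.card_prod]
  refine (Nat.card_eq_of_bijective (fun p : zpowers A.k × A.F e₀ =>
    (⟨p.1 * p.2, A.X0.mul_mem (A.zpowers_k_le p.1.2) p.2.2.1⟩ : A.X0)) ⟨?_, ?_⟩).symm
  · rintro ⟨a, b⟩ ⟨a', b'⟩ h
    have h1 : (a : X) * b = (a' : X) * b' := congrArg Subtype.val h
    have h2 : (a : X) = a' := by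
      refine (inv_mul_eq_one.1 (A.zpowers_k_eq_one hinj (mul_mem (inv_mem a'.2) a.2) he₀ ?_)).symm
      have h3 := congrArg (fun z : X => z • e₀) h1
      simp only [mul_smul] at h3
      have hb : (b : X) • e₀ = e₀ := b.2.2
      have hb' : (b' : X) • e₀ = e₀ := b'.2.2
      rw [hb, hb'] at h3
      rw [mul_smul, h3, inv_smul_smul]
    rw [h2, mul_left_cancel_iff] at h1
    rw [Subtype.ext h2, Subtype.ext h1]
  · rintro ⟨g, hg⟩
    obtain ⟨x, hx, hxg⟩ := A.exists_k_mul_F he₀ hg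
    exact ⟨⟨⟨x, hx⟩, ⟨_, hxg⟩⟩, Subtype.ext (mul_inv_cancel_left _ _)⟩

include he₀ in
/-- The affine action is doubly transitive. -/
theorem two_trans [Finite X] {p q : E} (hpq : p ≠ q) :
    ∃ h, A.δ h = p ∧ A.act h e₀ = q := by
  obtain ⟨g, hg⟩ := A.surj p
  have hne : A.act g⁻¹ q ≠ 0 := by
    intro h
    have := congrArg (A.act g) h
    rw [← A.act_mul, mul_inv_cancel, A.act_one, A.act_zero, hg] at this
    exact hpq this.symm
  obtain ⟨x, hx, hxe⟩ := A.zpowers_k_trans he₀ hne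
  refine ⟨g * x, by rw [A.δ_mul_mem _ (A.zpowers_k_le hx), hg], ?_⟩
  rw [A.act_mul, A.act_of_δ (A.zpowers_k_le hx), hxe, ← A.act_mul, mul_inv_cancel, A.act_one]

theorem conj_mem_F {g h : X} {p q : E} (hp : A.act g p = p) (hq : A.act g q = q)
    (h1 : A.δ h = p) (h2 : A.act h e₀ = q) : h⁻¹ * g * h ∈ A.F e₀ := by
  have h0 : h⁻¹ * g * h ∈ A.X0 := A.conj_mem_X0.2 (by rw [h1]; exact hp)
  refine ⟨h0, ?_⟩
  show (h⁻¹ * g * h) • e₀ = e₀
  rw [← A.act_of_δ h0, A.act_mul, A.act_mul, h2, hq, A.act_inv_eq h2]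

include hinj he₀ in
theorem semilinear [Finite X] [Finite E] : IsCyclic (A.F e₀) ∧
    ∀ g ∈ A.F e₀, Nat.card E = Nat.card {e : E // g • e = e} ^ orderOf g := by
  obtain ⟨B, _, _, _, φ, hφ, hcard⟩ := exists_semilinear A.two A.k A.trans he₀ (A.F e₀)
    (fun g hg => hg.2) (fun g hg => A.norm g hg.1)
  have hi : Function.Injective φ := (injective_iff_map_eq_one φ).2 fun g hg =>
    Subtype.ext (hinj _ ((hφ g).1 hg))
  refine ⟨isCyclic_of_injective φ hi, fun g hg => ?_⟩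
  have h := hcard ⟨g, hg⟩
  rwa [orderOf_injective φ hi, Subgroup.orderOf_mk] at h

end Inj

end Aff

end Cfsg.Agent.InvolTimesPSL
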