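import Cfsg.Agent.Lib.InvolTimesPSL.AffineBasic
import Mathlib.GroupTheory.Transfer
import Mathlib.Algebra.GCDMonoid.Nat

/-!
# Affine groups: the two-point stabiliser has prime order

For affine data with faithful linear part: the two-point stabiliser `F` is nontrivial, and, if no
proper transitive subgroup contains `k`, it is of prime order `s`, `|E| = 2 ^ s` and `F` is its own
centraliser.
-/

set_option autoImplicit false
set_option linter.style.haveILetI false

namespace Cfsg.Agent.InvolTimesPSL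

open Subgroup

/-- In a cyclic group the elements of exponent dividing `orderOf a` are the powers of `a`. -/
theorem mem_zpowers_of_pow_eq_one {G : Type*} [Group G] [Finite G] [IsCyclic G] {a x : G}
    (hx : x ^ orderOf a = 1) : x ∈ zpowers a := by
  classical
  have : Fintype G := Fintype.ofFinite G
  have hpos : 0 < orderOf a := orderOf_pos a
  set U := Finset.univ.filter fun g : G => g ^ orderOf a = 1 with hU
  set V := Finset.univ.filter fun g : G => g ∈ zpowers a with hV
  have hsub : V ⊆ U := fun g hg => by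
    simp only [hV, hU, Finset.mem_filter, Finset.mem_univ, true_and] at hg ⊢
    obtain ⟨i, rfl⟩ := mem_zpowers_iff.1 hg
    rw [← zpow_natCast, ← zpow_mul, mul_comm, zpow_mul, zpow_natCast, pow_orderOf_eq_one, one_zpow]
  have hVc : V.card = orderOf a := by
    rw [← Nat.card_zpowers, Nat.card_eq_fintype_card, Fintype.card_subtype]
  have := Finset.eq_of_subset_of_card_le hsub (hVc ▸ IsCyclic.card_pow_eq_one_le hpos)
  have hxU : x ∈ U := by simp [hU, hx]
  rw [← this] at hxU
  simpa [hV] using hxU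

/-- The order of a Sylow `2`-subgroup. -/
theorem card_sylow_eq {G : Type*} [Group G] [Finite G] {n m : ℕ} (hm : Odd m)
    (h : Nat.card G = 2 ^ n * m) (S : Sylow 2 G) : Nat.card (S : Subgroup G) = 2 ^ n := by
  have : Fact (Nat.Prime 2) := ⟨Nat.prime_two⟩
  rw [Sylow.card_eq_multiplicity, h, Nat.factorization_mul (by positivity) hm.pos.ne',
    Finsupp.add_apply, Nat.Prime.factorization_pow Nat.prime_two, Finsupp.single_eq_same,
    Nat.factorization_eq_zero_of_not_dvd hm.not_two_dvd_nat, add_zero]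

namespace Aff

universe u v

variable {X : Type u} {E : Type v} [Group X] [AddCommGroup E] [DistribMulAction X E] (A : Aff X E)
  [Finite X] [Finite E]

omit [Finite X] in
include A in
theorem exists_card_pow : ∃ n : ℕ, Nat.card E = 2 ^ n := by
  have : Fact (Nat.Prime 2) := ⟨Nat.prime_two⟩
  have h : IsPGroup 2 (Multiplicative E) := fun g => ⟨1, by
    rw [pow_one, pow_two]; exact Multiplicative.toAdd.injective (A.two (Multiplicative.toAdd g))⟩
  obtain ⟨n, hn⟩ := IsPGroup.iff_card.1 h
  exact ⟨n, (Nat.card_congr Multiplicative.toAdd).symm.trans hn⟩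

variable (hinj : ∀ g : X, (∀ e : E, g • e = e) → g = 1) {e₀ : E} (he₀ : e₀ ≠ 0)

include hinj he₀ in
/-- Sharply two-transitive groups do not occur. -/
theorem F_ne_bot : A.F e₀ ≠ ⊥ := by
  classical
  intro hF
  have : Fact (Nat.Prime 2) := ⟨Nat.prime_two⟩
  obtain ⟨n, hn⟩ := A.exists_card_pow
  have hk : Odd (Nat.card (zpowers A.k)) := by
    rw [Nat.card_zpowers]; exact A.odd _ A.δ_k
  have hX0 : Nat.card A.X0 = Nat.card (zpowers A.k) := by
    rw [A.card_X0 hinj he₀, hF, card_bot, mul_one]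
  have hcard := A.card_group
  -- fixed-point-free elements
  let free : X → Prop := fun g => g = 1 ∨ ∀ e, A.act g e ≠ e
  choose f hf using A.surj
  have hle : Nat.card {g : X // free g} ≤ Nat.card E := by
    have hinjmap : Nat.card (E × {c : A.X0 // c ≠ 1}) ≤ Nat.card {g : X // ¬ free g} := by
      refine Nat.card_le_card_of_injective (fun p => ⟨f p.1 * ((p.2.1 : A.X0) : X) * (f p.1)⁻¹, ?_⟩) ?_
      · rintro (h | h)
        · exact p.2.2 (Subtype.ext (by
            have h' := congrArg (fun z => (f p.1)⁻¹ * z * f p.1) h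
            simpa [mul_assoc] using h'))
        · refine h p.1 ?_
          have : A.act (f p.1) 0 = p.1 := by rw [A.act_zero, hf]
          rw [A.act_mul, A.act_mul, A.act_inv_eq this, A.act_zero, p.2.1.2, this]
      · rintro ⟨p, c, hc⟩ ⟨p', c', hc'⟩ h
        have h1 : f p * (c : X) * (f p)⁻¹ = f p' * (c' : X) * (f p')⁻¹ := congrArg Subtype.val h
        have hfix : ∀ q (d : A.X0), A.act (f q * (d : X) * (f q)⁻¹) q = q := by
          intro q d
          have : A.act (f q) 0 = q := by rw [A.act_zero, hf]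
          rw [A.act_mul, A.act_mul, A.act_inv_eq this, A.act_zero, d.2, this]
        rcases eq_or_ne p p' with rfl | hne
        · rw [mul_left_inj, mul_right_inj] at h1
          obtain rfl := Subtype.ext h1
          rfl
        · exfalso
          obtain ⟨g, hg1, hg2⟩ := A.two_trans he₀ hne
          have := A.conj_mem_F (hfix p c) (by rw [h1]; exact hfix p' c') hg1 hg2
          rw [hF, mem_bot] at this
          have h2 := congrArg (fun z => (g * (f p))⁻¹ * (g * z * g⁻¹) * (g * f p)) this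
          apply hc
          apply Subtype.ext
          have h3 := congrArg (fun z => (f p)⁻¹ * (g * z * g⁻¹) * f p) this
          simpa [mul_assoc] using h3
    have := Fintype.ofFinite X
    have hs : Nat.card {g : X // ¬ free g} = Nat.card X - Nat.card {g : X // free g} := by
      simp only [Nat.card_eq_fintype_card, Fintype.card_subtype_compl]
    have hc1 : Nat.card {c : A.X0 // c ≠ 1} = Nat.card A.X0 - 1 := by
      have := Fintype.ofFinite A.X0
      simp only [Nat.card_eq_fintype_card, ne_eq, Fintype.card_subtype_compl, Fintype.card_subtype_eq]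
    rw [Nat.card_prod, hs, hc1, Nat.mul_sub, mul_one, ← hcard] at hinjmap
    have h1 : Nat.card {g : X // free g} ≤ Nat.card X := Finite.card_subtype_le _
    have h2 : Nat.card E ≤ Nat.card X := hcard ▸ Nat.le_mul_of_pos_right _ Nat.card_pos
    omega
  have hS : ∀ S : Sylow 2 X, ∀ g, g ∈ (S : Subgroup X) ↔ free g := by
    intro S
    have hcS : Nat.card (S : Subgroup X) = Nat.card E := by
      rw [hn]
      exact card_sylow_eq hk (by rw [hcard, hX0, hn]) S
    have hsub : ∀ g ∈ (S : Subgroup X), free g := by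
      intro g hg
      by_contra h
      simp only [free, not_or, not_forall, not_not] at h
      obtain ⟨hg1, e, he⟩ := h
      obtain ⟨c, hc⟩ := A.surj e
      have h0 : c⁻¹ * g * c ∈ A.X0 := A.conj_mem_X0.2 (by rw [hc]; exact he)
      have hodd : Odd (orderOf g) := by
        have := A.odd _ h0
        rwa [show c⁻¹ * g * c = c⁻¹ * g * c⁻¹⁻¹ by rw [inv_inv],
          ← MulAut.conj_apply, MulEquiv.orderOf_eq] at this
      obtain ⟨i, hi⟩ := S.2 ⟨g, hg⟩
      have hi' : g ^ 2 ^ i = 1 := congrArg Subtype.val hi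
      exact hg1 (orderOf_eq_one_iff.1 (Nat.eq_one_of_dvd_coprimes
        ((Nat.coprime_two_right.2 hodd).pow_right i) dvd_rfl (orderOf_dvd_of_pow_eq_one hi')))
    intro g
    refine ⟨hsub g, fun hg => ?_⟩
    have hb : Function.Bijective (fun x : (S : Subgroup X) => (⟨x.1, hsub x.1 x.2⟩ : {g : X // free g})) :=
      Function.Injective.bijective_of_nat_card_le (fun a b h => Subtype.ext (congrArg Subtype.val h :))
        (hcS ▸ hle)
    obtain ⟨x, hx⟩ := hb.2 ⟨g, hg⟩
    rw [show g = x.1 from (congrArg Subtype.val hx).symm]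
    exact x.2
  obtain ⟨S⟩ : Nonempty (Sylow 2 X) := inferInstance
  have hnorm : ∀ c g : X, g ∈ (S : Subgroup X) → c * g * c⁻¹ ∈ (S : Subgroup X) := by
    intro c g hg
    have h1 : c * g * c⁻¹ ∈ ((c • S : Sylow 2 X) : Subgroup X) := by
      rw [Sylow.coe_subgroup_smul]
      exact Subgroup.smul_mem_pointwise_smul g (MulAut.conj c) _ hg
    exact (hS S _).2 ((hS _ _).1 h1)
  obtain ⟨e₁, he₁, he₁0⟩ := S.2.exists_fixed_point_of_prime_dvd_card_of_fixed_point E
    (by rw [hn]; exact dvd_pow_self 2 (fun h0 => by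
      subst h0
      have := Finite.card_le_one_iff_subsingleton.1 (le_of_eq (hn.trans (pow_zero 2)))
      exact he₀ (Subsingleton.elim _ _)))
    (a := (0 : E)) (fun g => smul_zero _)
  have hall : ∀ g ∈ (S : Subgroup X), g = 1 := by
    intro g hg
    refine hinj g fun e => ?_
    rcases eq_or_ne e 0 with rfl | he
    · exact smul_zero _
    · obtain ⟨j, hj⟩ := A.trans e₁ e (Ne.symm he₁0) he
      have hmem := hnorm (A.k ^ j)⁻¹ g hg
      have h2 : ((A.k ^ j)⁻¹ * g * (A.k ^ j)⁻¹⁻¹) • e₁ = e₁ := he₁ ⟨_, hmem⟩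
      rw [inv_inv, mul_smul, mul_smul, inv_smul_eq_iff] at h2
      rw [← hj]
      exact h2
  have hS1 : (S : Subgroup X) = ⊥ := (eq_bot_iff_forall _).2 hall
  have := card_sylow_eq hk (by rw [hcard, hX0, hn]) S
  rw [hS1, card_bot, ← hn] at this
  have := (Nat.card_eq_one_iff_unique.1 this.symm).1
  exact he₀ (Subsingleton.elim _ _)

include hinj he₀ in
/-- If the centraliser of `y ∈ F` of prime order is transitive on its fixed points, transfer yields
a transitive subgroup containing `k` but not `y`. -/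
theorem exists_sub (hE : 2 < Nat.card E) {y : X} {s : ℕ} (hs : s.Prime) (hs2 : s ≠ 2)
    (hy : y ∈ A.F e₀) (hys : orderOf y = s)
    (hc : ∀ p : E, A.act y p = p → ∃ c, Commute c y ∧ A.δ c = p) :
    ∃ H : Subgroup X, A.k ∈ H ∧ y ∉ H ∧ ∀ e, ∃ g ∈ H, A.δ g = e := by
  classical
  let K0 : Subgroup A.X0 := (zpowers A.k).subgroupOf A.X0
  have hKn : K0.Normal := ⟨fun c hc g => by
    obtain ⟨j, hj⟩ := A.k_conj hinj g.2
    obtain ⟨i, hi⟩ := mem_powers_iff_mem_zpowers.2 (mem_subgroupOf.1 hc)
    have hi' : A.k ^ i = (c : X) := hi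
    rw [mem_subgroupOf, Subgroup.coe_mul, Subgroup.coe_mul, Subgroup.coe_inv, ← hi', ← conj_pow, hj,
      ← pow_mul]
    exact npow_mem_zpowers _ _⟩
  have hcomm : ∀ a b : A.X0 ⧸ K0, a * b = b * a := by
    haveI := (A.semilinear hinj he₀).1
    haveI : IsCyclic (A.X0 ⧸ K0) := by
      refine isCyclic_of_surjective ((QuotientGroup.mk' K0).comp
        (inclusion (show A.F e₀ ≤ A.X0 from inf_le_left))) fun a => ?_
      obtain ⟨g, rfl⟩ := QuotientGroup.mk'_surjective K0 a
      obtain ⟨x, hx, hxg⟩ := A.exists_k_mul_F he₀ g.2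
      refine ⟨⟨_, hxg⟩, ?_⟩
      have hxK : (⟨x, A.zpowers_k_le hx⟩ : A.X0) ∈ K0 := hx
      have hg : g = ⟨x, A.zpowers_k_le hx⟩ * inclusion (show A.F e₀ ≤ A.X0 from inf_le_left) ⟨_, hxg⟩ :=
        Subtype.ext (mul_inv_cancel_left x _).symm
      conv_rhs => rw [hg, map_mul, QuotientGroup.mk'_apply K0 ⟨x, _⟩,
        (QuotientGroup.eq_one_iff _).2 hxK, one_mul]
      rfl
    exact fun a b => IsCyclic.commGroup.mul_comm a b
  let : CommGroup (A.X0 ⧸ K0) := { (inferInstance : Group (A.X0 ⧸ K0)) with mul_comm := hcomm }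
  let φ : A.X0 →* A.X0 ⧸ K0 := QuotientGroup.mk' K0
  haveI : A.X0.FiniteIndex := inferInstance
  let V : X →* A.X0 ⧸ K0 := MonoidHom.transfer φ
  have hconj : ∀ (a b : A.X0), φ (a⁻¹ * b * a) = φ b := fun a b => by
    rw [map_mul, map_mul, map_inv, hcomm (φ a)⁻¹ (φ b), mul_assoc, inv_mul_cancel, mul_one]
  have hfixc : ∀ (u c : X), c⁻¹ * u * c ∈ A.X0 ↔ A.act u (A.δ c) = A.δ c := fun u c => A.conj_mem_X0
  have hVk : V A.k = 1 := by
    haveI : Fintype (Quotient (MulAction.orbitRel (zpowers A.k) (X ⧸ A.X0))) := Fintype.ofFinite _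
    show MonoidHom.transfer φ A.k = 1
    rw [MonoidHom.transfer_eq_prod_quotient_orbitRel_zpowers_quot]
    refine Finset.prod_eq_one fun q _ => ?_
    have hmem := QuotientGroup.out_conj_pow_minimalPeriod_mem A.X0 A.k q.out
    set l := Function.minimalPeriod (A.k • ·) q.out with hl
    set c := q.out.out with hcdef
    rcases eq_or_ne (A.δ c) 0 with h0 | h0
    · have hk0 : (⟨A.k, A.δ_k⟩ : A.X0) ^ l ∈ K0 :=
        pow_mem (show (⟨A.k, A.δ_k⟩ : A.X0) ∈ K0 from mem_zpowers A.k) l
      refine Eq.trans (congrArg φ (Subtype.ext ?_)) ((hconj ⟨c, h0⟩ (⟨A.k, A.δ_k⟩ ^ l)).trans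
        ((QuotientGroup.eq_one_iff _).2 hk0))
      show c⁻¹ * A.k ^ l * c = _
      rw [Subgroup.coe_mul, Subgroup.coe_mul, Subgroup.coe_inv, SubmonoidClass.coe_pow]
    · have h1 := (hfixc (A.k ^ l) c).1 hmem
      rw [A.act_of_δ (A.δ_k_pow l)] at h1
      have h2 := A.k_pow_eq_one hinj h0 h1
      refine Eq.trans (congrArg φ (Subtype.ext ?_)) (map_one φ)
      show c⁻¹ * A.k ^ l * c = 1
      rw [h2, mul_one, inv_mul_cancel]
  have hy0 : A.δ y = 0 := hy.1
  have hVy : V y ≠ 1 := by
    haveI : Fintype (Quotient (MulAction.orbitRel (zpowers y) (X ⧸ A.X0))) := Fintype.ofFinite _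
    have hfix : ∀ x : X ⧸ A.X0, y • x = x ↔ A.act y (A.δ x.out) = A.δ x.out := by
      intro x
      rw [← hfixc]
      conv_lhs => rw [← QuotientGroup.out_eq' x]
      rw [MulAction.Quotient.smul_mk, eq_comm, QuotientGroup.eq, smul_eq_mul, ← mul_assoc]
    have hval : ∀ q : Quotient (MulAction.orbitRel (zpowers y) (X ⧸ A.X0)),
        φ ⟨q.out.out⁻¹ * y ^ Function.minimalPeriod (y • ·) q.out * q.out.out,
          QuotientGroup.out_conj_pow_minimalPeriod_mem A.X0 y q.out⟩ =
        φ ⟨y, hy0⟩ ^ (if Function.minimalPeriod (y • ·) q.out = 1 then 1 else 0) := by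
      intro q
      have hmem := QuotientGroup.out_conj_pow_minimalPeriod_mem A.X0 y q.out
      have hd : Function.minimalPeriod (y • ·) q.out ∣ s := by
        refine Function.IsPeriodicPt.minimalPeriod_dvd ?_
        rw [Function.IsPeriodicPt, Function.IsFixedPt, smul_iterate_apply, ← hys, pow_orderOf_eq_one,
          one_smul]
      rcases (Nat.dvd_prime hs).1 hd with h1 | h1
      · simp only [h1, pow_one, if_true] at hmem ⊢
        obtain ⟨c, hcy, hcδ⟩ := hc _ ((hfixc _ _).1 hmem)
        have h0 : c⁻¹ * q.out.out ∈ A.X0 := A.δ_eq_iff.1 hcδ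
        refine Eq.trans (congrArg φ (Subtype.ext ?_)) (hconj ⟨_, h0⟩ ⟨y, hy0⟩)
        show q.out.out⁻¹ * y * q.out.out = (c⁻¹ * q.out.out)⁻¹ * y * (c⁻¹ * q.out.out)
        rw [mul_inv_rev, inv_inv]
        calc q.out.out⁻¹ * y * q.out.out = q.out.out⁻¹ * (y * c) * c⁻¹ * q.out.out := by group
          _ = _ := by rw [← hcy.eq]; group
      · have hne : ¬ Function.minimalPeriod (y • ·) q.out = 1 := by rw [h1]; exact hs.ne_one
        simp only [if_neg hne, pow_zero]
        refine Eq.trans (congrArg φ (Subtype.ext ?_)) (map_one φ)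
        simp [h1, ← hys, pow_orderOf_eq_one]
    show MonoidHom.transfer φ y ≠ 1
    rw [MonoidHom.transfer_eq_prod_quotient_orbitRel_zpowers_quot,
      Finset.prod_congr rfl (fun q _ => hval q), Finset.prod_pow_eq_pow_sum, Finset.sum_boole,
      Nat.cast_id]
    have hNm : (Finset.univ.filter fun q : Quotient (MulAction.orbitRel (zpowers y) (X ⧸ A.X0)) =>
        Function.minimalPeriod (y • ·) q.out = 1).card = Nat.card {p : E // y • p = p} := by
      rw [← Fintype.card_subtype, ← Nat.card_eq_fintype_card]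
      have hp : ∀ q : {q : Quotient (MulAction.orbitRel (zpowers y) (X ⧸ A.X0)) //
          Function.minimalPeriod (y • ·) q.out = 1},
          y • A.δ q.1.out.out = A.δ q.1.out.out := by
        intro q
        have hmem := QuotientGroup.out_conj_pow_minimalPeriod_mem A.X0 y q.1.out
        simp only [q.2, pow_one] at hmem
        have := (hfixc _ _).1 hmem
        rwa [A.act_of_δ hy0] at this
      refine Nat.card_eq_of_bijective (fun q => (⟨_, hp q⟩ : {p : E // y • p = p})) ⟨?_, ?_⟩
      · intro a b hab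
        have h1 : A.δ a.1.out.out = A.δ b.1.out.out := congrArg Subtype.val hab
        have h2 : a.1.out = b.1.out := by
          rw [← QuotientGroup.out_eq' a.1.out, ← QuotientGroup.out_eq' b.1.out]
          exact QuotientGroup.eq.2 (A.δ_eq_iff.1 h1)
        exact Subtype.ext (Quotient.out_injective h2)
      · rintro ⟨p, hp'⟩
        obtain ⟨g, hg⟩ := A.surj p
        set x : X ⧸ A.X0 := QuotientGroup.mk g with hx
        have hxo : A.δ x.out = p := by
          rw [← hg, A.δ_eq_iff, ← QuotientGroup.eq, QuotientGroup.out_eq']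
        have hxfix : y • x = x := (hfix x).2 (by rw [hxo, A.act_of_δ hy0, hp'])
        set q : Quotient (MulAction.orbitRel (zpowers y) (X ⧸ A.X0)) := Quotient.mk'' x with hq
        have hout : q.out = x := by
          have h1 : q.out ∈ MulAction.orbit (zpowers y) x := Quotient.exact (Quotient.out_eq q)
          obtain ⟨⟨g', hg'⟩, he'⟩ := h1
          rw [← he']
          have hle : zpowers y ≤ MulAction.stabilizer X x := zpowers_le.2 hxfix
          exact hle hg'
        refine ⟨⟨q, ?_⟩, Subtype.ext ?_⟩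
        · rw [hout, Function.minimalPeriod_eq_one_iff_isFixedPt]
          exact hxfix
        · show A.δ q.out.out = p
          rw [hout, hxo]
    rw [hNm]
    intro h
    have hord : orderOf (φ ⟨y, hy0⟩) = s := by
      haveI := Fact.mk hs
      refine orderOf_eq_prime ?_ ?_
      · rw [← map_pow]
        refine Eq.trans (congrArg φ (Subtype.ext ?_)) (map_one φ)
        simp [← hys, pow_orderOf_eq_one]
      · intro h1
        have h2 : y ∈ zpowers A.k := mem_subgroupOf.1 ((QuotientGroup.eq_one_iff _).1 h1)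
        have := A.zpowers_k_eq_one hinj h2 he₀ hy.2
        rw [this, orderOf_one] at hys
        exact hs.ne_one hys.symm
    have hdvd := orderOf_dvd_of_pow_eq_one h
    rw [hord] at hdvd
    have hQ := (A.semilinear hinj he₀).2 y hy
    obtain ⟨n, hn⟩ := A.exists_card_pow
    rw [hys, hn] at hQ
    have h3 : s ∣ 2 ^ n := hQ ▸ dvd_pow hdvd hs.ne_zero
    exact hs2 ((Nat.prime_dvd_prime_iff_eq hs Nat.prime_two).1 (hs.dvd_of_dvd_pow h3))
  refine ⟨V.ker, hVk, fun h => hVy h, ?_⟩
  by_cases hm : ∃ g ∈ V.ker, A.δ g ≠ 0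
  · obtain ⟨g, hg, hg0⟩ := hm
    intro e
    rcases eq_or_ne e 0 with rfl | he
    · exact ⟨1, one_mem _, A.δ_one⟩
    · obtain ⟨j, hj⟩ := A.trans _ e hg0 he
      refine ⟨A.k ^ j * g, mul_mem (pow_mem hVk j) hg, ?_⟩
      rw [A.δ_mul, A.δ_k_pow, zero_add, hj]
  · exfalso
    push Not at hm
    have hk1 : A.k = 1 := hinj _ fun e => by
      obtain ⟨g, rfl⟩ := A.surj e
      have h1 : g⁻¹ * A.k * g ∈ A.X0 := by
        have := (inferInstance : V.ker.Normal).conj_mem A.k hVk g⁻¹
        rw [inv_inv] at this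
        exact hm _ this
      have h2 := (hfixc _ _).1 h1
      rwa [A.act_of_δ A.δ_k] at h2
    have := A.card_zpowers_k hinj he₀
    rw [Nat.card_zpowers, hk1, orderOf_one] at this
    omega

include hinj he₀ in
/-- If no proper transitive subgroup contains `k`, the two-point stabiliser has prime order and is
self-centralising. -/
theorem prime_stage (hE : 2 < Nat.card E)
    (hno : ∀ H : Subgroup X, A.k ∈ H → (∀ e, ∃ g ∈ H, A.δ g = e) → H = ⊤) :
    ∃ s : ℕ, s.Prime ∧ 3 ≤ s ∧ Nat.card (A.F e₀) = s ∧ Nat.card E = 2 ^ s ∧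
      (∀ y ∈ A.F e₀, y ≠ 1 → ∀ g, Commute g y → g ∈ A.F e₀) ∧
      ∀ y ∈ A.F e₀, y ≠ 1 → ∀ e : E, y • e = e → e = 0 ∨ e = e₀ := by
  classical
  obtain ⟨n, hn⟩ := A.exists_card_pow
  obtain ⟨hcyc, hpow⟩ := A.semilinear hinj he₀
  have key : ∀ s : ℕ, s.Prime → ∀ y ∈ A.F e₀, orderOf y = s →
      (3 ≤ s ∧ n = s) ∧ (∀ g, Commute g y → g ∈ A.F e₀) ∧
        ∀ e : E, y • e = e → e = 0 ∨ e = e₀ := by
    intro s hs y hy hys
    have hy0 : A.δ y = 0 := hy.1
    have hye : y • e₀ = e₀ := hy.2
    have hs2 : s ≠ 2 := by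
      rintro rfl
      have := A.odd y hy0
      rw [hys] at this
      exact absurd this (by decide)
    have hs3 : 3 ≤ s := by have := hs.two_le; omega
    -- conjugators stabilising `⟨y⟩`
    have hN : ∀ p, y • p = p → ∃ h, A.δ h = p ∧ h⁻¹ * y * h ∈ zpowers y := by
      intro p hp
      obtain ⟨q, hq, hpq⟩ : ∃ q, y • q = q ∧ p ≠ q := by
        by_cases h : p = 0
        · exact ⟨e₀, hye, fun e => he₀ (by rw [← e, h])⟩
        · exact ⟨0, smul_zero _, h⟩
      obtain ⟨h, h1, h2⟩ := A.two_trans he₀ hpq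
      refine ⟨h, h1, ?_⟩
      have hm := A.conj_mem_F (g := y) (by rw [A.act_of_δ hy0, hp]) (by rw [A.act_of_δ hy0, hq]) h1 h2
      have := hcyc
      have h3 := mem_zpowers_of_pow_eq_one (G := A.F e₀) (a := ⟨y, hy⟩) (x := ⟨_, hm⟩)
        (Subtype.ext (by
          show (h⁻¹ * y * h) ^ orderOf (⟨y, hy⟩ : A.F e₀) = 1
          rw [Subgroup.orderOf_mk, show h⁻¹ * y * h = h⁻¹ * y * h⁻¹⁻¹ by rw [inv_inv], conj_pow,
            pow_orderOf_eq_one]
          simp))
      obtain ⟨i, hi⟩ := mem_zpowers_iff.1 h3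
      exact mem_zpowers_iff.2 ⟨i, congrArg Subtype.val hi⟩
    -- `⟨k⟩ ∩ C(y)` is transitive on the nonzero fixed points
    have hK : ∀ p q : E, p ≠ 0 → q ≠ 0 → y • p = p → y • q = q →
        ∃ j : ℕ, A.k ^ j • p = q ∧ Commute (A.k ^ j) y := by
      intro p q hp hq hyp hyq
      obtain ⟨j, hj⟩ := A.trans p q hp hq
      refine ⟨j, hj, ?_⟩
      obtain ⟨l, hl⟩ := A.k_conj hinj (show y ∈ A.X0 from hy0)
      have h1 : y * A.k ^ j * y⁻¹ = A.k ^ (l * j) := by rw [← conj_pow, hl, pow_mul]
      have h2 : A.k ^ (l * j) • p = q := by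
        rw [← h1, mul_smul, mul_smul, inv_smul_eq_iff.2 hyp.symm, hj, hyq]
      have h3 : A.k ^ j = A.k ^ (l * j) := by
        refine (inv_mul_eq_one.1 (A.zpowers_k_eq_one hinj
          (mul_mem (inv_mem (npow_mem_zpowers _ _)) (npow_mem_zpowers _ _)) hp ?_)).symm
        rw [mul_smul, hj, inv_smul_eq_iff, h2]
      rw [← h3] at h1
      exact (mul_inv_eq_iff_eq_mul.1 h1).symm
    by_cases hmove : ∀ p, A.act y p = p → ∃ c, Commute c y ∧ A.δ c = p
    · obtain ⟨H, h1, h2, h3⟩ := A.exists_sub hinj he₀ hE hs hs2 hy hys hmove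
      exact absurd (hno H h1 h3 ▸ mem_top y) h2
    push Not at hmove
    obtain ⟨p₀, hp₀, hnc⟩ := hmove
    rw [A.act_of_δ hy0] at hp₀
    -- the centraliser fixes `0`
    have hC0 : ∀ g, Commute g y → A.δ g = 0 := by
      intro g hg
      by_contra hne
      have hgp : y • A.δ g = A.δ g := by
        have := (A.conj_mem_X0 (g := y) (h := g)).1 (by
          rw [mem_X0, mul_assoc, ← hg.eq, inv_mul_cancel_left]; exact hy0)
        rwa [A.act_of_δ hy0] at this
      rcases eq_or_ne p₀ 0 with rfl | hp0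
      · exact hnc 1 (Commute.one_left y) A.δ_one
      · obtain ⟨j, hj, hjy⟩ := hK _ _ hne hp0 hgp hp₀
        refine hnc (A.k ^ j * g) (hjy.mul_left hg) ?_
        rw [A.δ_mul, A.δ_k_pow, zero_add, hj]
    have hfix2 : ∀ e : E, y • e = e → e = 0 ∨ e = e₀ := by
      intro e he
      by_contra hcon
      push Not at hcon
      obtain ⟨h, h1, h2⟩ := hN e₀ hye
      obtain ⟨j, hj, hjy⟩ := hK e₀ e he₀ hcon.1 hye he
      have hcj : Commute (h⁻¹ * A.k ^ j * h) y := by
        obtain ⟨i, hi⟩ := mem_zpowers_iff.1 h2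
        have h3 : Commute (A.k ^ j) (h * y * h⁻¹) := by
          have h4 : h * y * h⁻¹ ∈ zpowers y := by
            have hcl : ∀ x ∈ zpowers y, h⁻¹ * x * h ∈ zpowers y := by
              intro x hx
              obtain ⟨l, rfl⟩ := mem_zpowers_iff.1 hx
              rw [show h⁻¹ * y ^ l * h = h⁻¹ * y ^ l * h⁻¹⁻¹ by rw [inv_inv], ← conj_zpow, inv_inv]
              exact zpow_mem h2 _
            have hb : Function.Bijective (fun x : zpowers y => (⟨_, hcl x x.2⟩ : zpowers y)) :=
              Finite.injective_iff_bijective.1 fun a b hab => Subtype.ext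
                (mul_left_cancel (mul_right_cancel (congrArg Subtype.val hab :)))
            obtain ⟨x, hx⟩ := hb.2 ⟨y, mem_zpowers y⟩
            have hx' : h⁻¹ * (x : X) * h = y := congrArg Subtype.val hx
            have h5 : h * (h⁻¹ * (x : X) * h) * h⁻¹ = (x : X) := by group
            rw [hx'] at h5
            rw [h5]
            exact x.2
          obtain ⟨l, hl⟩ := mem_zpowers_iff.1 h4
          rw [← hl]
          exact hjy.zpow_right l
        show h⁻¹ * A.k ^ j * h * y = y * (h⁻¹ * A.k ^ j * h)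
        calc h⁻¹ * A.k ^ j * h * y = h⁻¹ * (A.k ^ j * (h * y * h⁻¹)) * h := by group
          _ = _ := by rw [h3.eq]; group
      have h5 := (A.conj_mem_X0 (g := A.k ^ j) (h := h)).1 (hC0 _ hcj)
      rw [A.act_of_δ (A.δ_k_pow j), h1, hj] at h5
      exact hcon.2 h5
    refine ⟨⟨hs3, ?_⟩, ?_, hfix2⟩
    · have h := hpow y hy
      have hm : Nat.card {e : E // y • e = e} = 2 := by
        rw [Nat.card_eq_two_iff]
        refine ⟨⟨0, smul_zero y⟩, ⟨e₀, hye⟩, fun h => he₀ (congrArg Subtype.val h).symm, ?_⟩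
        ext ⟨e, he⟩
        simp only [Set.mem_insert_iff, Set.mem_singleton_iff, Subtype.mk.injEq, Set.mem_univ, iff_true]
        exact hfix2 e he
      rw [hm, hys, hn] at h
      exact Nat.pow_right_injective le_rfl h
    · intro g hg
      have h0 := hC0 g hg
      refine ⟨h0, ?_⟩
      show g • e₀ = e₀
      have : y • g • e₀ = g • e₀ := by rw [← mul_smul, ← hg.eq, mul_smul, hye]
      rcases hfix2 _ this with h | h
      · exact absurd ((smul_eq_zero_iff_eq _).1 h) he₀
      · exact h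
  -- the order of `F`
  set f := Nat.card (A.F e₀) with hf
  have hf1 : f ≠ 1 := fun h => A.F_ne_bot hinj he₀ (card_eq_one.1 h)
  have hfn : f ∣ n := by
    obtain ⟨g, hg⟩ := hcyc.exists_generator
    have hg' : orderOf g = f := orderOf_eq_card_of_forall_mem_zpowers hg
    have h := hpow g g.2
    rw [Subgroup.orderOf_coe, hg', hn] at h
    obtain ⟨d, -, hd⟩ := (Nat.dvd_prime_pow Nat.prime_two).1
      (h ▸ dvd_pow_self _ (by have := Nat.card_pos (α := A.F e₀); omega) :
        Nat.card {e : E // (g : X) • e = e} ∣ 2 ^ n)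
    rw [hd, ← pow_mul] at h
    exact ⟨d, by rw [Nat.pow_right_injective le_rfl h, mul_comm]⟩
  obtain ⟨s, hs, hsf⟩ := Nat.exists_prime_and_dvd hf1
  haveI := Fact.mk hs
  obtain ⟨y, hy⟩ := exists_prime_orderOf_dvd_card' (G := A.F e₀) s hsf
  obtain ⟨⟨hs3, hns⟩, -, -⟩ := key s hs y y.2 (by rw [Subgroup.orderOf_coe, hy])
  have hfs : f = s := ((Nat.dvd_prime hs).1 (hns ▸ hfn)).resolve_left hf1
  have hord : ∀ x ∈ A.F e₀, x ≠ 1 → orderOf x = s := by
    intro x hx hx1
    have h1 : orderOf x ∣ s := by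
      rw [← Subgroup.orderOf_mk x hx, ← hfs]; exact orderOf_dvd_natCard _
    exact ((Nat.dvd_prime hs).1 h1).resolve_left fun h => hx1 (orderOf_eq_one_iff.1 h)
  exact ⟨s, hs, hs3, hfs, hns ▸ hn, fun x hx hx1 => (key s hs x hx (hord x hx hx1)).2.1,
    fun x hx hx1 => (key s hs x hx (hord x hx hx1)).2.2⟩

end Aff

end Cfsg.Agent.InvolTimesPSL
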