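import Cfsg.Agent.Lib.InvolTimesPSL.AffinePrime

/-!
# Affine groups: involutions when the two-point stabiliser has prime order

`Small A e₀ s`: the linear part is faithful, `|E| = 2 ^ s` and the two-point stabiliser has prime order
`s`, is self-centralising and has no further fixed points.  Then there is one class of involutions and
the centraliser of each is a Sylow `2`-subgroup, regular on the points.
-/

set_option autoImplicit false
set_option linter.style.haveILetI false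

namespace Cfsg.Agent.InvolTimesPSL

open Subgroup

namespace Aff

universe u v

variable {X : Type u} {E : Type v} [Group X] [AddCommGroup E] [DistribMulAction X E]

/-- What `prime_stage` gives. -/
structure Small (A : Aff X E) (e₀ : E) (s : ℕ) : Prop where
  inj : ∀ g : X, (∀ e : E, g • e = e) → g = 1
  e0 : e₀ ≠ 0
  prime : s.Prime
  three : 3 ≤ s
  cardF : Nat.card (A.F e₀) = s
  cardE : Nat.card E = 2 ^ s
  cent : ∀ y ∈ A.F e₀, y ≠ 1 → ∀ g, Commute g y → g ∈ A.F e₀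
  fix : ∀ y ∈ A.F e₀, y ≠ 1 → ∀ e : E, y • e = e → e = 0 ∨ e = e₀

variable {A : Aff X E} {e₀ : E} {s : ℕ} (S : Small A e₀ s)

include S

theorem Small.not_dvd : ¬ s ∣ 2 ^ s - 1 := by
  intro h
  haveI := Fact.mk S.prime
  have h1 : ((2 : ℕ) : ZMod s) ^ s = ((2 : ℕ) : ZMod s) := ZMod.pow_card _
  rw [← ZMod.natCast_eq_zero_iff, Nat.cast_sub Nat.one_le_two_pow, Nat.cast_pow, h1, Nat.cast_one,
    show ((2 : ℕ) : ZMod s) - 1 = ((1 : ℕ) : ZMod s) by push_cast; ring,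
    ZMod.natCast_eq_zero_iff, Nat.dvd_one] at h
  exact S.prime.ne_one h

theorem Small.odd_s : Odd s := S.prime.odd_of_ne_two (by have := S.three; omega)

variable [Finite X] [Finite E]

theorem Small.card_X0 : Nat.card A.X0 = (2 ^ s - 1) * s := by
  have := A.card_zpowers_k S.inj S.e0
  rw [S.cardE] at this
  rw [A.card_X0 S.inj S.e0, S.cardF, show Nat.card (zpowers A.k) = 2 ^ s - 1 by omega]

theorem Small.card_X : Nat.card X = 2 ^ s * ((2 ^ s - 1) * s) := by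
  rw [A.card_group, S.cardE, S.card_X0]

theorem Small.orderOf_F {y : X} (hy : y ∈ A.F e₀) (hy1 : y ≠ 1) : orderOf y = s := by
  have h1 : orderOf y ∣ s := by
    rw [← Subgroup.orderOf_mk y hy, ← S.cardF]; exact orderOf_dvd_natCard _
  exact ((Nat.dvd_prime S.prime).1 h1).resolve_left fun h => hy1 (orderOf_eq_one_iff.1 h)

theorem Small.exists_y : ∃ y ∈ A.F e₀, y ≠ 1 ∧ A.F e₀ = zpowers y := by
  obtain ⟨y, hy, hy1⟩ : ∃ y ∈ A.F e₀, y ≠ 1 := by
    by_contra hcon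
    push Not at hcon
    exact A.F_ne_bot S.inj S.e0 ((eq_bot_iff_forall _).2 hcon)
  refine ⟨y, hy, hy1, (eq_of_le_of_card_ge (zpowers_le.2 hy) ?_).symm⟩
  rw [S.cardF, Nat.card_zpowers, S.orderOf_F hy hy1]

/-- An element swapping `0` and `e₀` is an involution inverting `F`. -/
theorem Small.swapper {g : X} (h1 : A.δ g = e₀) (h2 : g • e₀ = e₀) :
    g * g = 1 ∧ ∀ y ∈ A.F e₀, g * y * g⁻¹ = y⁻¹ := by
  obtain ⟨y, hy, hy1, hFy⟩ := S.exists_y
  have hinv0 : A.δ g⁻¹ = e₀ := by rw [A.δ_inv, h1, inv_smul_eq_iff, h2]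
  have hinve : A.act g⁻¹ e₀ = 0 := by
    rw [act, hinv0, inv_smul_eq_iff.2 h2.symm, A.two]
  have hw : g * g ∈ A.F e₀ := by
    refine ⟨?_, ?_⟩
    · show A.δ (g * g) = 0
      rw [A.δ_mul, h1, h2, A.two]
    · show (g * g) • e₀ = e₀
      rw [mul_smul, h2, h2]
  have hy' : g * y * g⁻¹ ∈ A.F e₀ := by
    have := A.conj_mem_F (g := y) (h := g⁻¹) (p := e₀) (q := 0)
      (by rw [A.act_of_δ hy.1]; exact hy.2) (by rw [A.act_of_δ hy.1, smul_zero]) hinv0 hinve
    rwa [inv_inv] at this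
  haveI := Fact.mk S.prime
  obtain ⟨i, hi⟩ : ∃ i : ℤ, y ^ i = g * y * g⁻¹ := by rw [hFy] at hy'; exact hy'
  obtain ⟨l, hl⟩ : ∃ l : ℤ, y ^ l = g * g := by rw [hFy] at hw; exact hw
  have hii : y ^ (i * i) = y := by
    rw [zpow_mul, hi, conj_zpow, hi, show g * (g * y * g⁻¹) * g⁻¹ = (g * g) * y * (g * g)⁻¹ by group,
      ← hl]
    group
  have hii' : ((i : ZMod s)) * i = 1 := by
    have h3 : y ^ (i * i - 1) = 1 := by rw [zpow_sub, hii, zpow_one, mul_inv_cancel]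
    have h4 := orderOf_dvd_iff_zpow_eq_one.2 h3
    rw [S.orderOf_F hy hy1, ← ZMod.intCast_zmod_eq_zero_iff_dvd] at h4
    push_cast at h4
    exact sub_eq_zero.1 h4
  have hinvy : g * y * g⁻¹ = y⁻¹ := by
    rcases mul_self_eq_one_iff.1 hii' with h | h
    · exfalso
      have : g * y * g⁻¹ = y := by
        have h5 : ((i - 1 : ℤ) : ZMod s) = 0 := by push_cast; rw [h, sub_self]
        rw [ZMod.intCast_zmod_eq_zero_iff_dvd, ← S.orderOf_F hy hy1, orderOf_dvd_iff_zpow_eq_one,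
          zpow_sub, zpow_one, mul_inv_eq_one, hi] at h5
        exact h5
      have hg := (S.cent y hy hy1 g (mul_inv_eq_iff_eq_mul.1 this)).1
      exact S.e0 (h1.symm.trans hg)
    · have h5 : ((i + 1 : ℤ) : ZMod s) = 0 := by push_cast; rw [h]; ring
      rw [ZMod.intCast_zmod_eq_zero_iff_dvd, ← S.orderOf_F hy hy1, orderOf_dvd_iff_zpow_eq_one,
        zpow_add, zpow_one, mul_eq_one_iff_eq_inv, hi] at h5
      exact h5
  have hall : ∀ z ∈ A.F e₀, g * z * g⁻¹ = z⁻¹ := by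
    intro z hz
    rw [hFy] at hz
    obtain ⟨j, rfl⟩ := mem_zpowers_iff.1 hz
    rw [← conj_zpow, hinvy, inv_zpow]
  refine ⟨?_, hall⟩
  have h3 : g * (g * g) * g⁻¹ = (g * g)⁻¹ := hall _ hw
  have h4 : (g * g) * (g * g) = 1 := by
    rw [mul_eq_one_iff_eq_inv, ← h3]; group
  by_contra hne
  have := S.orderOf_F hw hne
  have h6 : orderOf (g * g) ∣ 2 := orderOf_dvd_of_pow_eq_one (by rw [pow_two, h4])
  rw [this] at h6
  have := Nat.le_of_dvd two_pos h6
  have := S.three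
  omega

theorem Small.exists_swapper : ∃ h, A.δ h = e₀ ∧ h • e₀ = e₀ := by
  obtain ⟨h, h1, h2⟩ := A.two_trans S.e0 (show e₀ ≠ 0 from S.e0)
  refine ⟨h, h1, ?_⟩
  rw [act, h1, add_eq_zero_iff_eq_neg', A.neg_eq] at h2
  exact h2

/-- All swappers are conjugate under `F`. -/
theorem Small.swapper_conj {h g : X} (h1 : A.δ h = e₀) (h2 : h • e₀ = e₀) (g1 : A.δ g = e₀)
    (g2 : g • e₀ = e₀) : ∃ z ∈ A.F e₀, z⁻¹ * h * z = g := by
  obtain ⟨hh, hinv⟩ := S.swapper h1 h2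
  have hhi : h⁻¹ = h := inv_eq_of_mul_eq_one_left hh
  have hmem : h⁻¹ * g ∈ A.F e₀ := by
    rw [hhi]
    refine ⟨?_, ?_⟩
    · show A.δ (h * g) = 0
      rw [A.δ_mul, h1, g1, h2, A.two]
    · show (h * g) • e₀ = e₀
      rw [mul_smul, g2, h2]
  obtain ⟨d, hd⟩ := S.odd_s
  refine ⟨(h⁻¹ * g) ^ (d + 1), pow_mem hmem _, ?_⟩
  have hs : (h⁻¹ * g) ^ s = 1 := by
    have := pow_card_eq_one' (x := (⟨_, hmem⟩ : A.F e₀))
    rw [S.cardF] at this
    exact congrArg Subtype.val this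
  set z := (h⁻¹ * g) ^ (d + 1) with hz
  have h3 : h * z * h⁻¹ = z⁻¹ := hinv z (pow_mem hmem _)
  have h4 : z * z = h⁻¹ * g := by
    rw [hz, ← pow_add, show d + 1 + (d + 1) = s + 1 by omega, pow_succ, hs, one_mul]
  calc z⁻¹ * h * z = h * z * h⁻¹ * h * z := by rw [h3]
    _ = h * (z * z) := by group
    _ = g := by rw [h4, mul_inv_cancel_left]

theorem Small.fixed_point_free {x : X} (hx : x * x = 1) (hx1 : x ≠ 1) (p : E) : A.act x p ≠ p := by
  intro hp
  obtain ⟨c, hc⟩ := A.surj p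
  have h0 : c⁻¹ * x * c ∈ A.X0 := A.conj_mem_X0.2 (by rw [hc]; exact hp)
  have hodd := A.odd _ h0
  have h2 : orderOf (c⁻¹ * x * c) ∣ 2 := orderOf_dvd_of_pow_eq_one (by
    rw [pow_two]; calc c⁻¹ * x * c * (c⁻¹ * x * c) = c⁻¹ * (x * x) * c := by group
      _ = 1 := by rw [hx]; group)
  rcases (Nat.dvd_prime Nat.prime_two).1 h2 with h | h
  · exact hx1 (conj_eq_one_iff.1 (show c⁻¹ * x * c⁻¹⁻¹ = 1 by
      rw [inv_inv]; exact orderOf_eq_one_iff.1 h))
  · rw [h] at hodd; exact absurd hodd (by decide)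

/-- One class of involutions. -/
theorem Small.involution_conj {h x : X} (h1 : A.δ h = e₀) (h2 : h • e₀ = e₀) (hx : x * x = 1)
    (hx1 : x ≠ 1) : ∃ c, x = c * h * c⁻¹ := by
  have hne : A.δ x ≠ 0 := fun h0 => S.fixed_point_free hx hx1 0 (by rw [A.act_zero, h0])
  obtain ⟨c, hc, hce⟩ := A.zpowers_k_trans S.e0 hne
  have hc0 : A.δ c = 0 := A.zpowers_k_le hc
  have hci : A.δ c⁻¹ = 0 := A.zpowers_k_le (inv_mem hc)
  have g1 : A.δ (c⁻¹ * x * c) = e₀ := by
    rw [← A.act_zero, A.act_mul, A.act_of_δ hc0, smul_zero, A.act_mul, A.act_zero, A.act_of_δ hci,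
      ← hce, inv_smul_smul]
  have g2 : (c⁻¹ * x * c) • e₀ = e₀ := by
    have h3 : A.act (c⁻¹ * x * c) e₀ = 0 := by
      rw [A.act_mul, A.act_of_δ hc0, hce, A.act_mul, ← A.act_zero x, ← A.act_mul x x, hx, A.act_one,
        A.act_of_δ hci, smul_zero]
    rw [act, g1, add_eq_zero_iff_eq_neg', A.neg_eq] at h3
    exact h3
  obtain ⟨z, -, hz⟩ := S.swapper_conj h1 h2 g1 g2
  refine ⟨c * z⁻¹, ?_⟩
  rw [show c * z⁻¹ * h * (c * z⁻¹)⁻¹ = c * (z⁻¹ * h * z) * c⁻¹ by group, hz]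
  group

theorem Small.card_cent_swapper {h : X} (h1 : A.δ h = e₀) (h2 : h • e₀ = e₀) :
    Nat.card (centralizer ({h} : Set X)) = 2 ^ s := by
  obtain ⟨hh, hinv⟩ := S.swapper h1 h2
  have htrans : ∀ p, ∃ g ∈ centralizer ({h} : Set X), A.δ g = p := by
    intro p
    have hne : p ≠ A.act h p := (S.fixed_point_free hh (fun h0 => S.e0 (by
      rw [← h1, h0, A.δ_one])) p).symm
    obtain ⟨d, hd, hde⟩ := A.two_trans S.e0 hne
    have g1 : A.δ (d⁻¹ * h * d) = e₀ := by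
      rw [← A.act_zero, A.act_mul, A.act_mul, A.act_zero, hd]
      exact A.act_inv_eq hde
    have g2 : (d⁻¹ * h * d) • e₀ = e₀ := by
      have h3 : A.act (d⁻¹ * h * d) e₀ = 0 := by
        rw [A.act_mul, A.act_mul, hde, ← A.act_mul h h, hh, A.act_one]
        exact A.act_inv_eq (by rw [A.act_zero, hd])
      rw [act, g1, add_eq_zero_iff_eq_neg', A.neg_eq] at h3
      exact h3
    obtain ⟨z, hz, hzh⟩ := S.swapper_conj h1 h2 g1 g2
    refine ⟨d * z⁻¹, mem_centralizer_singleton_iff.2 ?_, ?_⟩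
    · calc d * z⁻¹ * h = d * (z⁻¹ * h * z) * z⁻¹ := by group
        _ = h * (d * z⁻¹) := by rw [hzh]; group
    · rw [A.δ_mul_mem _ (inv_mem hz.1), hd]
  have hbot : centralizer ({h} : Set X) ⊓ A.X0 = ⊥ := by
    refine (eq_bot_iff_forall _).2 fun g hg => ?_
    have hgh : g * h = h * g := mem_centralizer_singleton_iff.1 hg.1
    have hge : g • e₀ = e₀ := by
      rw [← h1, ← A.act_of_δ hg.2, ← A.act_zero h, ← A.act_mul, hgh, A.act_mul, A.act_zero, hg.2]
    have hgF : g ∈ A.F e₀ := ⟨hg.2, hge⟩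
    have hgi : g = g⁻¹ := by
      rw [← hinv g hgF, ← hgh, mul_inv_cancel_right]
    by_contra hg1
    have h6 : orderOf g ∣ 2 := orderOf_dvd_of_pow_eq_one (by rw [pow_two]; nth_rw 1 [hgi]; rw [inv_mul_cancel])
    rw [S.orderOf_F hgF hg1] at h6
    have := Nat.le_of_dvd two_pos h6
    have := S.three
    omega
  rw [A.card_eq_mul _ htrans, hbot, card_bot, mul_one, S.cardE]

theorem Small.card_cent {x : X} (hx : x * x = 1) (hx1 : x ≠ 1) :
    Nat.card (centralizer ({x} : Set X)) = 2 ^ s := by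
  obtain ⟨h, h1, h2⟩ := S.exists_swapper
  obtain ⟨c, rfl⟩ := S.involution_conj h1 h2 hx hx1
  rw [← S.card_cent_swapper h1 h2]
  refine (Nat.card_congr ((MulAut.conj c).toEquiv.subtypeEquiv fun g => ?_)).symm
  simp only [mem_centralizer_singleton_iff, MulEquiv.toEquiv_eq_coe, MulEquiv.coe_toEquiv,
    MulAut.conj_apply]
  constructor
  · intro e
    calc c * g * c⁻¹ * (c * h * c⁻¹) = c * (g * h) * c⁻¹ := by group
      _ = _ := by rw [e]; group
  · intro e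
    calc g * h = c⁻¹ * (c * g * c⁻¹ * (c * h * c⁻¹)) * c := by group
      _ = h * g := by rw [e]; group

theorem Small.eq_cent {P : Subgroup X} (hP : Nat.card P = 2 ^ s) {x : X} (hx : x * x = 1) (hx1 : x ≠ 1)
    (hc : ∀ g ∈ P, g * x = x * g) : centralizer ({x} : Set X) = P :=
  (eq_of_le_of_card_ge (fun g hg => mem_centralizer_singleton_iff.2 (hc g hg))
    (by rw [hP, S.card_cent hx hx1])).symm

/-- A subgroup of order `|E|` is regular on the points. -/
theorem Small.regular {P : Subgroup X} (hP : Nat.card P = 2 ^ s) :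
    P ⊓ A.X0 = ⊥ ∧ ∀ p, ∃ g ∈ P, A.δ g = p := by
  have hbot : P ⊓ A.X0 = ⊥ := by
    refine (eq_bot_iff_forall _).2 fun g hg => ?_
    have h1 : orderOf g ∣ 2 ^ s := by
      rw [← hP, ← Subgroup.orderOf_mk g hg.1]; exact orderOf_dvd_natCard _
    exact orderOf_eq_one_iff.1 (Nat.eq_one_of_dvd_coprimes
      ((Nat.coprime_two_left.2 (A.odd g hg.2)).pow_left s) h1 dvd_rfl)
  refine ⟨hbot, ?_⟩
  have hb : Function.Bijective (fun g : P => A.δ g) := by
    refine Function.Injective.bijective_of_nat_card_le (fun a b hab => ?_) (by rw [hP, S.cardE])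
    have h1 : (a : X)⁻¹ * b ∈ P ⊓ A.X0 := ⟨P.mul_mem (P.inv_mem a.2) b.2, A.δ_eq_iff.1 hab⟩
    rw [hbot, mem_bot, inv_mul_eq_one] at h1
    exact Subtype.ext h1
  intro p
  obtain ⟨g, hg⟩ := hb.2 p
  exact ⟨g, g.2, hg⟩

/-- No element of `F` normalises a subgroup of order `|E|`. -/
theorem Small.not_normalises {P : Subgroup X} (hP : Nat.card P = 2 ^ s) {y : X} (hy : y ∈ A.F e₀)
    (hy1 : y ≠ 1) (hn : ∀ g ∈ P, y * g * y⁻¹ ∈ P) : False := by
  obtain ⟨hbot, htr⟩ := S.regular hP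
  obtain ⟨σ, hσ, hσe⟩ := htr e₀
  have h1 : A.δ (y * σ * y⁻¹) = e₀ := by
    rw [A.δ_mul_mem _ (inv_mem hy.1), A.δ_mul, (hy.1 : A.δ y = 0), hσe, zero_add]
    exact hy.2
  have h2 : σ⁻¹ * (y * σ * y⁻¹) ∈ P ⊓ A.X0 :=
    ⟨P.mul_mem (P.inv_mem hσ) (hn σ hσ), A.δ_eq_iff.1 (hσe.trans h1.symm)⟩
  rw [hbot, mem_bot, inv_mul_eq_one] at h2
  have h3 : Commute σ y := (mul_inv_eq_iff_eq_mul.1 h2.symm).symm
  exact S.e0 (hσe.symm.trans (S.cent y hy hy1 σ h3).1)

/-- Nor does any element of order `s`. -/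
theorem Small.not_dvd_normalizer {P : Subgroup X} (hP : Nat.card P = 2 ^ s) :
    ¬ s ∣ Nat.card (normalizer (P : Set X)) := by
  intro hd
  haveI := Fact.mk S.prime
  obtain ⟨⟨g, hg⟩, hgo⟩ := exists_prime_orderOf_dvd_card' s hd
  rw [Subgroup.orderOf_mk] at hgo
  obtain ⟨y, hy, hy1, hFy⟩ := S.exists_y
  have hsylow : ∀ H : Subgroup X, Nat.card H = s → ∃ T : Sylow s X, (T : Subgroup X) = H := by
    intro H hH
    have hidx : ¬ s ∣ H.index := by
      intro hdv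
      have h1 := H.card_mul_index
      rw [hH, S.card_X, show 2 ^ s * ((2 ^ s - 1) * s) = s * (2 ^ s * (2 ^ s - 1)) by ring] at h1
      rw [Nat.eq_of_mul_eq_mul_left S.prime.pos h1] at hdv
      rcases S.prime.dvd_mul.1 hdv with h | h
      · have := (Nat.prime_dvd_prime_iff_eq S.prime Nat.prime_two).1 (S.prime.dvd_of_dvd_pow h)
        have := S.three
        omega
      · exact S.not_dvd h
    exact ⟨(IsPGroup.of_card (n := 1) (by rw [hH, pow_one])).toSylow hidx, rfl⟩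
  obtain ⟨T1, hT1⟩ := hsylow (A.F e₀) S.cardF
  obtain ⟨T2, hT2⟩ := hsylow (zpowers g) (by rw [Nat.card_zpowers, hgo])
  obtain ⟨c, hc⟩ := MulAction.exists_smul_eq X T1 T2
  have hgc : c⁻¹ * g * c ∈ A.F e₀ := by
    have h1 : g ∈ ((c • T1 : Sylow s X) : Subgroup X) := by rw [hc, hT2]; exact mem_zpowers g
    rw [Sylow.coe_subgroup_smul, hT1, Subgroup.mem_pointwise_smul_iff_inv_smul_mem] at h1
    simpa [← map_inv, MulAut.smul_def, mul_assoc] using h1
  refine S.not_normalises (P := P.map (MulAut.conj c⁻¹).toMonoidHom) ?_ hgc ?_ ?_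
  · rw [card_map_of_injective (MulAut.conj c⁻¹).injective, hP]
  · intro h1
    have h2 : g = 1 := conj_eq_one_iff.1 (show c⁻¹ * g * c⁻¹⁻¹ = 1 by rw [inv_inv]; exact h1)
    rw [h2, orderOf_one] at hgo
    exact S.prime.ne_one hgo.symm
  · rintro _ ⟨m, hm, rfl⟩
    refine ⟨g * m * g⁻¹, ((mem_normalizer_iff.1 hg) m).1 hm, ?_⟩
    simp only [MulEquiv.coe_toMonoidHom, MulAut.conj_apply]
    group

end Aff

end Cfsg.Agent.InvolTimesPSL
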