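import Cfsg.Agent.Lib.PSL2.Classes
import Cfsg.Agent.Lib.GL.Simple
import Cfsg.Agent.Lib.PCore.Basic
import Cfsg.Prelude.Def_CaseTheorems
import Mathlib.GroupTheory.Sylow

/-!
# An involution with centraliser `Z₂ × PSL(2, q)` modulo the odd core

`Cent G F`: the subgroup `K ≤ C(t)` generated modulo the odd part by the `2`-elements, with the two
projections `χ` (to `Z₂`) and `ψ` (to `PSL(2, F)`).  `exists_cent` builds it from the hypothesis of the
statement; `isConj_of_χ`: involutions of `C(t)` with the same `χ` are conjugate in `C(t)`.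
-/

set_option autoImplicit false
set_option linter.style.haveILetI false

namespace Cfsg.Agent.InvolTimesPSL

open Subgroup
open scoped MatrixGroups

universe u v

/-- Two involutions with a product of odd order are conjugate under a power of the product. -/
theorem exists_pow_conj {G : Type u} [Group G] {a b : G} (ha : a * a = 1) (hb : b * b = 1)
    (hodd : Odd (orderOf (a * b))) : ∃ n : ℕ, (a * b) ^ n * b * ((a * b) ^ n)⁻¹ = a := by
  obtain ⟨j, hj⟩ := hodd
  have hbi : b⁻¹ = b := inv_eq_of_mul_eq_one_left hb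
  have hai : a⁻¹ = a := inv_eq_of_mul_eq_one_left ha
  refine ⟨j + 1, ?_⟩
  have hinv : ∀ n : ℕ, b * ((a * b) ^ n)⁻¹ = (a * b) ^ n * b := by
    intro n
    induction n with
    | zero => simp
    | succ n ih =>
      have h1 : (a * b)⁻¹ = b * a := by rw [mul_inv_rev, hbi, hai]
      have h2 : ((a * b) ^ (n + 1))⁻¹ = (a * b)⁻¹ * ((a * b) ^ n)⁻¹ := by rw [pow_succ, mul_inv_rev]
      rw [h2, h1]
      calc b * (b * a * ((a * b) ^ n)⁻¹) = (b * b) * a * ((a * b) ^ n)⁻¹ := by group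
        _ = (a * b) * (b * ((a * b) ^ n)⁻¹) := by
          rw [hb, one_mul]
          calc a * ((a * b) ^ n)⁻¹ = a * (b * b) * ((a * b) ^ n)⁻¹ := by rw [hb, mul_one]
            _ = _ := by group
        _ = (a * b) * ((a * b) ^ n * b) := by rw [ih]
        _ = (a * b) ^ (n + 1) * b := by rw [pow_succ']; group
  rw [mul_assoc, hinv, ← mul_assoc, ← pow_add, show j + 1 + (j + 1) = (2 * j + 1) + 1 by ring,
    pow_succ, ← hj, pow_orderOf_eq_one, one_mul, mul_assoc, hb, mul_one]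

/-- The structure of `C(t)`. -/
structure Cent (G : Type u) [Group G] (F : Type v) [Field F] [Fintype F] where
  t : G
  t_sq : t * t = 1
  t_ne : t ≠ 1
  K : Subgroup G
  K_le : ∀ x ∈ K, x * t = t * x
  two_mem : ∀ x, x * t = t * x → IsPGroup 2 (zpowers x) → x ∈ K
  O : Subgroup G
  O_le : O ≤ K
  O_odd : Odd (Nat.card O)
  ψ : K →* PSL(2, F)
  χ : K →* Multiplicative (ZMod 2)
  surj : ∀ p a, ∃ x, ψ x = p ∧ χ x = a
  mem_O : ∀ x : K, (x : G) ∈ O ↔ ψ x = 1 ∧ χ x = 1
  K_conj : ∀ c, c * t = t * c → ∀ x ∈ K, c * x * c⁻¹ ∈ K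
  χ_conj : ∀ c, c * t = t * c → ∀ (x : K) (h : c * x * c⁻¹ ∈ K), χ ⟨c * x * c⁻¹, h⟩ = χ x
  O_conj : ∀ c, c * t = t * c → ∀ x ∈ O, c * x * c⁻¹ ∈ O
  t_mem : t ∈ K
  χ_t : χ ⟨t, t_mem⟩ ≠ 1
  ψ_t : ψ ⟨t, t_mem⟩ = 1

theorem z2_cases (a : Multiplicative (ZMod 2)) : a = 1 ∨ a = Multiplicative.ofAdd 1 := by
  revert a; decide

theorem psl_hom_trivial {F : Type v} [Field F] [Fintype F] (hF : 4 ≤ Fintype.card F) {A : Type*}
    [CommGroup A] (f : PSL(2, F) →* A) (p : PSL(2, F)) : f p = 1 := by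
  haveI := PSL2.psl_isSimpleGroup hF
  rcases IsSimpleGroup.eq_bot_or_eq_top_of_normal f.ker inferInstance with h | h
  · exact absurd (fun a b => f.ker_eq_bot_iff.1 h (by rw [map_mul, map_mul, mul_comm]))
      (GL.PSL_not_comm (F := F) 2 le_rfl (fun _ => by rwa [Nat.card_eq_fintype_card]))
  · exact f.mem_ker.1 (h ▸ mem_top p)

theorem exists_cent {G : Type u} [Group G] [Finite G] {F : Type v} [Field F] [Fintype F] (t : G)
    (ht : orderOf t = 2) (hF : 3 < Fintype.card F)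
    (hL : Nonempty (↥(Subgroup.closure {x : (↥(Subgroup.centralizer ({t} : Set G)) ⧸
      Cfsg.oddCore ↥(Subgroup.centralizer ({t} : Set G))) | ∃ k : ℕ, orderOf x = 2 ^ k}) ≃*
      (Multiplicative (ZMod 2) × Matrix.ProjectiveSpecialLinearGroup (Fin 2) F))) :
    ∃ D : Cent G F, D.t = t := by
  classical
  obtain ⟨e⟩ := hL
  haveI : Fact (Nat.Prime 2) := ⟨Nat.prime_two⟩
  set C := centralizer ({t} : Set G) with hC
  set O0 := Cfsg.oddCore C with hO0
  set L := Subgroup.closure {x : C ⧸ O0 | ∃ k : ℕ, orderOf x = 2 ^ k} with hLdef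
  let q := QuotientGroup.mk' O0
  let K0 := L.comap q
  let qL : K0 →* L := q.subgroupComap L
  have hqL : Function.Surjective qL :=
    MonoidHom.subgroupComap_surjective_of_surjective q L (QuotientGroup.mk'_surjective _)
  let eK : K0 ≃* K0.map C.subtype := K0.equivMapOfInjective C.subtype C.subtype_injective
  let f : K0.map C.subtype →* Multiplicative (ZMod 2) × PSL(2, F) :=
    e.toMonoidHom.comp (qL.comp eK.symm.toMonoidHom)
  have hfval : ∀ (x : K0), f (eK x) = e (qL x) := fun x => by simp [f]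
  have hfsurj : Function.Surjective f := e.surjective.comp (hqL.comp eK.symm.surjective)
  have htC : t ∈ C := mem_centralizer_singleton_iff.2 rfl
  have ht2 : t * t = 1 := by rw [← pow_two, ← ht]; exact pow_orderOf_eq_one t
  have ht1 : t ≠ 1 := fun h => by rw [h, orderOf_one] at ht; omega
  have hOodd : Odd (Nat.card O0) := PCore.odd_card_oddCore
  have htwo : ∀ x : C, IsPGroup 2 (zpowers x) → x ∈ K0 := by
    intro x hx
    obtain ⟨i, hi⟩ := IsPGroup.iff_card.1 hx
    rw [Nat.card_zpowers] at hi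
    obtain ⟨j, -, hj⟩ := (Nat.dvd_prime_pow Nat.prime_two).1 (hi ▸ orderOf_map_dvd q x)
    exact Subgroup.subset_closure ⟨j, hj⟩
  have htK : (⟨t, htC⟩ : C) ∈ K0 := htwo _ (IsPGroup.of_card (n := 1) (by
    rw [Nat.card_zpowers, Subgroup.orderOf_mk, ht, pow_one]))
  have htcen : ∀ c : C, c * ⟨t, htC⟩ = ⟨t, htC⟩ * c := fun c =>
    Subtype.ext (mem_centralizer_singleton_iff.1 c.2)
  -- `t` maps to the generator of the first factor
  have hqt : q ⟨t, htC⟩ ≠ 1 := by
    intro h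
    have h1 : (⟨t, htC⟩ : C) ∈ O0 := (QuotientGroup.eq_one_iff _).1 h
    have h2 : orderOf (⟨t, htC⟩ : C) ∣ Nat.card O0 := by
      rw [← Subgroup.orderOf_mk (⟨t, htC⟩ : C) h1]; exact orderOf_dvd_natCard _
    rw [Subgroup.orderOf_mk, ht] at h2
    have h3 := Nat.odd_iff.1 hOodd
    omega
  set tK : K0.map C.subtype := eK ⟨⟨t, htC⟩, htK⟩ with htKdef
  have hft2 : (f tK).2 = 1 := by
    have hc : ∀ y, f tK * y = y * f tK := by
      intro y
      obtain ⟨x, rfl⟩ := hfsurj y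
      obtain ⟨x, rfl⟩ := eK.surjective x
      rw [htKdef, ← map_mul, ← map_mul, ← map_mul, ← map_mul]
      exact congrArg (fun z => f (eK z)) (Subtype.ext (htcen x).symm)
    have hmem : (f tK).2 ∈ center PSL(2, F) := mem_center_iff.2 fun p =>
      (congrArg Prod.snd (hc (1, p))).symm
    rwa [PSL2.center_psl_eq_bot (by omega), mem_bot] at hmem
  have hft1 : (f tK).1 ≠ 1 := by
    intro h
    apply hqt
    have h1 : f tK = 1 := Prod.ext h hft2
    rw [htKdef, hfval, EmbeddingLike.map_eq_one_iff] at h1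
    exact congrArg Subtype.val h1
  -- conjugation
  haveI hLn : L.Normal := ⟨fun x hx g => by
    induction hx using Subgroup.closure_induction with
    | mem y hy =>
      obtain ⟨k, hk⟩ := hy
      refine Subgroup.subset_closure ⟨k, ?_⟩
      rw [← MulAut.conj_apply, MulEquiv.orderOf_eq, hk]
    | one => simp
    | mul a b _ _ ha hb =>
      have := mul_mem ha hb
      rwa [show g * a * g⁻¹ * (g * b * g⁻¹) = g * (a * b) * g⁻¹ by group] at this
    | inv a _ ha =>
      have := inv_mem ha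
      rwa [show (g * a * g⁻¹)⁻¹ = g * a⁻¹ * g⁻¹ by group] at this⟩
  have hK0n : K0.Normal := Subgroup.Normal.comap hLn q
  have hconj : ∀ (c : C) (x : K0), ((f (eK ⟨c * x * c⁻¹, hK0n.conj_mem x x.2 c⟩)).1) = (f (eK x)).1 := by
    intro c
    let g : L →* Multiplicative (ZMod 2) := (MonoidHom.fst _ _).comp
      (e.toMonoidHom.comp (MulAut.conjNormal (H := L) (q c)).toMonoidHom)
    have hg : ∀ x : K0, (f (eK ⟨c * x * c⁻¹, hK0n.conj_mem x x.2 c⟩)).1 = g (qL x) := by
      intro x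
      rw [hfval]
      refine congrArg (fun z => (e z).1) (Subtype.ext ?_)
      rw [MulEquiv.coe_toMonoidHom, MulAut.conjNormal_apply]
      show q (c * x * c⁻¹) = q c * q x * (q c)⁻¹
      rw [map_mul, map_mul, map_inv]
    have hgP : ∀ p : PSL(2, F), g (e.symm (1, p)) = 1 := fun p =>
      psl_hom_trivial (by omega) (g.comp (e.symm.toMonoidHom.comp (MonoidHom.inr _ _))) p
    have hgt : g (qL ⟨⟨t, htC⟩, htK⟩) = (f tK).1 := by
      rw [← hg, htKdef]
      refine congrArg (fun z => (f (eK z)).1) (Subtype.ext ?_)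
      show c * ⟨t, htC⟩ * c⁻¹ = ⟨t, htC⟩
      rw [htcen, mul_inv_cancel_right]
    intro x
    rw [hg, hfval]
    obtain ⟨⟨a, p⟩, hap⟩ : ∃ y, e (qL x) = y := ⟨_, rfl⟩
    rw [hap]
    show g (qL x) = a
    rw [show qL x = e.symm (a, p) from (e.eq_symm_apply).2 hap,
      show ((a, p) : Multiplicative (ZMod 2) × PSL(2, F)) = (a, 1) * (1, p) by simp, map_mul, map_mul, hgP,
      mul_one]
    rcases z2_cases a with rfl | rfl
    · exact map_one (g.comp (e.symm.toMonoidHom.comp (MonoidHom.inl _ PSL(2, F))))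
    · have h1 : (f tK) = (Multiplicative.ofAdd 1, 1) :=
        Prod.ext ((z2_cases _).resolve_left hft1) hft2
      rw [show e.symm (Multiplicative.ofAdd 1, 1) = qL ⟨⟨t, htC⟩, htK⟩ from
        (e.symm_apply_eq).2 (by rw [← hfval, ← htKdef, h1]), hgt, h1]
  refine ⟨
    { t := t, t_sq := ht2, t_ne := ht1, K := K0.map C.subtype
      K_le := ?_, two_mem := ?_, O := O0.map C.subtype, O_le := ?_, O_odd := ?_
      ψ := (MonoidHom.snd _ _).comp f, χ := (MonoidHom.fst _ _).comp f, surj := ?_, mem_O := ?_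
      K_conj := ?_, χ_conj := ?_, O_conj := ?_
      t_mem := ⟨⟨t, htC⟩, htK, rfl⟩, χ_t := ?_, ψ_t := ?_ }, rfl⟩
  · rintro _ ⟨x, -, rfl⟩
    exact mem_centralizer_singleton_iff.1 x.2
  · intro x hx h2
    refine ⟨⟨x, mem_centralizer_singleton_iff.2 hx⟩, htwo _ ?_, rfl⟩
    intro z
    obtain ⟨i, hi⟩ := h2 ⟨((z : C) : G), by
      obtain ⟨l, hl⟩ := mem_zpowers_iff.1 z.2
      exact ⟨l, by rw [← hl]; rfl⟩⟩
    exact ⟨i, Subtype.ext (Subtype.ext (by simpa using congrArg Subtype.val hi))⟩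
  · rintro _ ⟨x, hx, rfl⟩
    refine ⟨x, ?_, rfl⟩
    show q x ∈ L
    rw [show q x = 1 from (QuotientGroup.eq_one_iff x).2 hx]
    exact one_mem L
  · rw [card_map_of_injective C.subtype_injective]; exact hOodd
  · intro p a
    obtain ⟨x, hx⟩ := hfsurj (a, p)
    exact ⟨x, congrArg Prod.snd hx, congrArg Prod.fst hx⟩
  · intro x
    obtain ⟨y, rfl⟩ := eK.surjective x
    constructor
    · rintro ⟨z, hz, hzy⟩
      have hzy' : z = (y : C) := C.subtype_injective hzy
      have h : f (eK y) = 1 := by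
        rw [hfval, EmbeddingLike.map_eq_one_iff]
        refine Subtype.ext ?_
        show q (y : C) = 1
        exact (QuotientGroup.eq_one_iff _).2 (hzy' ▸ hz)
      exact ⟨congrArg Prod.snd h, congrArg Prod.fst h⟩
    · rintro ⟨h2, h1⟩
      have h : f (eK y) = 1 := Prod.ext h1 h2
      rw [hfval, EmbeddingLike.map_eq_one_iff] at h
      exact ⟨(y : C), (QuotientGroup.eq_one_iff _).1 (congrArg Subtype.val h), rfl⟩
  · rintro c hc _ ⟨x, hx, rfl⟩
    exact ⟨⟨c, mem_centralizer_singleton_iff.2 hc⟩ * x * ⟨c, mem_centralizer_singleton_iff.2 hc⟩⁻¹,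
      hK0n.conj_mem x hx _, rfl⟩
  · intro c hc x h
    obtain ⟨y, rfl⟩ := eK.surjective x
    exact Eq.trans (congrArg (fun z => (f z).1) (Subtype.ext rfl))
      (hconj ⟨c, mem_centralizer_singleton_iff.2 hc⟩ y)
  · rintro c hc _ ⟨x, hx, rfl⟩
    exact ⟨⟨c, mem_centralizer_singleton_iff.2 hc⟩ * x * ⟨c, mem_centralizer_singleton_iff.2 hc⟩⁻¹,
      (inferInstance : O0.Normal).conj_mem x hx _, rfl⟩
  · exact hft1
  · exact hft2

namespace Cent

variable {G : Type u} [Group G] {F : Type v} [Field F] [Fintype F] (D : Cent G F)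

theorem χ_t_eq : D.χ ⟨D.t, D.t_mem⟩ = Multiplicative.ofAdd 1 := (z2_cases _).resolve_left D.χ_t

theorem O_two [Finite G] {x : G} (hx : x ∈ D.O) {n : ℕ} (h : x ^ 2 ^ n = 1) : x = 1 :=
  orderOf_eq_one_iff.1 (Nat.eq_one_of_dvd_coprimes
    ((Nat.coprime_two_left.2 D.O_odd).pow_left n)
    (orderOf_dvd_of_pow_eq_one h) ((Subgroup.orderOf_mk x hx).symm ▸ orderOf_dvd_natCard (⟨x, hx⟩ : D.O)))

theorem involution_mem {u : G} (hu : u * u = 1) (hut : u * D.t = D.t * u) : u ∈ D.K :=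
  D.two_mem u hut fun ⟨g, hg⟩ => ⟨1, Subtype.ext (by
    obtain ⟨i, rfl⟩ := mem_zpowers_iff.1 hg
    show (u ^ i) ^ 2 ^ 1 = 1
    rw [pow_one, pow_two, ← Commute.mul_zpow (Commute.refl u), hu, one_zpow])⟩

theorem ψ_orderOf [Finite G] {u : D.K} (hu : (u : G) * u = 1) (hu1 : (u : G) ≠ 1) (hut : (u : G) ≠ D.t) :
    orderOf (D.ψ u) = 2 := by
  refine orderOf_eq_prime ?_ fun h => ?_
  · rw [pow_two, ← map_mul, show u * u = 1 from Subtype.ext hu, map_one]
  rcases z2_cases (D.χ u) with hχ | hχ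
  · exact hu1 (D.O_two ((D.mem_O u).2 ⟨h, hχ⟩) (n := 1) (by rw [pow_one, pow_two, hu]))
  · have hmem : ((⟨D.t, D.t_mem⟩ * u : D.K) : G) ∈ D.O :=
      (D.mem_O _).2 ⟨by rw [map_mul, D.ψ_t, h, one_mul], by rw [map_mul, D.χ_t_eq, hχ]; decide⟩
    have h2 : D.t * (u : G) = 1 := D.O_two hmem (n := 1) (by
      rw [pow_one, pow_two]
      show D.t * (u : G) * (D.t * u) = 1
      rw [← mul_assoc, mul_assoc D.t (u : G), D.K_le u u.2, ← mul_assoc, D.t_sq, one_mul, hu])
    exact hut ((mul_eq_one_iff_inv_eq.1 h2).symm.trans (inv_eq_of_mul_eq_one_left D.t_sq))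

/-- Involutions of `C(t)` with the same image are conjugate under `O`. -/
theorem exists_O_conj [Finite G] {u v : D.K} (hu : (u : G) * u = 1) (hv : (v : G) * v = 1)
    (hψ : D.ψ u = D.ψ v) (hχ : D.χ u = D.χ v) : ∃ o ∈ D.O, o * v * o⁻¹ = (u : G) := by
  have hmem : ((u * v : D.K) : G) ∈ D.O := by
    refine (D.mem_O _).2 ⟨?_, ?_⟩
    · rw [map_mul, hψ, ← map_mul, show v * v = 1 from Subtype.ext hv, map_one]
    · rw [map_mul, hχ, ← map_mul, show v * v = 1 from Subtype.ext hv, map_one]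
  have hodd : Odd (orderOf ((u : G) * v)) := by
    refine D.O_odd.of_dvd_nat ?_
    rw [← Subgroup.orderOf_mk ((u : G) * v) hmem]
    exact orderOf_dvd_natCard _
  obtain ⟨n, hn⟩ := exists_pow_conj hu hv hodd
  exact ⟨_, pow_mem hmem n, hn⟩

/-- Involutions of `C(t)` other than `t` with the same `χ` are conjugate in `C(t)`. -/
theorem isConj_of_χ [Finite G] {u v : D.K} (hu : (u : G) * u = 1) (hv : (v : G) * v = 1)
    (hu1 : (u : G) ≠ 1) (hv1 : (v : G) ≠ 1) (hut : (u : G) ≠ D.t) (hvt : (v : G) ≠ D.t)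
    (hχ : D.χ u = D.χ v) : ∃ c, c * D.t = D.t * c ∧ c * u * c⁻¹ = (v : G) := by
  obtain ⟨p, hp⟩ := isConj_iff.1 (PSL2.psl_involutions_isConj (D.ψ_orderOf hu hu1 hut)
    (D.ψ_orderOf hv hv1 hvt))
  obtain ⟨k, hk, -⟩ := D.surj p 1
  have hu' : ((k * u * k⁻¹ : D.K) : G) * (k * u * k⁻¹ : D.K) = 1 := by
    show (k : G) * u * (k : G)⁻¹ * ((k : G) * u * (k : G)⁻¹) = 1
    calc (k : G) * u * (k : G)⁻¹ * ((k : G) * u * (k : G)⁻¹) = (k : G) * ((u : G) * u) * (k : G)⁻¹ := by group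
      _ = 1 := by rw [hu]; group
  obtain ⟨o, ho, hoe⟩ := D.exists_O_conj hv hu' (by rw [map_mul, map_mul, map_inv, hk, hp])
    (by rw [map_mul, map_mul, map_inv, ← hχ, mul_comm (D.χ k) (D.χ u), mul_inv_cancel_right])
  refine ⟨o * k, ?_, ?_⟩
  · exact D.K_le _ (mul_mem (D.O_le ho) k.2)
  · rw [← hoe]
    show o * (k : G) * u * (o * (k : G))⁻¹ = o * ((k : G) * u * (k : G)⁻¹) * o⁻¹
    group

end Cent

end Cfsg.Agent.InvolTimesPSL
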