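import Cfsg.Agent.Lib.InvolTimesPSL.Cent

/-!
# Lifting `2`-subgroups of `PSL(2, q)` and their normalisers into `C(t)`
-/

set_option autoImplicit false
set_option linter.style.haveILetI false

namespace Cfsg.Agent.InvolTimesPSL

open Subgroup
open scoped MatrixGroups

universe u v

namespace Cent

variable {G : Type u} [Group G] {F : Type v} [Field F] [Fintype F] (D : Cent G F)

/-- `V ≤ K` maps isomorphically onto `P₀` and trivially under `χ`. -/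
structure Lift (P₀ : Subgroup PSL(2, F)) where
  V : Subgroup G
  le : V ≤ D.K
  two : IsPGroup 2 V
  χ_one : ∀ v : D.K, (v : G) ∈ V → D.χ v = 1
  ψ_mem : ∀ v : D.K, (v : G) ∈ V → D.ψ v ∈ P₀
  ψ_surj : ∀ p ∈ P₀, ∃ v : D.K, (v : G) ∈ V ∧ D.ψ v = p

variable [Finite G]

/-- The part of `K` over `P₀`. -/
def fibre (P₀ : Subgroup PSL(2, F)) : Subgroup D.K := D.χ.ker ⊓ P₀.comap D.ψ

theorem exists_lift {P₀ : Subgroup PSL(2, F)} (hP : IsPGroup 2 P₀) : Nonempty (D.Lift P₀) := by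
  haveI : Fact (Nat.Prime 2) := ⟨Nat.prime_two⟩
  set M := D.fibre P₀
  let f : M →* P₀ := (D.ψ.comp M.subtype).codRestrict P₀ fun x => x.2.2
  have hf : Function.Surjective f := fun p => by
    obtain ⟨x, hx, hxa⟩ := D.surj p.1 1
    refine ⟨⟨x, hxa, ?_⟩, Subtype.ext hx⟩
    show D.ψ x ∈ P₀
    rw [hx]; exact p.2
  obtain ⟨S⟩ : Nonempty (Sylow 2 M) := inferInstance
  have htop : (S.mapSurjective hf : Subgroup P₀) = ⊤ :=
    ((S.mapSurjective hf).3 (hP.of_equiv Subgroup.topEquiv.symm) le_top).symm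
  refine ⟨⟨((S : Subgroup M).map M.subtype).map D.K.subtype, map_subtype_le _, (S.2.map _).map _,
    ?_, ?_, ?_⟩⟩
  · rintro v ⟨_, ⟨x, -, rfl⟩, hx⟩
    obtain rfl : (x : D.K) = v := Subtype.ext hx
    exact x.2.1
  · rintro v ⟨_, ⟨x, -, rfl⟩, hx⟩
    obtain rfl : (x : D.K) = v := Subtype.ext hx
    exact x.2.2
  · intro p hp
    obtain ⟨x, hx, hxp⟩ : (⟨p, hp⟩ : P₀) ∈ (S.mapSurjective hf : Subgroup P₀) := htop ▸ mem_top _
    exact ⟨x, ⟨_, ⟨x, hx, rfl⟩, rfl⟩, congrArg Subtype.val hxp⟩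

variable {D} {P₀ : Subgroup PSL(2, F)} (L : D.Lift P₀)

omit [Finite G] in
theorem Lift.comm_t {v : G} (hv : v ∈ L.V) : v * D.t = D.t * v := D.K_le v (L.le hv)

omit [Finite G] in
theorem Lift.t_notMem : D.t ∉ L.V := fun h => D.χ_t (L.χ_one ⟨D.t, D.t_mem⟩ h)

theorem Lift.eq_of_ψ {v w : D.K} (hv : (v : G) ∈ L.V) (hw : (w : G) ∈ L.V) (h : D.ψ v = D.ψ w) :
    v = w := by
  have hO : ((v⁻¹ * w : D.K) : G) ∈ D.O := (D.mem_O _).2
    ⟨by rw [map_mul, map_inv, h, inv_mul_cancel],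
      by rw [map_mul, map_inv, L.χ_one v hv, L.χ_one w hw, inv_one, one_mul]⟩
  have hmem : (v : G)⁻¹ * w ∈ L.V := mul_mem (inv_mem hv) hw
  obtain ⟨n, hn⟩ := L.two ⟨_, hmem⟩
  exact Subtype.ext (inv_mul_eq_one.1 (D.O_two (x := (v : G)⁻¹ * w) hO (n := n)
    (congrArg Subtype.val hn)))

theorem Lift.card_eq : Nat.card L.V = Nat.card P₀ := by
  refine Nat.card_eq_of_bijective (fun v : L.V => (⟨D.ψ ⟨v, L.le v.2⟩, L.ψ_mem _ v.2⟩ : P₀)) ⟨?_, ?_⟩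
  · intro a b h
    exact Subtype.ext (congrArg (fun z : D.K => (z : G))
      (L.eq_of_ψ (v := ⟨a, L.le a.2⟩) (w := ⟨b, L.le b.2⟩) a.2 b.2 (congrArg Subtype.val h)))
  · rintro ⟨p, hp⟩
    obtain ⟨v, hv, rfl⟩ := L.ψ_surj p hp
    exact ⟨⟨v, hv⟩, rfl⟩

theorem Lift.comm (hcomm : ∀ a ∈ P₀, ∀ b ∈ P₀, a * b = b * a) {a b : G} (ha : a ∈ L.V) (hb : b ∈ L.V) :
    a * b = b * a := by
  refine congrArg Subtype.val (L.eq_of_ψ (v := (⟨a, L.le ha⟩ : D.K) * ⟨b, L.le hb⟩)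
    (w := (⟨b, L.le hb⟩ : D.K) * ⟨a, L.le ha⟩) (mul_mem ha hb) (mul_mem hb ha) ?_)
  rw [map_mul, map_mul, hcomm _ (L.ψ_mem ⟨a, L.le ha⟩ ha) _ (L.ψ_mem ⟨b, L.le hb⟩ hb)]

/-- A maximal `2`-subgroup of `C(t)`: `V ∪ tV` for `P₀` a Sylow subgroup. -/
theorem Lift.split (hmax : ∀ Q : Subgroup PSL(2, F), IsPGroup 2 Q → P₀ ≤ Q → Q ≤ P₀) {P : Subgroup G}
    (hP : IsPGroup 2 P) (hVP : L.V ≤ P) (htP : D.t ∈ P) (hc : ∀ g ∈ P, g * D.t = D.t * g) {g : G}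
    (hg : g ∈ P) : g ∈ L.V ∨ D.t * g ∈ L.V := by
  have hPK : P ≤ D.K := fun x hx => D.two_mem x (hc x hx) (hP.to_le (zpowers_le.2 hx))
  have himg : (P.subgroupOf D.K).map D.ψ ≤ P₀ :=
    hmax _ ((hP.comap_of_injective _ D.K.subtype_injective).map _) fun p hp => by
      obtain ⟨v, hv, rfl⟩ := L.ψ_surj p hp
      exact ⟨v, hVP hv, rfl⟩
  have key : ∀ x : D.K, (x : G) ∈ P → D.χ x = 1 → (x : G) ∈ L.V := by
    intro x hx hxχ
    obtain ⟨v, hv, hvx⟩ := L.ψ_surj _ (himg ⟨x, hx, rfl⟩)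
    have hO : ((v⁻¹ * x : D.K) : G) ∈ D.O := (D.mem_O _).2
      ⟨by rw [map_mul, map_inv, hvx, inv_mul_cancel],
        by rw [map_mul, map_inv, L.χ_one v hv, hxχ, inv_one, one_mul]⟩
    have hmem : (v : G)⁻¹ * x ∈ P := mul_mem (inv_mem (hVP hv)) hx
    obtain ⟨n, hn⟩ := hP ⟨_, hmem⟩
    have h1 := inv_mul_eq_one.1 (D.O_two (x := (v : G)⁻¹ * x) hO (n := n) (congrArg Subtype.val hn))
    exact h1 ▸ hv
  rcases z2_cases (D.χ ⟨g, hPK hg⟩) with h | h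
  · exact Or.inl (key ⟨g, hPK hg⟩ hg h)
  · refine Or.inr (key (⟨D.t, D.t_mem⟩ * ⟨g, hPK hg⟩) (mul_mem htP hg) ?_)
    rw [map_mul, D.χ_t_eq, h]; decide

/-- Elements of the normaliser of an abelian `P₀` lift to elements normalising `V` with the same
action. -/
theorem Lift.exists_normalizer (hcomm : ∀ a ∈ P₀, ∀ b ∈ P₀, a * b = b * a) {n : PSL(2, F)}
    (hn : n ∈ normalizer (P₀ : Set PSL(2, F))) :
    ∃ k : D.K, ∀ v : D.K, (v : G) ∈ L.V →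
      ((k * v * k⁻¹ : D.K) : G) ∈ L.V ∧ D.ψ (k * v * k⁻¹) = n * D.ψ v * n⁻¹ := by
  classical
  haveI : Fact (Nat.Prime 2) := ⟨Nat.prime_two⟩
  set M := D.fibre P₀
  obtain ⟨k₁, hk₁, hk₁χ⟩ := D.surj n 1
  have hmemM : ∀ x : D.K, D.χ x = 1 → D.ψ x ∈ P₀ → x ∈ M := fun x h1 h2 => ⟨h1, h2⟩
  let V' : Subgroup M := (L.V.subgroupOf D.K).subgroupOf M
  let c : D.K →* D.K := (MulAut.conj k₁).toMonoidHom
  let W' : Subgroup M := ((L.V.subgroupOf D.K).map c).subgroupOf M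
  have hV'p : IsPGroup 2 (L.V.subgroupOf D.K) := L.two.comap_of_injective _ D.K.subtype_injective
  have hWM : ∀ v : D.K, (v : G) ∈ L.V → k₁ * v * k₁⁻¹ ∈ M := by
    intro v hv
    refine hmemM _ ?_ ?_
    · rw [map_mul, map_mul, map_inv, hk₁χ, L.χ_one v hv, inv_one, one_mul, one_mul]
    · rw [map_mul, map_mul, map_inv, hk₁]
      exact ((mem_normalizer_iff.1 hn) _).1 (L.ψ_mem v hv)
  have hmaxV : ∀ {Q : Subgroup M}, IsPGroup 2 Q → V' ≤ Q → Q = V' := by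
    intro Q hQ hle
    refine le_antisymm (fun x hx => ?_) hle
    obtain ⟨v, hv, hvx⟩ := L.ψ_surj _ x.2.2
    have hvM : v ∈ M := hmemM v (L.χ_one v hv) (L.ψ_mem v hv)
    have hmem : (⟨v, hvM⟩ : M)⁻¹ * x ∈ Q := mul_mem (inv_mem (hle hv)) hx
    obtain ⟨i, hi⟩ := hQ ⟨_, hmem⟩
    have hO : ((v⁻¹ * (x : D.K) : D.K) : G) ∈ D.O := (D.mem_O _).2
      ⟨by rw [map_mul, map_inv, hvx, inv_mul_cancel],
        by rw [map_mul, map_inv, L.χ_one v hv, show D.χ (x : D.K) = 1 from x.2.1, inv_one, one_mul]⟩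
    have h1 := inv_mul_eq_one.1 (D.O_two (x := (v : G)⁻¹ * ((x : D.K) : G)) hO (n := i)
      (congrArg (fun q : Q => (((q : M) : D.K) : G)) hi))
    show (((x : M) : D.K) : G) ∈ L.V
    exact h1 ▸ hv
  let S1 : Sylow 2 M := ⟨V', hV'p.comap_of_injective _ M.subtype_injective, hmaxV⟩
  have hWp : IsPGroup 2 W' := (hV'p.map c).comap_of_injective _ M.subtype_injective
  obtain ⟨S2, hS2⟩ := hWp.exists_le_sylow
  obtain ⟨g, hg⟩ := MulAction.exists_smul_eq M S2 S1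
  refine ⟨(g : D.K) * k₁, fun v hv => ?_⟩
  have hm : (⟨k₁ * v * k₁⁻¹, hWM v hv⟩ : M) ∈ (S2 : Subgroup M) := hS2 ⟨v, hv, rfl⟩
  have h2 : g * ⟨k₁ * v * k₁⁻¹, hWM v hv⟩ * g⁻¹ ∈ (S1 : Subgroup M) := by
    rw [← hg, Sylow.coe_subgroup_smul]
    exact Subgroup.smul_mem_pointwise_smul _ (MulAut.conj g) _ hm
  have hconj : (g : D.K) * k₁ * v * ((g : D.K) * k₁)⁻¹ = (g : D.K) * (k₁ * v * k₁⁻¹) * (g : D.K)⁻¹ := by
    group
  refine ⟨by rw [hconj]; exact h2, ?_⟩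
  have hP : n * D.ψ v * n⁻¹ ∈ P₀ := ((mem_normalizer_iff.1 hn) _).1 (L.ψ_mem v hv)
  rw [hconj, map_mul, map_mul, map_mul, map_mul, map_inv, map_inv, hk₁,
    hcomm _ (show D.ψ (g : D.K) ∈ P₀ from g.2.2) _ hP, mul_inv_cancel_right]

end Cent

end Cfsg.Agent.InvolTimesPSL
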