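import Cfsg.Agent.Lib.InvolTimesPSL.DihedralSetup
import Cfsg.Agent.Lib.PSL2.Klein
import Cfsg.Agent.Lib.Perm.FourGroupFormula
import Mathlib.GroupTheory.Perm.Cycle.Type

/-!
# The dihedral case: the order of a Sylow `2`-subgroup

`card_sylow_eq`: `|T| = 2 |T₀|`, from the parity of the action of `t` on its conjugacy class.
-/

set_option autoImplicit false
set_option linter.style.haveILetI false

namespace Cfsg.Agent.InvolTimesPSL

open Subgroup DihedralGroup
open scoped MatrixGroups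

universe u v

theorem card_eq_mul_of_fibres {α β : Type*} [Finite α] [Finite β] (f : α → β) (c : ℕ)
    (h : ∀ b, Nat.card {a // f a = b} = c) : Nat.card α = Nat.card β * c := by
  haveI := Fintype.ofFinite β
  rw [← Nat.card_congr (Equiv.sigmaFiberEquiv f), Nat.card_sigma, Finset.sum_congr rfl fun b _ => h b,
    Finset.sum_const, Finset.card_univ, smul_eq_mul, Nat.card_eq_fintype_card]

theorem involution_count_mod {q P I c : ℕ} (hq : Odd q) (hq1 : 1 < q) (h8 : 8 ∣ P)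
    (hP : 2 * P = q * (q ^ 2 - 1)) (hI : I * c = P)
    (hc : (q % 4 = 1 → c = q - 1) ∧ (q % 4 = 3 → c = q + 1)) : I % 4 = 1 := by
  have h16 : 16 ∣ q ^ 2 - 1 := by
    obtain ⟨d, rfl⟩ := h8
    refine ((Nat.Coprime.pow_left 4 (Nat.coprime_two_left.2 hq)) : Nat.Coprime 16 q).dvd_of_dvd_mul_left ⟨d, ?_⟩
    rw [← hP]; ring
  obtain ⟨e, he⟩ : ∃ e, q = 8 * (q / 8) + e ∧ e < 8 := ⟨q % 8, by omega⟩
  set j := q / 8
  rw [Nat.odd_iff] at hq
  have he' : e = 1 ∨ e = 7 := by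
    have hsq : q ^ 2 = 16 * (4 * j * j + j * e) + e * e := by rw [he.1]; ring
    rcases (show e = 1 ∨ e = 3 ∨ e = 5 ∨ e = 7 by omega) with rfl | rfl | rfl | rfl
    · exact Or.inl rfl
    · omega
    · omega
    · exact Or.inr rfl
  rcases he' with rfl | rfl
  · have hj : 0 < j := by omega
    rw [hc.1 (by omega), he.1, show 8 * j + 1 - 1 = 8 * j by omega] at hI
    have h2 : 2 * P = (8 * j + 1) * ((8 * j) * (8 * j + 2)) := by
      rw [hP, he.1]; congr 1
      rw [show (8 * j + 1) ^ 2 = (8 * j) * (8 * j + 2) + 1 by ring]; omega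
    have h3 : I * (16 * j) = (8 * j + 1) * (4 * j + 1) * (16 * j) := by
      calc I * (16 * j) = 2 * (I * (8 * j)) := by ring
        _ = _ := by rw [hI, h2]; ring
    have h4 := Nat.eq_of_mul_eq_mul_right (by omega) h3
    rw [h4, show (8 * j + 1) * (4 * j + 1) = 4 * (8 * j * j + 3 * j) + 1 by ring]
    omega
  · rw [hc.2 (by omega), he.1, show 8 * j + 7 + 1 = 8 * (j + 1) by omega] at hI
    have h2 : 2 * P = (8 * j + 7) * ((8 * j + 6) * (8 * (j + 1))) := by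
      rw [hP, he.1]; congr 1
      rw [show (8 * j + 7) ^ 2 = (8 * j + 6) * (8 * (j + 1)) + 1 by ring]; omega
    have h3 : I * (16 * (j + 1)) = (8 * j + 7) * (4 * j + 3) * (16 * (j + 1)) := by
      calc I * (16 * (j + 1)) = 2 * (I * (8 * (j + 1))) := by ring
        _ = _ := by rw [hI, h2]; ring
    have h4 := Nat.eq_of_mul_eq_mul_right (by omega) h3
    rw [h4, show (8 * j + 7) * (4 * j + 3) = 4 * (8 * j * j + 13 * j + 5) + 1 by ring]
    omega

theorem factor_mod_four {h c d f : ℕ} (hodd : Odd h) (hb : h * d ^ 2 = c * c * c) (hh : h = c * f) :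
    f % 4 = 1 := by
  have hc : Odd c := (Nat.odd_mul.1 (hh ▸ hodd)).1
  have h1 : f * d ^ 2 = c * c := by
    refine Nat.eq_of_mul_eq_mul_left hc.pos ?_
    rw [← mul_assoc, ← hh, hb, mul_assoc]
  have hd : Odd d := (Nat.odd_pow_iff two_ne_zero).1 (Nat.odd_mul.1 (show Odd (f * d ^ 2) by rw [h1]; exact hc.mul hc)).2
  obtain ⟨a, rfl⟩ := hd
  obtain ⟨b, rfl⟩ := hc
  rw [show f * (2 * a + 1) ^ 2 = 4 * (f * (a * a + a)) + f by ring,
    show (2 * b + 1) * (2 * b + 1) = 4 * (b * b + b) + 1 by ring] at h1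
  omega

theorem two_part_unique {a b m n : ℕ} (hm : Odd m) (hn : Odd n) (h : 2 ^ a * m = 2 ^ b * n) : a = b := by
  apply le_antisymm
  · exact (Nat.pow_dvd_pow_iff_le_right (by omega)).1
      ((Nat.Coprime.pow_left a (Nat.coprime_two_left.2 hn)).dvd_of_dvd_mul_right ⟨m, h.symm⟩)
  · exact (Nat.pow_dvd_pow_iff_le_right (by omega)).1
      ((Nat.Coprime.pow_left b (Nat.coprime_two_left.2 hm)).dvd_of_dvd_mul_right ⟨n, h⟩)

namespace Dih

variable {G : Type u} [Group G] [Finite G] {F : Type v} [Field F] [Fintype F] (H : Dih G F)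

/-- A noncentral involution of `V`. -/
def s : G := H.ι (sr 0)

theorem s_sq : H.s * H.s = 1 := by rw [s, ← map_mul, sr_mul_self, map_one]

theorem s_ne : H.s ≠ 1 := fun h => by
  have := H.inj (h.trans H.ι.map_one.symm)
  rw [one_def] at this
  cases this

theorem s_ne_z : H.s ≠ H.z := fun h => by simpa [Dihedral2.zz] using H.inj h

theorem ψ_z : orderOf (H.D.ψ ⟨H.z, H.L.le H.z_mem⟩) = 2 :=
  H.D.ψ_orderOf H.z_sq H.z_ne H.z_ne_t

include H in
theorem card_PSL_dvd : 8 ∣ Nat.card PSL(2, F) := by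
  refine dvd_trans ?_ (Subgroup.card_subgroup_dvd_card (H.P₀ : Subgroup PSL(2, F)))
  rw [← H.L.card_eq, show Nat.card H.L.V = Nat.card (DihedralGroup (2 ^ (H.m + 2))) from
    (Nat.card_eq_of_bijective (fun x => (⟨H.ι x, H.ι_mem x⟩ : H.L.V))
      ⟨fun a b h => H.inj (congrArg Subtype.val h :), fun ⟨v, hv⟩ => by
        obtain ⟨x, hx⟩ := (H.range v).1 hv; exact ⟨x, Subtype.ext hx⟩⟩).symm, DihedralGroup.nat_card]
  exact ⟨2 ^ H.m, by rw [pow_add]; ring⟩

/-- Involutions of `K` in the kernel of `χ`. -/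
def NSet : Set H.D.K := {u | (u : G) * u = 1 ∧ (u : G) ≠ 1 ∧ H.D.χ u = 1}

theorem NSet_ne_t {u : H.D.K} (hu : u ∈ H.NSet) : (u : G) ≠ H.t := fun h =>
  H.D.χ_t (by rw [← hu.2.2]; exact congrArg H.D.χ (Subtype.ext h.symm))

theorem card_fibre (p : {p : PSL(2, F) // orderOf p = 2}) :
    Nat.card {u : H.NSet // H.D.ψ u.1 = p.1} =
      Nat.card {u : H.NSet // H.D.ψ u.1 = H.D.ψ ⟨H.z, H.L.le H.z_mem⟩} := by
  obtain ⟨q, hq⟩ := isConj_iff.1 (PSL2.psl_involutions_isConj p.2 H.ψ_z)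
  obtain ⟨k, hk, -⟩ := H.D.surj q 1
  have hconj : ∀ (u : H.D.K) (x : H.D.K), u ∈ H.NSet → x * u * x⁻¹ ∈ H.NSet := by
    intro u x ⟨h1, h2, h3⟩
    refine ⟨?_, ?_, by rw [map_mul, map_mul, map_inv, h3, mul_one, mul_inv_cancel]⟩
    · show (x : G) * u * (x : G)⁻¹ * ((x : G) * u * (x : G)⁻¹) = 1
      rw [show (x : G) * u * (x : G)⁻¹ * ((x : G) * u * (x : G)⁻¹) = (x : G) * ((u : G) * u) * (x : G)⁻¹ by group, h1]
      group
    · exact fun h => h2 (conj_eq_one_iff.1 h)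
  refine Nat.card_congr
    { toFun := fun u => ⟨⟨k * u.1.1 * k⁻¹, hconj _ k u.1.2⟩, by
        show H.D.ψ (k * u.1.1 * k⁻¹) = _
        rw [map_mul, map_mul, map_inv, u.2, hk, hq]⟩
      invFun := fun u => ⟨⟨k⁻¹ * u.1.1 * k, by
          have := hconj _ k⁻¹ u.1.2; rwa [inv_inv] at this⟩, by
        show H.D.ψ (k⁻¹ * u.1.1 * k) = _
        rw [map_mul, map_mul, map_inv, u.2, hk, ← hq]; group⟩
      left_inv := fun u => Subtype.ext (Subtype.ext (by show k⁻¹ * (k * u.1.1 * k⁻¹) * k = _; group))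
      right_inv := fun u => Subtype.ext (Subtype.ext (by show k * (k⁻¹ * u.1.1 * k) * k⁻¹ = _; group)) }

/-- Conjugation on `O`. -/
def conjO (g : G) (hg : g * H.t = H.t * g) : H.D.O ≃* H.D.O where
  toFun o := ⟨g * o * g⁻¹, H.D.O_conj g hg _ o.2⟩
  invFun o := ⟨g⁻¹ * o * g, by
    have := H.D.O_conj g⁻¹ (Commute.inv_left hg).eq _ o.2
    rwa [inv_inv] at this⟩
  left_inv o := Subtype.ext (show g⁻¹ * (g * (o : G) * g⁻¹) * g = (o : G) by group)
  right_inv o := Subtype.ext (show g * (g⁻¹ * (o : G) * g) * g⁻¹ = (o : G) by group)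
  map_mul' a b := Subtype.ext (show g * ((a : G) * b) * g⁻¹ = g * a * g⁻¹ * (g * b * g⁻¹) by group)

theorem conjO_fixed_iff {g : G} (hg : g * H.t = H.t * g) (o : H.D.O) :
    H.conjO g hg o = o ↔ (o : G) * g = g * o :=
  ⟨fun h => (mul_inv_eq_iff_eq_mul.1 (congrArg Subtype.val h :)).symm,
    fun h => Subtype.ext (mul_inv_eq_iff_eq_mul.2 h.symm)⟩

theorem card_fixed_eq {u v : H.D.K} (hu : u ∈ H.NSet) (hv : v ∈ H.NSet) :
    Nat.card {o : H.D.O // (o : G) * u = u * o} = Nat.card {o : H.D.O // (o : G) * v = v * o} := by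
  obtain ⟨c, hct, hc⟩ := H.D.isConj_of_χ hu.1 hv.1 hu.2.1 hv.2.1 (H.NSet_ne_t hu) (H.NSet_ne_t hv)
    (hu.2.2.trans hv.2.2.symm)
  refine Nat.card_congr ((H.conjO c hct).toEquiv.subtypeEquiv fun o => ?_)
  show _ ↔ c * (o : G) * c⁻¹ * (v : G) = (v : G) * (c * (o : G) * c⁻¹)
  rw [← hc]
  constructor
  · intro h
    calc c * (o : G) * c⁻¹ * (c * u * c⁻¹) = c * ((o : G) * u) * c⁻¹ := by group
      _ = _ := by rw [h]; group
  · intro h
    calc (o : G) * u = c⁻¹ * (c * (o : G) * c⁻¹ * (c * u * c⁻¹)) * c := by group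
      _ = _ := by rw [h]; group

theorem card_fibre_z_mod : Nat.card {u : H.NSet // H.D.ψ u.1 = H.D.ψ ⟨H.z, H.L.le H.z_mem⟩} % 4 = 1 := by
  classical
  have hzN : (⟨H.z, H.L.le H.z_mem⟩ : H.D.K) ∈ H.NSet := ⟨H.z_sq, H.z_ne, H.L.χ_one _ H.z_mem⟩
  have hsm : H.s ∈ H.L.V := H.ι_mem _
  have hsN : (⟨H.s, H.L.le hsm⟩ : H.D.K) ∈ H.NSet := ⟨H.s_sq, H.s_ne, H.L.χ_one _ hsm⟩
  have hzs : H.z * H.s = H.s * H.z := H.z_comm_V hsm
  have hzsm : H.z * H.s ∈ H.L.V := mul_mem H.z_mem hsm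
  have hzsN : (⟨H.z * H.s, H.L.le hzsm⟩ : H.D.K) ∈ H.NSet := by
    refine ⟨?_, fun h => ?_, H.L.χ_one _ hzsm⟩
    · calc H.z * H.s * (H.z * H.s) = H.z * (H.s * H.z) * H.s := by group
        _ = H.z * H.z * (H.s * H.s) := by rw [← hzs]; group
        _ = 1 := by rw [H.z_sq, H.s_sq, one_mul]
    · refine H.s_ne_z ?_
      change H.z * H.s = 1 at h
      rw [← inv_eq_of_mul_eq_one_left H.z_sq]
      exact (inv_eq_of_mul_eq_one_right h).symm
  set zK : H.D.K := ⟨H.z, H.L.le H.z_mem⟩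
  let σ := H.conjO H.z (H.V_comm H.z_mem)
  let τ := H.conjO H.s (H.V_comm hsm)
  have hσ : ∀ o, σ (σ o) = o := fun o => Subtype.ext (by
    show H.z * (H.z * (o : G) * H.z⁻¹) * H.z⁻¹ = o
    rw [inv_eq_of_mul_eq_one_left H.z_sq]
    calc H.z * (H.z * (o : G) * H.z) * H.z = (H.z * H.z) * o * (H.z * H.z) := by group
      _ = o := by rw [H.z_sq, one_mul, mul_one])
  have hτ : ∀ o, τ (τ o) = o := fun o => Subtype.ext (by
    show H.s * (H.s * (o : G) * H.s⁻¹) * H.s⁻¹ = o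
    rw [inv_eq_of_mul_eq_one_left H.s_sq]
    calc H.s * (H.s * (o : G) * H.s) * H.s = (H.s * H.s) * o * (H.s * H.s) := by group
      _ = o := by rw [H.s_sq, one_mul, mul_one])
  have hστ : ∀ o : H.D.O, ((σ (τ o) : H.D.O) : G) = H.z * H.s * o * (H.z * H.s)⁻¹ := fun o => by
    show H.z * (H.s * (o : G) * H.s⁻¹) * H.z⁻¹ = _
    group
  have hc : ∀ o, σ (τ o) = τ (σ o) := fun o => Subtype.ext (by
    rw [hστ, hzs]
    show _ = H.s * (H.z * (o : G) * H.z⁻¹) * H.s⁻¹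
    group)
  have hb := Perm.FourGroup.card_formula H.D.O_odd σ τ hσ hτ hc
  set c := Nat.card {o : H.D.O // (o : G) * zK = zK * o} with hcdef
  have e1 : Nat.card {o // σ o = o} = c :=
    Nat.card_congr (Equiv.subtypeEquivRight fun o => H.conjO_fixed_iff _ o)
  have e2 : Nat.card {o // τ o = o} = c := by
    rw [hcdef, H.card_fixed_eq hzN hsN]
    exact Nat.card_congr (Equiv.subtypeEquivRight fun o => H.conjO_fixed_iff _ o)
  have e3 : Nat.card {o // σ (τ o) = o} = c := by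
    rw [hcdef, H.card_fixed_eq hzN hzsN]
    refine Nat.card_congr (Equiv.subtypeEquivRight fun o => ?_)
    rw [Subtype.ext_iff, hστ]
    exact mul_inv_eq_iff_eq_mul.trans eq_comm
  rw [e1, e2, e3] at hb
  refine factor_mod_four H.D.O_odd hb ?_
  rw [mul_comm]
  have hmem : ∀ o : H.D.O, (⟨o, H.D.O_le o.2⟩ * zK * ⟨o, H.D.O_le o.2⟩⁻¹ : H.D.K) ∈ H.NSet ∧
      H.D.ψ (⟨o, H.D.O_le o.2⟩ * zK * ⟨o, H.D.O_le o.2⟩⁻¹) = H.D.ψ zK := by
    intro o
    obtain ⟨h1, h2⟩ := (H.D.mem_O ⟨o, H.D.O_le o.2⟩).1 o.2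
    refine ⟨⟨?_, fun h => H.z_ne (conj_eq_one_iff.1 h), ?_⟩, ?_⟩
    · show (o : G) * H.z * (o : G)⁻¹ * ((o : G) * H.z * (o : G)⁻¹) = 1
      rw [show (o : G) * H.z * (o : G)⁻¹ * ((o : G) * H.z * (o : G)⁻¹) = (o : G) * (H.z * H.z) * (o : G)⁻¹ by
        group, H.z_sq]
      group
    · rw [map_mul, map_mul, map_inv, h2, hzN.2.2]; simp
    · rw [map_mul, map_mul, map_inv, h1, one_mul, inv_one, mul_one]
  let f : H.D.O → {u : H.NSet // H.D.ψ u.1 = H.D.ψ zK} := fun o => ⟨⟨_, (hmem o).1⟩, (hmem o).2⟩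
  have hf : ∀ o : H.D.O, (((f o).1.1 : H.D.K) : G) = (o : G) * H.z * (o : G)⁻¹ := fun o => rfl
  refine card_eq_mul_of_fibres f c fun u => ?_
  obtain ⟨o₀, ho₀, hoe⟩ := H.D.exists_O_conj u.1.2.1 hzN.1 u.2 (u.1.2.2.2.trans hzN.2.2.symm)
  refine Nat.card_congr ((Equiv.mulLeft (⟨o₀, ho₀⟩ : H.D.O)⁻¹).subtypeEquiv fun o => ?_)
  rw [Subtype.ext_iff, Subtype.ext_iff, Subtype.ext_iff, hf, ← hoe]
  show _ ↔ o₀⁻¹ * (o : G) * H.z = H.z * (o₀⁻¹ * (o : G))
  constructor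
  · intro h
    calc o₀⁻¹ * (o : G) * H.z = o₀⁻¹ * ((o : G) * H.z * (o : G)⁻¹) * o := by group
      _ = o₀⁻¹ * (o₀ * H.z * o₀⁻¹) * o := by rw [h]
      _ = _ := by group
  · intro h
    calc (o : G) * H.z * (o : G)⁻¹ = o₀ * (o₀⁻¹ * (o : G) * H.z) * (o : G)⁻¹ := by group
      _ = o₀ * (H.z * (o₀⁻¹ * o)) * (o : G)⁻¹ := by rw [h]
      _ = o₀ * H.z * o₀⁻¹ := by group
      _ = _ := rfl

theorem card_NSet_mod : Nat.card H.NSet % 4 = 1 := by
  rw [card_eq_mul_of_fibres (fun u : H.NSet => (⟨H.D.ψ u.1, H.D.ψ_orderOf u.2.1 u.2.2.1 (H.NSet_ne_t u.2)⟩ :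
      {p : PSL(2, F) // orderOf p = 2}))
    (Nat.card {u : H.NSet // H.D.ψ u.1 = H.D.ψ ⟨H.z, H.L.le H.z_mem⟩}) (fun p => by
      rw [← H.card_fibre p]
      exact Nat.card_congr (Equiv.subtypeEquivRight fun u => Subtype.ext_iff)),
    Nat.mul_mod, H.card_fibre_z_mod]
  have hI := involution_count_mod (PSL2.odd_card_iff.2 H.odd) Fintype.one_lt_card H.card_PSL_dvd
    (PSL2.two_mul_card_PSL H.odd)
    (PSL2.card_isConj_mul_centralizer (H.D.ψ ⟨H.z, H.L.le H.z_mem⟩))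
    (PSL2.card_centralizer_involution H.odd H.ψ_z)
  rw [Nat.card_congr (Equiv.subtypeEquivRight fun p => show orderOf p = 2 ↔ IsConj _ p from
    ⟨fun h => PSL2.psl_involutions_isConj H.ψ_z h, fun h => by
      obtain ⟨c, hc⟩ := isConj_iff.1 h
      rw [← hc, ← MulAut.conj_apply, MulEquiv.orderOf_eq, H.ψ_z]⟩), hI]

/-- Conjugation on the class of `t`. -/
def permHom : G →* Equiv.Perm {u // H.A u} where
  toFun g :=
    { toFun := fun u => ⟨g * u * g⁻¹, H.A_conj u.2 g⟩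
      invFun := fun u => ⟨g⁻¹ * u * g, by simpa using H.A_conj u.2 g⁻¹⟩
      left_inv := fun u => Subtype.ext (show g⁻¹ * (g * (u : G) * g⁻¹) * g = (u : G) by group)
      right_inv := fun u => Subtype.ext (show g * (g⁻¹ * (u : G) * g) * g⁻¹ = (u : G) by group) }
  map_one' := Equiv.ext fun u => Subtype.ext (show (1 : G) * (u : G) * 1⁻¹ = (u : G) by group)
  map_mul' g h := Equiv.ext fun u => Subtype.ext (show g * h * (u : G) * (g * h)⁻¹ = g * (h * u * h⁻¹) * g⁻¹ by group)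

variable [IsSimpleGroup G]

theorem card_fixed (hG : ¬ IsMulCommutative G) :
    Nat.card {u : {u // H.A u} // (u : G) * H.t = H.t * u} = 1 + Nat.card H.NSet := by
  classical
  have hmem : ∀ u ∈ H.NSet, H.A (H.t * (u : G)) ∧ H.t * (u : G) * H.t = H.t * (H.t * (u : G)) := by
    intro u hu
    have hc := H.D.K_le (u : G) u.2
    refine ⟨?_, by rw [mul_assoc, hc]⟩
    by_contra h
    exact ((H.fusion hG hu.1 hu.2.1 (H.NSet_ne_t hu)).1 ((H.A_xor_t hG hu.1 hu.2.1 (H.NSet_ne_t hu) hc).2 h)) hu.2.2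
  let f : Unit ⊕ H.NSet → {u : {u // H.A u} // (u : G) * H.t = H.t * u} :=
    Sum.elim (fun _ => ⟨⟨H.t, H.A_t⟩, rfl⟩) fun u => ⟨⟨_, (hmem u.1 u.2).1⟩, (hmem u.1 u.2).2⟩
  have hb : Function.Bijective f := by
    refine ⟨?_, ?_⟩
    · rintro (a | ⟨a, ha⟩) (b | ⟨b, hb⟩) h <;>
        simp only [f, Sum.elim_inl, Sum.elim_inr, Subtype.mk.injEq] at h
      · rfl
      · exact absurd (mul_eq_left.1 h.symm) hb.2.1
      · exact absurd (mul_eq_left.1 h) ha.2.1
      · exact congrArg Sum.inr (Subtype.ext (Subtype.ext (mul_left_cancel h)))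
    · rintro ⟨⟨u, hA⟩, hc⟩
      by_cases hut : u = H.t
      · exact ⟨Sum.inl (), Subtype.ext (Subtype.ext hut.symm)⟩
      have hu2 : u * u = 1 := by
        obtain ⟨g, rfl⟩ := hA
        calc g * H.t * g⁻¹ * (g * H.t * g⁻¹) = g * (H.t * H.t) * g⁻¹ := by group
          _ = 1 := by rw [H.t_sq]; group
      have hu1 : u ≠ 1 := by
        obtain ⟨g, rfl⟩ := hA
        exact fun h => H.D.t_ne (conj_eq_one_iff.1 h)
      have hK := H.D.involution_mem hu2 hc
      have hχ := (H.fusion hG (u := ⟨u, hK⟩) hu2 hu1 hut).1 hA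
      refine ⟨Sum.inr ⟨⟨H.t, H.D.t_mem⟩ * ⟨u, hK⟩, ?_, ?_, ?_⟩, Subtype.ext (Subtype.ext ?_)⟩
      rotate_left 3
      · show H.t * (H.t * u) = u
        exact H.tt u
      · show H.t * u * (H.t * u) = 1
        rw [show H.t * u * (H.t * u) = H.t * (u * H.t) * u by group, hc, H.tt, hu2]
      · exact fun h => hut (by rw [← H.tt u, show H.t * u = 1 from h, mul_one])
      · rw [map_mul, H.D.χ_t_eq, (z2_cases _).resolve_left hχ]; decide
  rw [← Nat.card_eq_of_bijective f hb, Nat.card_sum, Nat.card_unique]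

theorem card_class_mod (hG : ¬ IsMulCommutative G) : Nat.card {u // H.A u} % 4 = 2 := by
  classical
  haveI := Fintype.ofFinite {u // H.A u}
  haveI : Fact (Nat.Prime 2) := ⟨Nat.prime_two⟩
  set σ := H.permHom H.t with hσdef
  have hsign : Equiv.Perm.sign σ = 1 := by
    rcases IsSimpleGroup.eq_bot_or_eq_top_of_normal (Equiv.Perm.sign.comp H.permHom).ker inferInstance with h | h
    · exact absurd ⟨⟨fun a b => (MonoidHom.ker_eq_bot_iff _).1 h (by rw [map_mul, map_mul, mul_comm])⟩⟩ hG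
    · have : H.t ∈ (Equiv.Perm.sign.comp H.permHom).ker := h ▸ mem_top _
      exact MonoidHom.mem_ker.1 this
  have hfix : Fintype.card (Function.fixedPoints σ) = 1 + Nat.card H.NSet := by
    rw [← H.card_fixed hG, ← Nat.card_eq_fintype_card]
    refine Nat.card_congr (Equiv.subtypeEquivRight fun u => ?_)
    show σ u = u ↔ _
    rw [Subtype.ext_iff]
    show H.t * (u : G) * H.t⁻¹ = (u : G) ↔ _
    exact mul_inv_eq_iff_eq_mul.trans eq_comm
  have hpow : σ ^ 2 = 1 := by rw [hσdef, ← map_pow, pow_two, H.t_sq, map_one]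
  have hct := Equiv.Perm.cycleType_of_pow_prime_eq_one hpow
  have hsum : σ.cycleType.sum = 2 * Multiset.card σ.cycleType := by
    conv_lhs => rw [hct]
    rw [Multiset.sum_replicate, smul_eq_mul, mul_comm]
  rw [Equiv.Perm.sign_of_cycleType, hsum] at hsign
  have hm : Even (Multiset.card σ.cycleType) := by
    rcases Nat.even_or_odd (2 * Multiset.card σ.cycleType + Multiset.card σ.cycleType) with he | ho
    · rw [Nat.even_iff] at he ⊢; omega
    · rw [ho.neg_one_pow] at hsign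
      exact absurd hsign (by decide)
  have h1 := Equiv.Perm.card_fixedPoints σ
  have h2 := Equiv.Perm.sum_cycleType_le σ
  have h3 := H.card_NSet_mod
  obtain ⟨i, hi⟩ := hm
  rw [Nat.card_eq_fintype_card]
  omega

theorem card_sylow_eq (hG : ¬ IsMulCommutative G) (T : Sylow 2 G) :
    Nat.card (T : Subgroup G) = 2 * Nat.card H.T0 := by
  haveI : Fact (Nat.Prime 2) := ⟨Nat.prime_two⟩
  set C := centralizer ({H.t} : Set G)
  have hTC : H.T0 ≤ C := fun g hg => mem_centralizer_singleton_iff.2 (H.T0_comm hg)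
  obtain ⟨S⟩ : Nonempty (Sylow 2 C) := inferInstance
  have hS : Nat.card (S : Subgroup C) = Nat.card H.T0 := by
    refine le_antisymm ?_ ?_
    · rw [← Subgroup.card_map_of_injective (K := (S : Subgroup C)) C.subtype_injective]
      exact H.card_le (S.2.map _) (fun g ⟨g', _, hg'⟩ => hg' ▸ mem_centralizer_singleton_iff.1 g'.2)
    · obtain ⟨S', hS'⟩ := (H.isPGroup_T0.comap_of_injective C.subtype C.subtype_injective).exists_le_sylow
      rw [← Nat.card_congr (subgroupOfEquivOfLe hTC).toEquiv, Nat.card_congr (Sylow.equiv S S').toEquiv]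
      exact Nat.card_le_card_of_injective (fun x => ⟨x.1, hS' x.2⟩) fun a b h => Subtype.ext (congrArg Subtype.val h :)
  have hcard : Nat.card G = Nat.card {u // H.A u} * Nat.card C := by
    rw [← PSL2.card_isConj_mul_centralizer H.t]
    exact congrArg (· * _) (Nat.card_congr (Equiv.subtypeEquivRight fun u => isConj_iff))
  obtain ⟨c, hc⟩ := IsPGroup.iff_card.1 H.isPGroup_T0
  obtain ⟨a, ha⟩ := IsPGroup.iff_card.1 T.2
  obtain ⟨h, hh⟩ : ∃ h, Nat.card {u // H.A u} = 2 * (2 * h + 1) :=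
    ⟨Nat.card {u // H.A u} / 4, by have := H.card_class_mod hG; omega⟩
  have hSodd : Odd (S : Subgroup C).index := Nat.odd_iff.2 (by have := S.not_dvd_index; omega)
  have hTodd : Odd (T : Subgroup G).index := Nat.odd_iff.2 (by have := T.not_dvd_index; omega)
  have key : 2 ^ a * (T : Subgroup G).index = 2 ^ (c + 1) * ((2 * h + 1) * (S : Subgroup C).index) := by
    rw [← ha, card_mul_index, hcard, hh, ← card_mul_index (S : Subgroup C), hS, hc]; ring
  rw [ha, hc, two_part_unique hTodd (Odd.mul ⟨h, rfl⟩ hSodd) key, pow_succ, mul_comm]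

end Dih

end Cfsg.Agent.InvolTimesPSL
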