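import Cfsg.Agent.Lib.InvolTimesPSL.TopElementary
import Mathlib.GroupTheory.Perm.Cycle.Type

/-!
# An extremal form of the transfer lemma for simple groups

`exists_extremal_conj`: an involution `u` is conjugate into any subgroup `M` of index `2` of a Sylow
`2`-subgroup `P`, by an element taking any given `2`-subgroup of `C(u)` into `P`.
-/

set_option autoImplicit false
set_option linter.style.haveILetI false

namespace Cfsg.Agent.InvolTimesPSL

open Subgroup

universe u

variable {G : Type u} [Group G] [Finite G]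

theorem exists_extremal_conj [IsSimpleGroup G] (hG : ¬ IsMulCommutative G) (P : Sylow 2 G)
    {M : Subgroup G} (hMP : M ≤ (P : Subgroup G)) (hMc : Nat.card M * 2 = Nat.card (P : Subgroup G))
    {u : G} (hu : u * u = 1) {R : Subgroup G} (hR : IsPGroup 2 R) (hRu : ∀ r ∈ R, r * u = u * r) :
    ∃ g : G, g * u * g⁻¹ ∈ M ∧ ∀ r ∈ R, g * r * g⁻¹ ∈ (P : Subgroup G) := by
  classical
  haveI : Fact (Nat.Prime 2) := ⟨Nat.prime_two⟩
  have hrel : M.relIndex (P : Subgroup G) = 2 := by
    show (M.subgroupOf (P : Subgroup G)).index = 2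
    refine index_of_card_mul ?_
    rw [Nat.card_congr (subgroupOfEquivOfLe hMP).toEquiv, hMc]
  have hn := Subgroup.normal_of_index_eq_two (H := M.subgroupOf (P : Subgroup G)) hrel
  have hconj : ∀ p ∈ (P : Subgroup G), ∀ y ∈ M, p * y * p⁻¹ ∈ M := fun p hp y hy =>
    hn.conj_mem ⟨y, hMP hy⟩ hy ⟨p, hp⟩
  let Y : Set (G ⧸ (P : Subgroup G)) := {q | ∀ g : G, (g : G ⧸ (P : Subgroup G)) = q → g⁻¹ * u * g ∈ M}
  have hY : ∀ g : G, (g : G ⧸ (P : Subgroup G)) ∈ Y ↔ g⁻¹ * u * g ∈ M := by
    refine fun g => ⟨fun h => h g rfl, fun h g' hg' => ?_⟩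
    have hp : g'⁻¹ * g ∈ (P : Subgroup G) := QuotientGroup.eq.1 hg'
    have := hconj _ hp _ h
    rwa [show g'⁻¹ * g * (g⁻¹ * u * g) * (g'⁻¹ * g)⁻¹ = g'⁻¹ * u * g' by group] at this
  let π : G ⧸ M → G ⧸ (P : Subgroup G) := Quotient.map' id fun a b h =>
    QuotientGroup.leftRel_apply.2 (hMP (QuotientGroup.leftRel_apply.1 h))
  have hπ : ∀ g : G, π (g : G ⧸ M) = (g : G ⧸ (P : Subgroup G)) := fun g => rfl
  have hidx : Nat.card (G ⧸ M) = Nat.card (G ⧸ (P : Subgroup G)) * 2 := by
    show M.index = (P : Subgroup G).index * 2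
    rw [← relIndex_mul_index hMP, hrel, mul_comm]
  have hfib : ∀ b, Nat.card {q : G ⧸ M // π q = b} = 2 := by
    have hsm : ∀ (g : G) (q : G ⧸ M), π (g • q) = g • π q := by
      rintro g ⟨x⟩; rfl
    have heq : ∀ b, Nat.card {q : G ⧸ M // π q = b} =
        Nat.card {q : G ⧸ M // π q = ((1 : G) : G ⧸ (P : Subgroup G))} := by
      intro b
      induction b using QuotientGroup.induction_on with
      | H g =>
        refine Nat.card_congr ((MulAction.toPerm g⁻¹).subtypeEquiv fun q => ?_)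
        show π q = (g : G ⧸ (P : Subgroup G)) ↔ π (g⁻¹ • q) = _
        rw [hsm, inv_smul_eq_iff, MulAction.Quotient.smul_coe, smul_eq_mul, mul_one]
    have h2 : Nat.card {q : G ⧸ M // π q = ((1 : G) : G ⧸ (P : Subgroup G))} = 2 := by
      have h := (Nat.card_congr (Equiv.sigmaFiberEquiv π)).symm
      haveI := Fintype.ofFinite (G ⧸ (P : Subgroup G))
      rw [Nat.card_sigma, Finset.sum_congr rfl fun b _ => heq b, Finset.sum_const, Finset.card_univ,
        smul_eq_mul, hidx, ← Nat.card_eq_fintype_card] at h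
      exact (Nat.eq_of_mul_eq_mul_left Nat.card_pos h).symm
    exact fun b => (heq b).trans h2
  haveI := Fintype.ofFinite (G ⧸ M)
  let σ : Equiv.Perm (G ⧸ M) := MulAction.toPermHom G (G ⧸ M) u
  have hfix : ∀ q, σ q = q ↔ π q ∈ Y := by
    intro q
    induction q using QuotientGroup.induction_on with
    | H g =>
      show ((u * g : G) : G ⧸ M) = (g : G ⧸ M) ↔ (g : G ⧸ (P : Subgroup G)) ∈ Y
      rw [hY, QuotientGroup.eq, ← inv_mem_iff]
      congr! 1
      group
  have hcount : Fintype.card (Function.fixedPoints σ) = Nat.card Y * 2 := by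
    rw [← Nat.card_eq_fintype_card]
    haveI := Fintype.ofFinite Y
    let f : Function.fixedPoints σ → Y := fun q => ⟨π q.1, (hfix _).1 q.2⟩
    rw [← Nat.card_congr (Equiv.sigmaFiberEquiv f), Nat.card_sigma,
      Finset.sum_congr rfl (g := fun _ => 2) fun b _ => ?_, Finset.sum_const, Finset.card_univ, smul_eq_mul,
      Nat.card_eq_fintype_card]
    refine Eq.trans ?_ (hfib b.1)
    exact Nat.card_congr
      { toFun := fun q => ⟨q.1.1, congrArg Subtype.val q.2⟩
        invFun := fun q => ⟨⟨q.1, (hfix _).2 (Eq.mpr (congrArg (· ∈ Y) q.2) b.2)⟩, Subtype.ext q.2⟩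
        left_inv := fun q => rfl
        right_inv := fun q => rfl }
  have hsign : Equiv.Perm.sign σ = 1 := by
    rcases IsSimpleGroup.eq_bot_or_eq_top_of_normal
      (Equiv.Perm.sign.comp (MulAction.toPermHom G (G ⧸ M))).ker inferInstance with h | h
    · exact absurd ⟨⟨fun a b => (MonoidHom.ker_eq_bot_iff _).1 h (by rw [map_mul, map_mul, mul_comm])⟩⟩ hG
    · have : u ∈ (Equiv.Perm.sign.comp (MulAction.toPermHom G (G ⧸ M))).ker := h ▸ mem_top _
      exact MonoidHom.mem_ker.1 this
  have hpow : σ ^ 2 = 1 := by rw [← map_pow, pow_two, hu, map_one]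
  have hsum : σ.cycleType.sum = 2 * Multiset.card σ.cycleType := by
    conv_lhs => rw [Equiv.Perm.cycleType_of_pow_prime_eq_one hpow]
    rw [Multiset.sum_replicate, smul_eq_mul, mul_comm]
  rw [Equiv.Perm.sign_of_cycleType, hsum] at hsign
  have hm : Even (Multiset.card σ.cycleType) := by
    rcases Nat.even_or_odd (2 * Multiset.card σ.cycleType + Multiset.card σ.cycleType) with he | ho
    · rw [Nat.even_iff] at he ⊢; omega
    · rw [ho.neg_one_pow] at hsign
      exact absurd hsign (by decide)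
  have hYodd : ¬ 2 ∣ Nat.card Y := by
    have h1 := Equiv.Perm.card_fixedPoints σ
    have h2 := Equiv.Perm.sum_cycleType_le σ
    have h3 : ¬ 2 ∣ Nat.card (G ⧸ (P : Subgroup G)) := P.not_dvd_index
    obtain ⟨i, hi⟩ := hm
    rw [Nat.card_eq_fintype_card (α := G ⧸ M)] at hidx
    omega
  let S : SubMulAction R (G ⧸ (P : Subgroup G)) :=
    { carrier := Y
      smul_mem' := fun r q hq => by
        induction q using QuotientGroup.induction_on with
        | H g =>
          show (((r : G) * g : G) : G ⧸ (P : Subgroup G)) ∈ Y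
          rw [hY]
          rw [hY] at hq
          have hc : (r : G)⁻¹ * u * r = u := by rw [mul_assoc, ← hRu r r.2, inv_mul_cancel_left]
          rwa [show ((r : G) * g)⁻¹ * u * ((r : G) * g) = g⁻¹ * ((r : G)⁻¹ * u * r) * g by group, hc] }
  obtain ⟨⟨q, hq⟩, hqfix⟩ := hR.nonempty_fixed_point_of_prime_not_dvd_card S hYodd
  obtain ⟨g, rfl⟩ := QuotientGroup.mk_surjective q
  refine ⟨g⁻¹, by rw [inv_inv]; exact (hY g).1 hq, fun r hr => ?_⟩
  rw [inv_inv]
  have h := congrArg Subtype.val (hqfix ⟨r, hr⟩)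
  have h' : ((r * g : G) : G ⧸ (P : Subgroup G)) = (g : G ⧸ (P : Subgroup G)) := h
  have h'' := inv_mem (QuotientGroup.eq.1 h')
  rwa [show ((r * g)⁻¹ * g)⁻¹ = g⁻¹ * r * g by group] at h''

end Cfsg.Agent.InvolTimesPSL
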