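import Cfsg.Agent.Lib.PSL2.Dickson
import Cfsg.Agent.Lib.PSL2.Klein
import Cfsg.Agent.Lib.PSL2.Sylow

/-!
# Elementary abelian Sylow `2`-subgroups of `PSL(2, q)`: transitive cyclic automizer
-/

set_option autoImplicit false
set_option linter.style.haveILetI false

namespace Cfsg.Agent.InvolTimesPSL

open Subgroup
open scoped MatrixGroups

variable {F : Type*} [Field F] [Fintype F]

/-- `k₀` generates the automizer of `P` and is transitive on its involutions. -/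
structure Singer (P : Subgroup PSL(2, F)) (k₀ : PSL(2, F)) : Prop where
  sq : ∀ x ∈ P, x * x = 1
  four : 4 ≤ Nat.card P
  norm : k₀ ∈ normalizer (P : Set PSL(2, F))
  trans : ∀ x ∈ P, ∀ y ∈ P, x ≠ 1 → y ≠ 1 → ∃ j : ℕ, k₀ ^ j * x * (k₀ ^ j)⁻¹ = y
  gen : ∀ n ∈ normalizer (P : Set PSL(2, F)), ∃ j : ℕ, ∀ x ∈ P, n * x * n⁻¹ = k₀ ^ j * x * (k₀ ^ j)⁻¹

theorem exists_singer_even (h2 : (2 : F) = 0) (hF : 4 ≤ Fintype.card F) :
    ∃ (P : Sylow 2 PSL(2, F)) (k₀ : PSL(2, F)), Singer (P : Subgroup PSL(2, F)) k₀ := by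
  classical
  haveI : Fact (Nat.Prime 2) := ⟨Nat.prime_two⟩
  haveI : CharP F 2 := CharTwo.of_one_ne_zero_of_two_eq_zero one_ne_zero h2
  obtain ⟨a₀, ha₀⟩ := IsCyclic.exists_generator (α := Fˣ)
  refine ⟨PSL2.unipSylowPSL F 2, PSL2.mk (PSL2.dd a₀), ?_⟩
  rw [PSL2.coe_unipSylowPSL]
  have hconj : ∀ (a : Fˣ) (s : F),
      PSL2.mk (PSL2.dd a) * PSL2.mk (PSL2.uu s) * (PSL2.mk (PSL2.dd a))⁻¹ =
        PSL2.mk (PSL2.uu ((a : F) ^ 2 * s)) := fun a s => by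
    rw [← map_inv, ← map_mul, ← map_mul, PSL2.dd_conj_uu]
  have hpow : ∀ j : ℕ, PSL2.mk (PSL2.dd a₀) ^ j = PSL2.mk (PSL2.dd (a₀ ^ j)) := fun j => by
    rw [← map_pow, PSL2.dd_pow]
  have hgen : ∀ a : Fˣ, ∃ j : ℕ, a₀ ^ j = a := fun a => mem_powers_iff_mem_zpowers.2 (ha₀ a)
  refine ⟨?_, ?_, ?_, ?_, ?_⟩
  · rintro _ ⟨g, hg, rfl⟩
    obtain ⟨s, rfl⟩ := PSL2.mem_unip.1 hg
    rw [← map_mul, PSL2.uu_mul_uu, CharTwo.add_self_eq_zero, PSL2.uu_zero, map_one]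
  · rwa [PSL2.card_map_unip]
  · rw [PSL2.normalizer_unip_map]
    exact mem_map_of_mem _ (PSL2.torus_le_borel (PSL2.mem_torus.2 ⟨a₀, rfl⟩))
  · rintro _ ⟨g, hg, rfl⟩ _ ⟨g', hg', rfl⟩ hx hy
    obtain ⟨s, rfl⟩ := PSL2.mem_unip.1 hg
    obtain ⟨s', rfl⟩ := PSL2.mem_unip.1 hg'
    have hs : s ≠ 0 := fun h => hx (by rw [h, PSL2.uu_zero, map_one])
    have hs' : s' ≠ 0 := fun h => hy (by rw [h, PSL2.uu_zero, map_one])
    obtain ⟨r, hr⟩ := FiniteField.isSquare_of_char_two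
      (CharP.ringChar_of_prime_eq_zero Nat.prime_two (by simpa using h2)) (s' / s)
    have hr0 : r ≠ 0 := by rintro rfl; simp [hs, hs'] at hr
    obtain ⟨j, hj⟩ := hgen (Units.mk0 r hr0)
    refine ⟨j, ?_⟩
    rw [hpow, hj, hconj, Units.val_mk0, pow_two, ← hr, div_mul_cancel₀ _ hs]
  · intro n hn
    rw [PSL2.normalizer_unip_map] at hn
    obtain ⟨b, hb, rfl⟩ := hn
    obtain ⟨a, t, rfl, -⟩ := PSL2.exists_eq_dd_mul_uu hb
    obtain ⟨j, hj⟩ := hgen a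
    refine ⟨j, ?_⟩
    rintro _ ⟨g, hg, rfl⟩
    obtain ⟨s, rfl⟩ := PSL2.mem_unip.1 hg
    have hc : PSL2.mk (PSL2.uu t) * PSL2.mk (PSL2.uu s) = PSL2.mk (PSL2.uu s) * PSL2.mk (PSL2.uu t) := by
      rw [← map_mul, ← map_mul, PSL2.uu_mul_uu, PSL2.uu_mul_uu, add_comm]
    rw [hpow, hj, map_mul, mul_inv_rev,
      show PSL2.mk (PSL2.dd a) * PSL2.mk (PSL2.uu t) * PSL2.mk (PSL2.uu s) *
        ((PSL2.mk (PSL2.uu t))⁻¹ * (PSL2.mk (PSL2.dd a))⁻¹) =
        PSL2.mk (PSL2.dd a) * (PSL2.mk (PSL2.uu t) * PSL2.mk (PSL2.uu s) * (PSL2.mk (PSL2.uu t))⁻¹) *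
          (PSL2.mk (PSL2.dd a))⁻¹ by group, hc, mul_inv_cancel_right]

/-- An element of order three cycling two commuting involutions and their product. -/
theorem exists_cycle (h2 : (2 : F) ≠ 0) {x y : PSL(2, F)} (hx : orderOf x = 2) (hy : orderOf y = 2)
    (hc : x * y = y * x) (hne : x ≠ y) :
    ∃ r : PSL(2, F), r * x * r⁻¹ = y ∧ r * y * r⁻¹ = x * y ∧ r * (x * y) * r⁻¹ = x := by
  obtain ⟨g, rfl, hg, -⟩ := PSL2.exists_tr_eq_zero hx
  obtain ⟨w, hw, rfl⟩ := PSL2.exists_lift h2 hg ⟨hx, hy, hc, hne⟩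
  obtain ⟨r, -, h1, h2', h3⟩ := PSL2.exists_rot_psl hw
  exact ⟨r, h1, h2', h3⟩

theorem singer_klein (h2 : (2 : F) ≠ 0) (P : Sylow 2 PSL(2, F))
    (hP4 : Nat.card (P : Subgroup PSL(2, F)) = 4)
    (hsq : ∀ x ∈ (P : Subgroup PSL(2, F)), x * x = 1) :
    ∃ k₀ : PSL(2, F), Singer (P : Subgroup PSL(2, F)) k₀ := by
  classical
  haveI : Fact (Nat.Prime 2) := ⟨Nat.prime_two⟩
  set V := (P : Subgroup PSL(2, F)) with hV
  have hord : ∀ x ∈ V, x ≠ 1 → orderOf x = 2 := fun x hx hx1 =>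
    orderOf_eq_prime (by rw [pow_two]; exact hsq x hx) hx1
  have hcomm : ∀ a ∈ V, ∀ b ∈ V, a * b = b * a := by
    intro a ha b hb
    have h := hsq _ (mul_mem ha hb)
    rw [mul_eq_one_iff_eq_inv, mul_inv_rev, inv_eq_of_mul_eq_one_left (hsq a ha),
      inv_eq_of_mul_eq_one_left (hsq b hb)] at h
    exact h
  obtain ⟨x, hx, hx1⟩ : ∃ x ∈ V, x ≠ 1 := by
    by_contra hcon
    push Not at hcon
    rw [(eq_bot_iff_forall _).2 hcon, card_bot] at hP4
    omega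
  obtain ⟨y, hy, hy1, hyx⟩ : ∃ y ∈ V, y ≠ 1 ∧ y ≠ x := by
    by_contra hcon
    push Not at hcon
    have := Nat.card_le_card_of_injective (β := Bool) (fun v : V => decide ((v : PSL(2, F)) = 1))
      fun a b hab => by
        by_cases h1 : (a : PSL(2, F)) = 1 <;> by_cases h2 : (b : PSL(2, F)) = 1 <;> simp [h1, h2] at hab
        · exact Subtype.ext (h1.trans h2.symm)
        · exact Subtype.ext ((hcon a a.2 h1).trans (hcon b b.2 h2).symm)
    rw [Nat.card_eq_fintype_card (α := Bool), Fintype.card_bool, hP4] at this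
    omega
  have hxy1 : x * y ≠ 1 := fun h => hyx (by
    rw [mul_eq_one_iff_inv_eq, inv_eq_of_mul_eq_one_left (hsq x hx)] at h; exact h.symm)
  have hxyx : x * y ≠ x := fun h => hy1 (mul_eq_left.1 h)
  have hxyy : x * y ≠ y := fun h => hx1 (mul_eq_right.1 h)
  have hall : ∀ v ∈ V, v = 1 ∨ v = x ∨ v = y ∨ v = x * y := by
    intro v hv
    by_contra hcon
    push Not at hcon
    obtain ⟨h0, h1, h2', h3⟩ := hcon
    have hle : ({1, x, y, x * y, v} : Finset PSL(2, F)).card ≤ Nat.card V := by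
      rw [← Nat.card_eq_finsetCard]
      refine Nat.card_le_card_of_injective (fun z => (⟨z.1, ?_⟩ : V))
        fun a b h => Subtype.ext (congrArg Subtype.val h :)
      have hz := z.2
      simp only [Finset.mem_insert, Finset.mem_singleton] at hz
      rcases hz with h | h | h | h | h <;> rw [h]
      exacts [one_mem V, hx, hy, mul_mem hx hy, hv]
    rw [Finset.card_insert_of_notMem (by simp [Ne.symm hx1, Ne.symm hy1, Ne.symm hxy1, Ne.symm h0]),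
      Finset.card_insert_of_notMem (by simp [Ne.symm hyx, Ne.symm hxyx, Ne.symm h1]),
      Finset.card_insert_of_notMem (by simp [Ne.symm hxyy, Ne.symm h2']),
      Finset.card_insert_of_notMem (by simp [Ne.symm h3]), Finset.card_singleton, hP4] at hle
    omega
  obtain ⟨r, hr1, hr2, hr3⟩ := exists_cycle h2 (hord x hx hx1) (hord y hy hy1) (hcomm x hx y hy) hyx.symm
  have hcl : ∀ v ∈ V, r * v * r⁻¹ ∈ V := by
    intro v hv
    rcases hall v hv with h | h | h | h <;> rw [h]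
    · rw [mul_one, mul_inv_cancel]; exact one_mem V
    · rw [hr1]; exact hy
    · rw [hr2]; exact mul_mem hx hy
    · rw [hr3]; exact hx
  have hrN : r ∈ normalizer (V : Set PSL(2, F)) := by
    refine mem_normalizer_iff.2 fun z => ⟨hcl z, fun hz => ?_⟩
    have hb : Function.Bijective (fun v : V => (⟨_, hcl v v.2⟩ : V)) :=
      Finite.injective_iff_bijective.1 fun a b hab => Subtype.ext
        (mul_left_cancel (mul_right_cancel (congrArg Subtype.val hab :)))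
    obtain ⟨v, hv⟩ := hb.2 ⟨_, hz⟩
    have : (v : PSL(2, F)) = z := mul_left_cancel (mul_right_cancel (congrArg Subtype.val hv :))
    exact this ▸ v.2
  have hr2x : r ^ 2 * x * (r ^ 2)⁻¹ = x * y := by
    rw [show r ^ 2 * x * (r ^ 2)⁻¹ = r * (r * x * r⁻¹) * r⁻¹ by rw [pow_two]; group, hr1, hr2]
  have horb : ∀ v ∈ V, v ≠ 1 → ∃ j : ℕ, r ^ j * x * (r ^ j)⁻¹ = v := by
    intro v hv hv1
    rcases hall v hv with h | h | h | h
    · exact absurd h hv1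
    · exact ⟨0, by rw [h]; simp⟩
    · exact ⟨1, by rw [h, pow_one, hr1]⟩
    · exact ⟨2, by rw [h, hr2x]⟩
  have hr3x : ∀ v ∈ V, r ^ 3 * v * (r ^ 3)⁻¹ = v := by
    intro v hv
    rw [show r ^ 3 * v * (r ^ 3)⁻¹ = r * (r * (r * v * r⁻¹) * r⁻¹) * r⁻¹ by
      rw [pow_succ, pow_two]; group]
    rcases hall v hv with h | h | h | h <;> subst h
    · group
    · rw [hr1, hr2, hr3]
    · rw [hr2, hr3, hr1]
    · rw [hr3, hr1, hr2]
  refine ⟨r, hsq, by rw [hP4], hrN, ?_, ?_⟩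
  · intro v hv w hw hv1 hw1
    obtain ⟨i, hi⟩ := horb v hv hv1
    obtain ⟨j, hj⟩ := horb w hw hw1
    refine ⟨j + 2 * i, ?_⟩
    have h3 : ∀ i : ℕ, r ^ (3 * i) * x * (r ^ (3 * i))⁻¹ = x := by
      intro i
      induction i with
      | zero => simp
      | succ i ih =>
        rw [show 3 * (i + 1) = 3 + 3 * i by ring, pow_add,
          show r ^ 3 * r ^ (3 * i) * x * (r ^ 3 * r ^ (3 * i))⁻¹ =
            r ^ 3 * (r ^ (3 * i) * x * (r ^ (3 * i))⁻¹) * (r ^ 3)⁻¹ by group, ih, hr3x x hx]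
    rw [← hi, ← mul_assoc, ← mul_assoc, mul_assoc (r ^ (j + 2 * i) * r ^ i * x), ← mul_inv_rev, ← pow_add,
      show j + 2 * i + i = j + 3 * i by ring, pow_add]
    rw [show r ^ j * r ^ (3 * i) * x * (r ^ j * r ^ (3 * i))⁻¹ =
      r ^ j * (r ^ (3 * i) * x * (r ^ (3 * i))⁻¹) * (r ^ j)⁻¹ by group, h3, hj]
  · intro n hn
    have hn' : ∀ v ∈ V, n * v * n⁻¹ ∈ V := fun v hv => ((mem_normalizer_iff.1 hn) v).1 hv
    obtain ⟨i, hi⟩ := horb _ (hn' x hx) (fun h => hx1 (conj_eq_one_iff.1 h))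
    refine ⟨i, ?_⟩
    set m := (r ^ i)⁻¹ * n with hm
    have hmN : m ∈ normalizer (V : Set PSL(2, F)) := mul_mem (inv_mem (pow_mem hrN i)) hn
    have hmx : m * x * m⁻¹ = x := by
      rw [hm, show (r ^ i)⁻¹ * n * x * ((r ^ i)⁻¹ * n)⁻¹ = (r ^ i)⁻¹ * (n * x * n⁻¹) * r ^ i by group, ← hi]
      group
    have hm2 : ∀ v ∈ V, m ^ 2 * v * (m ^ 2)⁻¹ = v := by
      have hmy : m * y * m⁻¹ = y ∨ m * y * m⁻¹ = x * y := by
        rcases hall _ (((mem_normalizer_iff.1 hmN) y).1 hy) with h | h | h | h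
        · exact absurd (conj_eq_one_iff.1 h) hy1
        · exact absurd (mul_left_cancel (mul_right_cancel (h.trans hmx.symm))) hyx
        · exact Or.inl h
        · exact Or.inr h
      have hy2 : m * (m * y * m⁻¹) * m⁻¹ = y := by
        rcases hmy with h | h
        · rw [h, h]
        · rw [h, show m * (x * y) * m⁻¹ = (m * x * m⁻¹) * (m * y * m⁻¹) by group, hmx, h, ← mul_assoc,
            hsq x hx, one_mul]
      intro v hv
      rw [show m ^ 2 * v * (m ^ 2)⁻¹ = m * (m * v * m⁻¹) * m⁻¹ by rw [pow_two]; group]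
      rcases hall v hv with h | h | h | h <;> subst h
      · group
      · rw [hmx, hmx]
      · exact hy2
      · rw [show m * (m * (x * y) * m⁻¹) * m⁻¹ = (m * (m * x * m⁻¹) * m⁻¹) * (m * (m * y * m⁻¹) * m⁻¹) by
          group, hy2, hmx, hmx]
    -- an odd power of `m` is in `P`
    obtain ⟨a, l, hl, hlm⟩ : ∃ a l : ℕ, ¬ 2 ∣ l ∧ orderOf m = 2 ^ a * l :=
      ⟨_, _, Nat.not_dvd_ordCompl Nat.prime_two (orderOf_pos m).ne',
        (Nat.ordProj_mul_ordCompl_eq_self (orderOf m) 2).symm⟩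
    obtain ⟨b, rfl⟩ : ∃ b, l = 2 * b + 1 := ⟨l / 2, by omega⟩
    have hp : IsPGroup 2 (zpowers (m ^ (2 * b + 1))) := IsPGroup.of_card (n := a) (by
      rw [Nat.card_zpowers, orderOf_pow_of_dvd (by omega) (hlm ▸ Dvd.intro_left _ rfl), hlm,
        Nat.mul_div_cancel _ (by omega)])
    have hmem : m ^ (2 * b + 1) ∈ V :=
      (P.3 (P.2.to_sup_of_normal_left' hp (zpowers_le.2 (pow_mem hmN _))) le_sup_left).le
        (mem_sup_right (mem_zpowers _))
    intro v hv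
    have h2b : ∀ b : ℕ, m ^ (2 * b) * v * (m ^ (2 * b))⁻¹ = v := by
      intro b
      induction b with
      | zero => simp
      | succ b ih =>
        rw [show 2 * (b + 1) = 2 + 2 * b by ring, pow_add,
          show m ^ 2 * m ^ (2 * b) * v * (m ^ 2 * m ^ (2 * b))⁻¹ =
            m ^ 2 * (m ^ (2 * b) * v * (m ^ (2 * b))⁻¹) * (m ^ 2)⁻¹ by group, ih, hm2 v hv]
    have hmv : m * v * m⁻¹ = v := by
      have h := hcomm _ hmem v hv
      have h' : m ^ (2 * b + 1) * v * (m ^ (2 * b + 1))⁻¹ = v := by rw [h, mul_inv_cancel_right]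
      rwa [pow_succ', show m * m ^ (2 * b) * v * (m * m ^ (2 * b))⁻¹ =
        m * (m ^ (2 * b) * v * (m ^ (2 * b))⁻¹) * m⁻¹ by group, h2b] at h'
    calc n * v * n⁻¹ = r ^ i * (m * v * m⁻¹) * (r ^ i)⁻¹ := by rw [hm]; group
      _ = _ := by rw [hmv]

end Cfsg.Agent.InvolTimesPSL
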