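import Cfsg.Agent.Lib.InvolTimesPSL.DihedralCount
import Cfsg.Agent.Lib.InvolTimesPSL.Extremal
import Cfsg.Agent.Lib.InvolTimesPSL.Singer

/-!
# The dihedral case is impossible
-/

set_option autoImplicit false
set_option linter.style.haveILetI false

namespace Cfsg.Agent.InvolTimesPSL

open Subgroup DihedralGroup
open scoped MatrixGroups

universe u v

/-- `V ∪ y⁻¹V`. -/
def twoCoset {G : Type u} [Group G] (V : Subgroup G) (y : G) (h2 : y * y ∈ V)
    (hn : ∀ v ∈ V, y * v * y⁻¹ ∈ V) : Subgroup G where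
  carrier := {g | g ∈ V ∨ y * g ∈ V}
  one_mem' := Or.inl (one_mem V)
  mul_mem' {a b} ha hb := by
    have hn' : ∀ v ∈ V, y⁻¹ * v * y ∈ V := fun v hv => by
      have := V.mul_mem (V.mul_mem (V.inv_mem h2) (hn v hv)) h2
      rwa [show (y * y)⁻¹ * (y * v * y⁻¹) * (y * y) = y⁻¹ * v * y by group] at this
    rcases ha with ha | ha <;> rcases hb with hb | hb
    · exact Or.inl (mul_mem ha hb)
    · refine Or.inr ?_
      have := mul_mem (hn a ha) hb
      rwa [show y * a * y⁻¹ * (y * b) = y * (a * b) by group] at this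
    · refine Or.inr ?_
      have := mul_mem ha hb
      rwa [mul_assoc] at this
    · refine Or.inl ?_
      have := mul_mem (mul_mem (hn' _ ha) (inv_mem h2)) hb
      rwa [show y⁻¹ * (y * a) * y * (y * y)⁻¹ * (y * b) = a * b by group] at this
  inv_mem' {a} ha := by
    rcases ha with ha | ha
    · exact Or.inl (inv_mem ha)
    · refine Or.inr ?_
      have := mul_mem (hn _ (inv_mem ha)) h2
      rwa [show y * (y * a)⁻¹ * y⁻¹ * (y * y) = y * a⁻¹ by group] at this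

theorem mem_twoCoset {G : Type u} [Group G] {V : Subgroup G} {y : G} {h2 : y * y ∈ V}
    {hn : ∀ v ∈ V, y * v * y⁻¹ ∈ V} {g : G} : g ∈ twoCoset V y h2 hn ↔ g ∈ V ∨ y * g ∈ V := Iff.rfl

theorem card_twoCoset {G : Type u} [Group G] [Finite G] {V : Subgroup G} {y : G} {h2 : y * y ∈ V}
    {hn : ∀ v ∈ V, y * v * y⁻¹ ∈ V} (hy : y ∉ V) :
    Nat.card (twoCoset V y h2 hn) = Nat.card V * 2 := by
  classical
  rw [mul_comm]
  have e : Nat.card (Bool × V) = Nat.card (twoCoset V y h2 hn) := by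
    refine Nat.card_eq_of_bijective (fun p => if p.1 then ⟨y⁻¹ * p.2, Or.inr (by rw [mul_inv_cancel_left]; exact p.2.2)⟩
      else ⟨p.2, Or.inl p.2.2⟩) ⟨?_, ?_⟩
    · rintro ⟨a, v, hv⟩ ⟨b, w, hw⟩ h
      have h' := congrArg Subtype.val h
      rcases a <;> rcases b <;> simp at h'
      · exact Prod.ext rfl (Subtype.ext h')
      · exfalso
        refine hy ?_
        have := mul_mem hw (inv_mem hv)
        rwa [h', mul_inv_rev, inv_inv, mul_inv_cancel_left] at this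
      · exfalso
        refine hy ?_
        have := mul_mem hv (inv_mem hw)
        rwa [← h', mul_inv_rev, inv_inv, mul_inv_cancel_left] at this
      · exact Prod.ext rfl (Subtype.ext h')
    · rintro ⟨g, hg | hg⟩
      · exact ⟨(false, ⟨g, hg⟩), rfl⟩
      · exact ⟨(true, ⟨_, hg⟩), Subtype.ext (inv_mul_cancel_left y g)⟩
  rw [← e, Nat.card_prod, Nat.card_eq_fintype_card (α := Bool), Fintype.card_bool]

namespace Dihedral2

theorem exists_half {m : ℕ} (hm : 1 ≤ m) (j : ZMod (2 ^ (m + 2))) (h : j + j = hf m) :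
    ∃ l, l + l = j := by
  obtain ⟨n, rfl⟩ : ∃ n, m = n + 1 := ⟨m - 1, by omega⟩
  set q : ZMod (2 ^ (n + 1 + 2)) := ((2 ^ (n + 1) : ℕ) : ZMod (2 ^ (n + 1 + 2))) with hq
  set q' : ZMod (2 ^ (n + 1 + 2)) := ((2 ^ n : ℕ) : ZMod (2 ^ (n + 1 + 2))) with hq'
  have hqq : q' + q' = q := by rw [hq, hq', ← Nat.cast_add, show 2 ^ n + 2 ^ n = 2 ^ (n + 1) by ring]
  have hh : hf (n + 1) = q + q := hf_eq_double
  rcases double_cases (j - q) (by linear_combination h + hh) with e | e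
  · exact ⟨q', by linear_combination hqq - e⟩
  · exact ⟨q' + q, by linear_combination hqq - e - hh⟩

theorem conj_sr_four : ∀ y : DihedralGroup (2 ^ (0 + 2)),
    y * sr 0 * y⁻¹ = sr 0 ∨ y * sr 0 * y⁻¹ = zz 0 * sr 0 := by
  decide

end Dihedral2

open Dihedral2

namespace Dih

variable {G : Type u} [Group G] [Finite G] [IsSimpleGroup G] {F : Type v} [Field F] [Fintype F]
  (H : Dih G F)

theorem A_sq {u : G} (h : H.A u) : u * u = 1 ∧ u ≠ 1 := by
  obtain ⟨g, rfl⟩ := h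
  refine ⟨?_, fun h => H.D.t_ne (conj_eq_one_iff.1 h)⟩
  calc g * H.t * g⁻¹ * (g * H.t * g⁻¹) = g * (H.t * H.t) * g⁻¹ := by group
    _ = 1 := by rw [H.t_sq]; group

theorem not_A_V (hG : ¬ IsMulCommutative G) {v : G} (hv : v ∈ H.L.V) : ¬ H.A v := fun h =>
  (H.fusion hG (u := ⟨v, H.L.le hv⟩) (H.A_sq h).1 (H.A_sq h).2 (fun e => H.L.t_notMem (by have := hv; rwa [show v = H.D.t from e] at this))).1 h
    (H.L.χ_one _ hv)

theorem A_of_notMem (hG : ¬ IsMulCommutative G) {g : G} (hg : g ∈ H.T0) (hgV : g ∉ H.L.V)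
    (h2 : g * g = 1) : H.A g := by
  by_cases hgt : g = H.t
  · exact hgt ▸ H.A_t
  by_contra hA
  have h1 : g ≠ 1 := fun h => hgV (h ▸ one_mem _)
  exact hA ((H.A_xor_t hG h2 h1 hgt (H.T0_comm hg)).2 (H.not_A_V hG (hg.resolve_left hgV)))

/-- A Sylow `2`-subgroup above `T₀`, and what we use of it. -/
structure Top where
  T : Sylow 2 G
  lt : H.T0 < (T : Subgroup G)
  card : Nat.card (T : Subgroup G) = 2 * Nat.card H.T0
  conj_T0 : ∀ w ∈ (T : Subgroup G), ∀ g ∈ H.T0, w * g * w⁻¹ ∈ H.T0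
  mul_T0 : ∀ a ∈ (T : Subgroup G), ∀ b ∈ (T : Subgroup G), a ∉ H.T0 → b ∉ H.T0 → a * b ∈ H.T0
  conj_V : ∀ w ∈ (T : Subgroup G), ∀ g ∈ H.L.V, w * g * w⁻¹ ∈ H.L.V
  conj_z : ∀ w ∈ (T : Subgroup G), w * H.z * w⁻¹ = H.z
  conj_t : ∀ w ∈ (T : Subgroup G), w ∉ H.T0 → w * H.t * w⁻¹ = H.t * H.z

theorem exists_top (hG : ¬ IsMulCommutative G) : Nonempty H.Top := by
  obtain ⟨T, hlt⟩ := H.exists_sylow_gt hG
  have hrel : (H.T0.subgroupOf (T : Subgroup G)).index = 2 := by
    refine index_of_card_mul ?_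
    rw [Nat.card_congr (subgroupOfEquivOfLe hlt.le).toEquiv, H.card_sylow_eq hG T, mul_comm]
  have hn := Subgroup.normal_of_index_eq_two hrel
  have hc : ∀ w ∈ (T : Subgroup G), ∀ g ∈ H.T0, w * g * w⁻¹ ∈ H.T0 := fun w hw g hg =>
    hn.conj_mem ⟨g, hlt.le hg⟩ hg ⟨w, hw⟩
  have hV : ∀ w ∈ (T : Subgroup G), ∀ g ∈ H.L.V, w * g * w⁻¹ ∈ H.L.V := by
    intro w hw g hg
    obtain ⟨x, rfl⟩ := (H.range g).1 hg
    have key : ∀ a, a * a = 1 → w * H.ι a * w⁻¹ ∈ H.L.V := by
      intro a ha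
      have h0 := hc w hw _ (H.V_le (H.ι_mem a))
      by_contra hno
      have hA := H.A_of_notMem hG h0 hno (by
        rw [show w * H.ι a * w⁻¹ * (w * H.ι a * w⁻¹) = w * (H.ι a * H.ι a) * w⁻¹ by group, ← map_mul, ha,
          map_one]
        group)
      refine H.not_A_V hG (H.ι_mem a) ?_
      have := H.A_conj hA w⁻¹
      rwa [show w⁻¹ * (w * H.ι a * w⁻¹) * w⁻¹⁻¹ = H.ι a by group] at this
    obtain ⟨a, b, ha, hb, rfl⟩ := eq_mul_involutions x
    have := mul_mem (key a ha) (key b hb)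
    rwa [map_mul, show w * (H.ι a * H.ι b) * w⁻¹ = w * H.ι a * w⁻¹ * (w * H.ι b * w⁻¹) by group]
  refine ⟨⟨T, hlt, H.card_sylow_eq hG T, hc, ?_, hV, fun w hw => H.conj_z (hc w hw), ?_⟩⟩
  · intro a ha b hb ha0 hb0
    have h := (Subgroup.mul_mem_iff_of_index_two hrel (a := ⟨a, ha⟩) (b := ⟨b, hb⟩)).2
      (iff_of_false ha0 hb0)
    exact h
  · intro w hw hw0
    refine H.conj_t T.2 hlt.le hw hw0 (mem_normalizer_iff.2 fun g => ⟨hc w hw g, fun h => ?_⟩)
    have := hc w⁻¹ (inv_mem hw) _ h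
    rwa [show w⁻¹ * (w * g * w⁻¹) * w⁻¹⁻¹ = g by group] at this

/-- `T/V` is not cyclic. -/
theorem sq_mem (hG : ¬ IsMulCommutative G) (C : H.Top) {y : G} (hy : y ∈ (C.T : Subgroup G))
    (hy0 : y ∉ H.T0) : y * y ∈ H.L.V := by
  haveI : Fact (Nat.Prime 2) := ⟨Nat.prime_two⟩
  by_contra hyy
  have hVT : H.L.V ≤ (C.T : Subgroup G) := H.V_le.trans C.lt.le
  set T := (C.T : Subgroup G)
  set N := H.L.V.subgroupOf T
  haveI hN : N.Normal := ⟨fun g hg w => C.conj_V w w.2 g hg⟩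
  have hcardQ : Nat.card (T ⧸ N) = 2 ^ 2 := by
    have h := Subgroup.card_eq_card_quotient_mul_card_subgroup N
    rw [Nat.card_congr (subgroupOfEquivOfLe hVT).toEquiv, C.card, H.card_T0] at h
    refine Nat.eq_of_mul_eq_mul_right (Nat.card_pos (α := H.L.V)) ?_
    rw [← h]; ring
  haveI : IsMulCommutative (T ⧸ N) := IsPGroup.isMulCommutative_of_card_eq_prime_sq hcardQ
  have h1 : ∀ g : T, (QuotientGroup.mk' N g = 1 ↔ (g : G) ∈ H.L.V) := fun g =>
    (QuotientGroup.eq_one_iff g).trans mem_subgroupOf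
  have h2T : ∀ g : T, (g : G) ∈ H.T0 → QuotientGroup.mk' N g * QuotientGroup.mk' N g = 1 := by
    intro g hg
    rw [← map_mul, h1]
    show (g : G) * g ∈ H.L.V
    rcases hg with hg | hg
    · exact mul_mem hg hg
    · rw [← H.t_sq_comm (show (g : G) ∈ H.T0 from Or.inr hg)]; exact mul_mem hg hg
  have hconj : ∀ u, H.A u → ∀ hu : u ∈ T, H.t * u ∈ H.L.V := by
    intro u hA hu
    by_cases hu0 : u ∈ H.T0
    · exact hu0.resolve_left fun h => H.not_A_V hG h hA
    exfalso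
    have hg := C.mul_T0 y⁻¹ (inv_mem hy) u hu (fun h => hy0 (inv_mem_iff.1 h)) hu0
    have hy' : (⟨u, hu⟩ : T) = ⟨y, hy⟩ * ⟨y⁻¹ * u, C.lt.le hg⟩ :=
      Subtype.ext (mul_inv_cancel_left y u).symm
    refine hyy ((h1 (⟨y, hy⟩ * ⟨y, hy⟩)).1 ?_)
    have hsq : QuotientGroup.mk' N ⟨u, hu⟩ * QuotientGroup.mk' N ⟨u, hu⟩ = 1 := by
      rw [← map_mul, h1]
      show u * u ∈ H.L.V
      rw [(H.A_sq hA).1]; exact one_mem _
    rw [hy', map_mul, mul_assoc,
      ← mul_assoc (QuotientGroup.mk' N ⟨y⁻¹ * u, C.lt.le hg⟩) (QuotientGroup.mk' N ⟨y, hy⟩),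
      mul_comm' (QuotientGroup.mk' N ⟨y⁻¹ * u, C.lt.le hg⟩) (QuotientGroup.mk' N ⟨y, hy⟩), mul_assoc,
      h2T ⟨y⁻¹ * u, C.lt.le hg⟩ hg, mul_one] at hsq
    rw [map_mul]; exact hsq
  open scoped IsMulCommutative in
  obtain ⟨f, hf⟩ := Transfer.exists_hom_ne_one_of_conj (A := T ⧸ N) C.T (QuotientGroup.mk' N) H.t
    (C.lt.le H.t_mem) (fun h => H.L.t_notMem ((h1 _).1 h))
    (fun g h => by
      have hA : H.A (g⁻¹ * H.t * g) := ⟨g⁻¹, by rw [inv_inv]⟩
      refine QuotientGroup.eq.2 ?_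
      show (g⁻¹ * H.t * g)⁻¹ * H.t ∈ H.L.V
      have := inv_mem (hconj _ hA h)
      rwa [mul_inv_rev, H.t_inv] at this)
    (fun g i hi h => by
      rw [h1]
      show g⁻¹ * H.t ^ 2 ^ i * g ∈ H.L.V
      obtain ⟨c, hc⟩ := dvd_pow_self 2 hi.ne'
      rw [hc, pow_mul, pow_two, H.t_sq, one_pow, mul_one, inv_mul_cancel]
      exact one_mem _)
  rcases IsSimpleGroup.eq_bot_or_eq_top_of_normal f.ker inferInstance with h | h
  · exact hG ⟨⟨fun a b => (MonoidHom.ker_eq_bot_iff f).1 h (by rw [map_mul, map_mul, mul_comm'])⟩⟩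
  · exact hf (f.mem_ker.1 (h ▸ mem_top _))

/-- A conjugate of `t` in a given subgroup of index two over `V`, with full centraliser. -/
theorem exists_outer (hG : ¬ IsMulCommutative G) (C : H.Top) {y : G} (hy : y ∈ (C.T : Subgroup G))
    (hy0 : y ∉ H.T0) :
    ∃ x ∈ (C.T : Subgroup G), x ∉ H.T0 ∧ H.A x ∧ y * x ∈ H.L.V ∧
      ∀ v ∈ H.L.V, v * x = x * v ∨ H.t * v * x = x * (H.t * v) := by
  classical
  have hVT : H.L.V ≤ (C.T : Subgroup G) := H.V_le.trans C.lt.le
  have hyy := H.sq_mem hG C hy hy0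
  set M := twoCoset H.L.V y hyy (C.conj_V y hy)
  obtain ⟨g, hg, hR⟩ := exists_extremal_conj hG C.T (M := M)
    (fun x hx => by
      rcases hx with hx | hx
      · exact hVT hx
      · have := mul_mem (inv_mem hy) (hVT hx)
        rwa [inv_mul_cancel_left] at this)
    (by rw [card_twoCoset (fun h => hy0 (H.V_le h)), C.card, H.card_T0]; ring)
    H.t_sq H.isPGroup_T0 (fun r hr => H.T0_comm hr)
  set x := g * H.t * g⁻¹ with hx
  have hA : H.A x := ⟨g, rfl⟩
  have hxT : x ∈ (C.T : Subgroup G) := hR _ H.t_mem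
  have hyx : y * x ∈ H.L.V := hg.resolve_left fun h => H.not_A_V hG h hA
  have hx0 : x ∉ H.T0 := fun h => hy0 (by
    have := mul_mem (H.V_le hyx) (inv_mem h)
    rwa [mul_inv_cancel_right] at this)
  refine ⟨x, hxT, hx0, hA, hyx, ?_⟩
  let I : Set G := {h | h ∈ H.T0 ∧ h * x = x * h}
  have hgx : ∀ r ∈ H.T0, g * r * g⁻¹ * x = x * (g * r * g⁻¹) := by
    intro r hr
    rw [hx, show g * r * g⁻¹ * (g * H.t * g⁻¹) = g * (r * H.t) * g⁻¹ by group, H.T0_comm hr]
    group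
  have hxx := (H.A_sq hA).1
  let f : H.T0 → Bool × I := fun r =>
    if h : g * (r : G) * g⁻¹ ∈ H.T0 then (false, ⟨_, h, hgx r r.2⟩)
    else (true, ⟨x * (g * (r : G) * g⁻¹), C.mul_T0 x hxT _ (hR r r.2) hx0 h, by
      rw [mul_assoc, hgx r r.2]⟩)
  have hf : Function.Injective f := by
    intro r r' h
    simp only [f] at h
    split_ifs at h <;> simp at h
    · exact h
    · exact h
  let p : I → H.L.V := fun i =>
    if h : (i : G) ∈ H.L.V then ⟨i, h⟩ else ⟨H.t * i, i.2.1.resolve_left h⟩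
  have ht : ∀ i : I, (i : G) ∈ H.L.V ∨ (p i : G) = H.t * i := by
    intro i; by_cases h : (i : G) ∈ H.L.V
    · exact Or.inl h
    · right; simp [p, h]
  have hp : Function.Injective p := by
    intro i j h
    have key : ∀ i j : I, (i : G) = H.t * j → False := by
      intro i j e
      have h3 : H.t * x = x * H.t := mul_right_cancel (b := (j : G)) (by
        rw [mul_assoc H.t x, ← j.2.2, mul_assoc x H.t, ← e, ← i.2.2, e, mul_assoc])
      have h4 := C.conj_t x hxT hx0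
      rw [← h3, mul_inv_cancel_right] at h4
      exact H.tz_ne.2 h4.symm
    by_cases h1 : (i : G) ∈ H.L.V <;> by_cases h2 : (j : G) ∈ H.L.V <;> simp [p, h1, h2] at h
    · exact Subtype.ext h
    · exact (key i j h).elim
    · exact (key j i h.symm).elim
    · exact Subtype.ext h
  haveI := Fintype.ofFinite I
  have hle : Nat.card H.L.V ≤ Nat.card I := by
    have := Nat.card_le_card_of_injective f hf
    rw [Nat.card_prod, Nat.card_eq_fintype_card (α := Bool), Fintype.card_bool, H.card_T0] at this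
    omega
  have hb : Function.Surjective p :=
    (hp.bijective_of_nat_card_le hle).2
  intro v hv
  obtain ⟨i, hi⟩ := hb ⟨v, hv⟩
  by_cases h : (i : G) ∈ H.L.V
  · simp [p, h] at hi
    exact Or.inl (hi ▸ i.2.2)
  · simp [p, h] at hi
    refine Or.inr ?_
    rw [← hi, H.tt]
    exact i.2.2

/-- Conjugate involutions `a`, `v a` with different fusion. -/
theorem exists_pair (hG : ¬ IsMulCommutative G) (C : H.Top) :
    ∃ x ∈ (C.T : Subgroup G), x ∉ H.T0 ∧ ∃ a, (a = H.s ∨ a = H.t * H.s) ∧ a * x = x * a ∧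
      ∃ v ∈ H.L.V, v * v = H.z ∧ (H.A a ↔ ¬ H.A (v * a)) := by
  obtain ⟨y, hy, hy0⟩ := SetLike.exists_of_lt C.lt
  obtain ⟨x, hxT, hx0, hAx, hyx, hproj⟩ := H.exists_outer hG C hy hy0
  have hty : H.t * y ∈ (C.T : Subgroup G) := mul_mem (C.lt.le H.t_mem) hy
  have hty0 : H.t * y ∉ H.T0 := fun h => hy0 (by
    have := mul_mem H.t_mem h
    rwa [H.tt] at this)
  obtain ⟨x₃, hx3T, hx30, hA3, hyx3, -⟩ := H.exists_outer hG C hty hty0
  obtain ⟨hxx, -⟩ := H.A_sq hAx
  obtain ⟨h33, -⟩ := H.A_sq hA3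
  have hxi : x⁻¹ = x := inv_eq_of_mul_eq_one_left hxx
  set g := x * x₃ with hg
  have hgT : g ∈ H.T0 := C.mul_T0 x hxT x₃ hx3T hx0 hx30
  have hgV : g ∉ H.L.V := by
    intro h
    refine H.L.t_notMem ?_
    have h1 := mul_mem hyx h
    rw [hg, show y * x * (x * x₃) = y * (x * x) * x₃ by group, hxx, mul_one] at h1
    have h2 := mul_mem hyx3 (inv_mem h1)
    rwa [show H.t * y * x₃ * (y * x₃)⁻¹ = H.t by group] at h2
  have hx3 : x₃ = x * g := by rw [hg, ← mul_assoc, hxx, one_mul]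
  set v := H.t * g with hv
  have hvV : v ∈ H.L.V := hgT.resolve_left hgV
  have hgi : x * g * x = g⁻¹ := by
    rw [eq_inv_iff_mul_eq_one]
    calc x * g * x * g = (x * g) * (x * g) := by group
      _ = 1 := by rw [← hx3, h33]
  have hvx : v * x = x * v := by
    rcases hproj v hvV with h | h
    · exact h
    exfalso
    rw [hv, H.tt] at h
    have hg2 : g * g = 1 := by
      have := mul_eq_one_iff_eq_inv.2 hgi
      rwa [← h, mul_assoc g x x, hxx, mul_one] at this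
    have h2 := H.A_xor hG hAx hg2 (fun e => hgV (e ▸ one_mem _)) (fun e => hx0 (e ▸ hgT)) h
    exact h2.1 (H.A_of_notMem hG hgT hgV hg2) (hx3 ▸ hA3)
  have htx : x * H.t * x = H.t * H.z := by
    have := C.conj_t x hxT hx0
    rwa [hxi] at this
  have hgv : g = H.t * v := (H.tt g).symm
  have hz : H.z * v = v⁻¹ := by
    apply mul_left_cancel (a := H.t)
    have h1 : x * g * x = H.t * (H.z * v) := by
      rw [hgv, show x * (H.t * v) * x = x * H.t * (v * x) by group, hvx,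
        show x * H.t * (x * v) = x * H.t * x * v by group, htx, mul_assoc]
    rw [← h1, hgi, hgv, mul_inv_rev, H.t_inv, H.V_comm (inv_mem hvV)]
  have hzi : H.z⁻¹ = H.z := inv_eq_of_mul_eq_one_left H.z_sq
  have hvv : v * v = H.z := by
    have h1 : v = H.z * v⁻¹ := by rw [← hz, ← mul_assoc, H.z_sq, one_mul]
    nth_rw 1 [h1]
    rw [inv_mul_cancel_right]
  obtain ⟨a, ha, hax⟩ : ∃ a, (a = H.s ∨ a = H.t * H.s) ∧ a * x = x * a := by
    rcases hproj H.s (H.ι_mem _) with h | h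
    · exact ⟨_, Or.inl rfl, h⟩
    · exact ⟨_, Or.inr rfl, h⟩
  refine ⟨x, hxT, hx0, a, ha, hax, v, hvV, hvv, ?_⟩
  have haT : a ∈ H.T0 := by
    rcases ha with rfl | rfl
    · exact H.V_le (H.ι_mem _)
    · exact mul_mem H.t_mem (H.V_le (H.ι_mem _))
  have ha2 : a * a = 1 := by
    rcases ha with rfl | rfl
    · exact H.s_sq
    · rw [H.t_sq_comm (H.V_le (show H.s ∈ H.L.V from H.ι_mem _)), H.s_sq]
  have ha1 : a ≠ 1 := by
    rcases ha with rfl | rfl
    · exact H.s_ne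
    · exact fun h => H.tV_notMem (show H.s ∈ H.L.V from H.ι_mem _) (by rw [h]; exact one_mem _)
  have hat : a ≠ H.t := by
    rcases ha with rfl | rfl
    · exact fun h => H.L.t_notMem (by show H.t ∈ H.L.V; rw [← h]; exact H.ι_mem _)
    · exact fun h => H.s_ne (mul_eq_left.1 h)
  have hva : a * v * a = v⁻¹ := by
    obtain ⟨w, hw⟩ := (H.range v).1 hvV
    have hw2 : w * w = zz H.m := H.inj (by rw [map_mul, hw, hvv]; rfl)
    have hsv : H.s * v * H.s = v⁻¹ := by
      rw [← hw, s, ← map_mul, ← map_mul, ← map_inv]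
      congr 1
      cases w with
      | r i => rw [sr_mul_r, sr_mul_sr, inv_r, zero_add, zero_sub]
      | sr i => exact absurd ((sr_mul_self i).symm.trans hw2).symm zz_ne
    rcases ha with rfl | rfl
    · exact hsv
    · rw [show H.t * H.s * v * (H.t * H.s) = H.t * (H.s * v * H.t) * H.s by group,
        H.V_comm (mul_mem (show H.s ∈ H.L.V from H.ι_mem _) hvV), H.tt]
      exact hsv
  have hav : a * v = v⁻¹ * a := by
    calc a * v = a * v * a * a := by rw [mul_assoc _ a, ha2, mul_one]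
      _ = _ := by rw [hva]
  set u := v * a with hu
  have hu2 : u * u = 1 := by
    rw [hu, show v * a * (v * a) = v * (a * v) * a by group, hav, mul_inv_cancel_left, ha2]
  have hu1 : u ≠ 1 := fun h => by
    refine H.z_ne ?_
    have hv' : v = a := by
      rw [hu, mul_eq_one_iff_eq_inv] at h
      rw [h, inv_eq_of_mul_eq_one_left ha2]
    rw [← hvv, hv', ha2]
  have hux : u * x = x * u := by rw [hu, mul_assoc, hax, ← mul_assoc, hvx, mul_assoc]
  have huT : u ∈ H.T0 := mul_mem (H.V_le hvV) haT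
  set b := H.t * a with hb
  have hb2 : b * b = 1 := by rw [hb, H.t_sq_comm haT, ha2]
  have hb1 : b ≠ 1 := fun h => hat (by rw [← H.tt a, ← hb, h, mul_one])
  have hat' : a * H.t = H.t * a := H.T0_comm haT
  have htx2 : H.t * x * H.t = x * H.z := by
    rw [← H.V_comm H.z_mem] at htx
    calc H.t * x * H.t = x * (x * H.t * x) * H.t := by
          rw [← mul_assoc, ← mul_assoc, hxx, one_mul]
      _ = x * (H.z * H.t) * H.t := by rw [htx]
      _ = x * H.z * (H.t * H.t) := by group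
      _ = _ := by rw [H.t_sq, mul_one]
  have hzva : H.z * (a * v) = v * a := by
    rw [hav, ← hvv, ← mul_assoc, mul_inv_cancel_right]
  have hb3 : b * x₃ = x * u := by
    rw [hx3, hgv, hb, show H.t * a * (x * (H.t * v)) = H.t * (a * x) * H.t * v by group, hax,
      show H.t * (x * a) * H.t * v = H.t * x * (a * H.t) * v by group, hat',
      show H.t * x * (H.t * a) * v = H.t * x * H.t * (a * v) by group, htx2, mul_assoc, hzva, hu]
  have h3b : x₃ * b = x * u := by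
    rw [hx3, hgv, hb, show x * (H.t * v) * (H.t * a) = x * (H.t * (v * H.t)) * a by group,
      H.V_comm hvV, H.tt, hu, mul_assoc]
  have e1 := H.A_xor hG hA3 hb2 hb1 (fun e => hx30 (e ▸ mul_mem H.t_mem haT)) (hb3.trans h3b.symm)
  have e2 := H.A_xor hG hAx hu2 hu1 (fun e => hx0 (e ▸ huT)) hux
  have e3 := H.A_xor_t hG ha2 ha1 hat hat'
  rw [h3b] at e1
  rw [← hb] at e3
  rw [e3, e1, ← e2]

theorem false_of_pos (hG : ¬ IsMulCommutative G) (C : H.Top) (hm : 1 ≤ H.m) : False := by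
  obtain ⟨x, -, -, a, ha, -, v, hv, hvv, hA⟩ := H.exists_pair hG C
  obtain ⟨w, hw⟩ := (H.range v).1 hv
  have hw2 : w * w = zz H.m := H.inj (by rw [map_mul, hw, hvv]; rfl)
  obtain ⟨j, rfl⟩ : ∃ j, w = r j := by
    cases w with
    | r j => exact ⟨j, rfl⟩
    | sr i => exact absurd ((sr_mul_self i).symm.trans hw2).symm zz_ne
  obtain ⟨l, hl⟩ := exists_half hm j (by rw [r_mul_r] at hw2; exact r.inj hw2)
  set h := H.ι (r l) with hh
  have hs : h * H.s * h⁻¹ = v * H.s := by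
    rw [hh, ← hw, s, ← map_inv, ← map_mul, ← map_mul, ← map_mul, inv_r, r_mul_sr, sr_mul_r, r_mul_sr, ← hl]
    congr 2
    ring
  have hht := H.V_comm (H.ι_mem (r l))
  have hconj : h * a * h⁻¹ = v * a := by
    rcases ha with rfl | rfl
    · exact hs
    · rw [show h * (H.t * H.s) * h⁻¹ = h * H.t * H.s * h⁻¹ by group, hh, hht, ← hh,
        show H.t * h * H.s * h⁻¹ = H.t * (h * H.s * h⁻¹) by group, hs, ← mul_assoc, ← mul_assoc,
        H.V_comm hv]
  have h2 : ¬ H.A a := fun hAa => hA.1 hAa (hconj ▸ H.A_conj hAa h)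
  refine h2 (hA.2 fun hAv => h2 ?_)
  have := H.A_conj hAv h⁻¹
  rwa [← hconj, show h⁻¹ * (h * a * h⁻¹) * h⁻¹⁻¹ = a by group] at this

theorem V_conj_s (hm : H.m = 0) {g : G} (hg : g ∈ H.L.V) :
    g * H.s * g⁻¹ = H.s ∨ g * H.s * g⁻¹ = H.z * H.s := by
  obtain ⟨D, hodd, P₀, L, m, ι, inj, range⟩ := H
  subst hm
  obtain ⟨y, rfl⟩ := (range g).1 hg
  show ι y * ι (sr 0) * (ι y)⁻¹ = ι (sr 0) ∨ ι y * ι (sr 0) * (ι y)⁻¹ = ι (zz 0) * ι (sr 0)
  rcases conj_sr_four y with h | h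
  · exact Or.inl (by rw [← map_inv, ← map_mul, ← map_mul, h])
  · exact Or.inr (by rw [← map_inv, ← map_mul, ← map_mul, h, map_mul])

theorem false_of_zero (hG : ¬ IsMulCommutative G) (C : H.Top) (hm : H.m = 0) : False := by
  classical
  obtain ⟨x, hxT, hx0, a, ha, hax, -⟩ := H.exists_pair hG C
  have hsV : H.s ∈ H.L.V := H.ι_mem _
  have hP : PSL2.IsInvPair H.z H.s :=
    ⟨orderOf_eq_prime (by rw [pow_two]; exact H.z_sq) H.z_ne,
      orderOf_eq_prime (by rw [pow_two]; exact H.s_sq) H.s_ne, H.z_comm_V hsV, H.s_ne_z.symm⟩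
  set W := PSL2.klein H.z H.s hP with hW
  have hWV : W ≤ H.L.V := by
    intro w hw
    rcases PSL2.mem_klein.1 hw with h | h | h | h <;> rw [h]
    exacts [one_mem _, H.z_mem, hsV, mul_mem H.z_mem hsV]
  have hzW : H.z ∈ W := PSL2.mem_klein.2 (Or.inr (Or.inl rfl))
  have hsW : H.s ∈ W := PSL2.mem_klein.2 (Or.inr (Or.inr (Or.inl rfl)))
  -- normalising `W`
  have hgen : ∀ g : G, g * H.z * g⁻¹ ∈ W → g * H.s * g⁻¹ ∈ W → ∀ w ∈ W, g * w * g⁻¹ ∈ W := by
    intro g h1 h2 w hw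
    rcases PSL2.mem_klein.1 hw with h | h | h | h <;> rw [h]
    · rw [mul_one, mul_inv_cancel]; exact one_mem _
    · exact h1
    · exact h2
    · have := mul_mem h1 h2
      rwa [show g * H.z * g⁻¹ * (g * H.s * g⁻¹) = g * (H.z * H.s) * g⁻¹ by group] at this
  set Ag := twoCoset W H.t (by rw [H.t_sq]; exact one_mem _)
    (fun w hw => by
      have := H.V_comm (hWV hw)
      rwa [← this, mul_inv_cancel_right]) with hAg
  have htA : H.t ∈ Ag := Or.inr (by rw [H.t_sq]; exact one_mem _)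
  set N := normalizer (Ag : Set G) with hN
  have hnorm : ∀ g : G, g * H.t * g⁻¹ ∈ Ag → (∀ w ∈ W, g * w * g⁻¹ ∈ W) → g ∈ N := by
    intro g ht hw
    refine Subgroup.mem_normalizer_fintype fun n hn => ?_
    rcases hn with hn | hn
    · exact Or.inl (hw n hn)
    · have := mul_mem ht (show g * (H.t * n) * g⁻¹ ∈ Ag from Or.inl (hw _ hn))
      rwa [show g * H.t * g⁻¹ * (g * (H.t * n) * g⁻¹) = g * (H.t * (H.t * n)) * g⁻¹ by group, H.tt] at this
  have hT0N : H.T0 ≤ N := by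
    intro g hg
    have hVW : ∀ v ∈ H.L.V, ∀ w ∈ W, v * w * v⁻¹ ∈ W := fun v hv => hgen v
      (by rw [← H.z_comm_V hv, mul_inv_cancel_right]; exact hzW)
      (by
        rcases H.V_conj_s hm hv with h | h <;> rw [h]
        exacts [hsW, mul_mem hzW hsW])
    refine hnorm g (by rw [H.T0_comm hg, mul_inv_cancel_right]; exact htA) ?_
    rcases hg with hg | hg
    · exact hVW g hg
    · intro w hw
      have h := hVW _ hg w hw
      rwa [show H.t * g * w * (H.t * g)⁻¹ = H.t * (g * w * g⁻¹) * H.t⁻¹ by group, H.t_inv,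
        show H.t * (g * w * g⁻¹) * H.t = H.t * (g * w * g⁻¹ * H.t) by group,
        H.T0_comm (show g * w * g⁻¹ ∈ H.T0 from
          mul_mem (mul_mem (Or.inr hg) (H.V_le (hWV hw))) (inv_mem (Or.inr hg))), H.tt] at h
  have hxi : x * H.z * x⁻¹ = H.z := C.conj_z x hxT
  have hxt := C.conj_t x hxT hx0
  have hxN : x ∈ N := by
    refine hnorm x ?_ (hgen x (by rw [hxi]; exact hzW) ?_)
    · rw [hxt]; exact mul_mem htA (Or.inl hzW)
    · have hxa : x * a * x⁻¹ = a := by rw [← hax, mul_inv_cancel_right]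
      rcases ha with rfl | rfl
      · rw [hxa]; exact hsW
      · rw [show x * H.s * x⁻¹ = (x * H.t * x⁻¹)⁻¹ * (x * (H.t * H.s) * x⁻¹) by group, hxa, hxt,
          mul_inv_rev, H.t_inv, mul_assoc, H.tt]
        exact mul_mem (inv_mem hzW) hsW
  -- the element of order three
  set zK : H.D.K := ⟨H.z, H.L.le H.z_mem⟩
  set sK : H.D.K := ⟨H.s, H.L.le hsV⟩
  have hp : orderOf (H.D.ψ zK) = 2 := H.ψ_z
  have hq : orderOf (H.D.ψ sK) = 2 := H.D.ψ_orderOf H.s_sq H.s_ne (fun h => H.L.t_notMem (h ▸ hsV))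
  have hpq : H.D.ψ zK ≠ H.D.ψ sK := fun h =>
    H.s_ne_z (congrArg Subtype.val (H.L.eq_of_ψ (v := zK) (w := sK) H.z_mem hsV h)).symm
  have hcm : H.D.ψ zK * H.D.ψ sK = H.D.ψ sK * H.D.ψ zK := by
    rw [← map_mul, ← map_mul]; exact congrArg _ (Subtype.ext (H.z_comm_V hsV))
  have hQ : PSL2.IsInvPair (H.D.ψ zK) (H.D.ψ sK) := ⟨hp, hq, hcm, hpq⟩
  let L' : H.D.Lift (PSL2.klein _ _ hQ) :=
    { V := W
      le := hWV.trans H.L.le
      two := H.L.two.to_le hWV
      χ_one := fun v hv => H.L.χ_one v (hWV hv)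
      ψ_mem := fun v hv => by
        rcases PSL2.mem_klein.1 hv with h | h | h | h
        · rw [show v = 1 from Subtype.ext h, map_one]; exact one_mem _
        · rw [show v = zK from Subtype.ext h]; exact PSL2.mem_klein.2 (Or.inr (Or.inl rfl))
        · rw [show v = sK from Subtype.ext h]; exact PSL2.mem_klein.2 (Or.inr (Or.inr (Or.inl rfl)))
        · rw [show v = zK * sK from Subtype.ext h, map_mul]
          exact PSL2.mem_klein.2 (Or.inr (Or.inr (Or.inr rfl)))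
      ψ_surj := fun p hp => by
        rcases PSL2.mem_klein.1 hp with h | h | h | h
        · exact ⟨1, one_mem _, by rw [h, map_one]⟩
        · exact ⟨zK, hzW, h.symm⟩
        · exact ⟨sK, hsW, h.symm⟩
        · exact ⟨zK * sK, mul_mem hzW hsW, by rw [h, map_mul]⟩ }
  obtain ⟨ρ, hρ1, hρ2, hρ3⟩ := exists_cycle H.odd hp hq hcm hpq
  have hρN : ρ ∈ normalizer ((PSL2.klein _ _ hQ : Subgroup PSL(2, F)) : Set PSL(2, F)) := by
    refine Subgroup.mem_normalizer_fintype fun n hn => ?_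
    rcases PSL2.mem_klein.1 hn with h | h | h | h <;> rw [h]
    · rw [mul_one, mul_inv_cancel]; exact one_mem _
    · rw [hρ1]; exact PSL2.mem_klein.2 (Or.inr (Or.inr (Or.inl rfl)))
    · rw [hρ2]; exact PSL2.mem_klein.2 (Or.inr (Or.inr (Or.inr rfl)))
    · rw [hρ3]; exact PSL2.mem_klein.2 (Or.inr (Or.inl rfl))
  have hcQ : ∀ p ∈ PSL2.klein _ _ hQ, ∀ q ∈ PSL2.klein _ _ hQ, p * q = q * p := by
    intro p hp q hq
    rcases PSL2.mem_klein.1 hp with h | h | h | h <;>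
      rcases PSL2.mem_klein.1 hq with h' | h' | h' | h' <;> rw [h, h'] <;>
      (try simp only [one_mul, mul_one]) <;>
      first
        | rfl
        | exact hcm
        | exact hcm.symm
        | exact ((Commute.refl _).mul_right hcm).eq
        | exact ((Commute.refl _).mul_right hcm).eq.symm
        | exact (Commute.mul_right (show Commute (H.D.ψ sK) (H.D.ψ zK) from hcm.symm) (Commute.refl _)).eq
        | exact (Commute.mul_right (show Commute (H.D.ψ sK) (H.D.ψ zK) from hcm.symm) (Commute.refl _)).eq.symm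
  obtain ⟨k, hk⟩ := L'.exists_normalizer hcQ hρN
  have hkz : (k : G) * H.z * (k : G)⁻¹ = H.s := congrArg Subtype.val
    (L'.eq_of_ψ (v := k * zK * k⁻¹) (w := sK) (hk zK hzW).1 hsW ((hk zK hzW).2.trans hρ1))
  have hks : (k : G) * H.s * (k : G)⁻¹ = H.z * H.s := congrArg Subtype.val
    (L'.eq_of_ψ (v := k * sK * k⁻¹) (w := zK * sK) (hk sK hsW).1 (mul_mem hzW hsW)
      ((hk sK hsW).2.trans (hρ2.trans (map_mul H.D.ψ zK sK).symm)))
  have hkt : (k : G) * H.t = H.t * k := H.D.K_le _ k.2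
  have hkN : (k : G) ∈ N := hnorm k (by rw [hkt, mul_inv_cancel_right]; exact htA)
    (hgen k (by rw [hkz]; exact hsW) (by rw [hks]; exact mul_mem hzW hsW))
  -- count
  let tN : N := ⟨H.t, hT0N H.t_mem⟩
  have himg : ∀ n : N, H.t * ((n : G) * H.t * (n : G)⁻¹) ∈ W := by
    intro n
    rcases ((mem_normalizer_iff.1 n.2) H.t).1 htA with h | h
    · exact absurd ⟨(n : G), rfl⟩ (H.not_A_V hG (hWV h))
    · exact h
  let f : {y : N // IsConj tN y} → W := fun y => ⟨H.t * (y.1 : G), by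
    obtain ⟨c, hc⟩ := isConj_iff.1 y.2
    rw [← hc]; exact himg c⟩
  have hf : Function.Bijective f := by
    refine ⟨fun p q h => Subtype.ext (Subtype.ext (mul_left_cancel (congrArg Subtype.val h :))), ?_⟩
    have hk2 : ∀ g : G, (k : G) * (H.t * g) * (k : G)⁻¹ = H.t * ((k : G) * g * (k : G)⁻¹) := fun g => by
      rw [show (k : G) * (H.t * g) * (k : G)⁻¹ = (k : G) * H.t * g * (k : G)⁻¹ by group, hkt]; group
    have hsur : ∀ w : G, w ∈ W → ∃ n : N, (n : G) * H.t * (n : G)⁻¹ = H.t * w := by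
      intro w hw
      rcases PSL2.mem_klein.1 hw with h | h | h | h <;> rw [h]
      · exact ⟨1, by simp⟩
      · exact ⟨⟨x, hxN⟩, hxt⟩
      · refine ⟨⟨k, hkN⟩ * ⟨x, hxN⟩, ?_⟩
        show (k : G) * x * H.t * ((k : G) * x)⁻¹ = _
        rw [show (k : G) * x * H.t * ((k : G) * x)⁻¹ = (k : G) * (x * H.t * x⁻¹) * (k : G)⁻¹ by group, hxt,
          hk2, hkz]
      · refine ⟨⟨k, hkN⟩ * (⟨k, hkN⟩ * ⟨x, hxN⟩), ?_⟩
        show (k : G) * ((k : G) * x) * H.t * ((k : G) * ((k : G) * x))⁻¹ = _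
        rw [show (k : G) * ((k : G) * x) * H.t * ((k : G) * ((k : G) * x))⁻¹ =
          (k : G) * ((k : G) * (x * H.t * x⁻¹) * (k : G)⁻¹) * (k : G)⁻¹ by group, hxt, hk2, hkz, hk2, hks]
    rintro ⟨w, hw⟩
    obtain ⟨n, hn⟩ := hsur w hw
    refine ⟨⟨n * tN * n⁻¹, isConj_iff.2 ⟨n, rfl⟩⟩, Subtype.ext ?_⟩
    show H.t * ((n : G) * H.t * (n : G)⁻¹) = w
    rw [hn, H.tt]
  have hV8 : Nat.card H.L.V = 8 := by
    rw [show Nat.card H.L.V = Nat.card (DihedralGroup (2 ^ (H.m + 2))) from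
      (Nat.card_eq_of_bijective (fun x => (⟨H.ι x, H.ι_mem x⟩ : H.L.V))
        ⟨fun a b h => H.inj (congrArg Subtype.val h :), fun ⟨v, hv⟩ => by
          obtain ⟨y, hy⟩ := (H.range v).1 hv; exact ⟨y, Subtype.ext hy⟩⟩).symm, DihedralGroup.nat_card, hm]
    rfl
  have h16 : 16 ∣ Nat.card (centralizer ({tN} : Set N)) := by
    have hle : H.T0.subgroupOf N ≤ centralizer ({tN} : Set N) := fun g hg =>
      mem_centralizer_singleton_iff.2 (Subtype.ext (H.T0_comm hg))
    have := card_dvd_of_le hle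
    rwa [Nat.card_congr (subgroupOfEquivOfLe hT0N).toEquiv, H.card_T0, hV8] at this
  have hcard := PSL2.card_isConj_mul_centralizer tN
  rw [Nat.card_eq_of_bijective f hf, hW, PSL2.card_klein] at hcard
  have h64 : 2 ^ 6 ∣ Nat.card G :=
    (show 2 ^ 6 ∣ Nat.card N by rw [← hcard]; exact Nat.mul_dvd_mul_left 4 h16).trans (card_subgroup_dvd_card N)
  haveI : Fact (Nat.Prime 2) := ⟨Nat.prime_two⟩
  have := C.T.pow_dvd_card_of_pow_dvd_card h64
  rw [C.card, H.card_T0, hV8] at this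
  have := Nat.le_of_dvd (by norm_num) this
  norm_num at this

include H in
theorem absurd_of_simple (hG : ¬ IsMulCommutative G) : False := by
  obtain ⟨C⟩ := H.exists_top hG
  rcases Nat.eq_zero_or_pos H.m with h | h
  · exact H.false_of_zero hG C h
  · exact H.false_of_pos hG C h

end Dih

end Cfsg.Agent.InvolTimesPSL
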