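import Cfsg.Agent.Lib.InvolTimesPSL.Tower
import Cfsg.Agent.Lib.Transfer.Thompson

/-!
# Simple groups with a `Hyp`: the Sylow `2`-subgroups are elementary abelian of order eight
-/

set_option autoImplicit false
set_option linter.style.haveILetI false

namespace Cfsg.Agent.InvolTimesPSL

open Subgroup

universe u

variable {G : Type u} [Group G] [Finite G]

/-- In a nonabelian simple group an involution of a Sylow `2`-subgroup is fused into each subgroup of
index two. -/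
theorem exists_conj_mem_of_simple [IsSimpleGroup G] (hG : ¬ IsMulCommutative G) (P : Sylow 2 G)
    {M : Subgroup G} (hMP : M ≤ (P : Subgroup G)) (hM : Nat.card M * 2 = Nat.card (P : Subgroup G))
    {u : G} (hu : u * u = 1) (huP : u ∈ (P : Subgroup G)) : ∃ g : G, g * u * g⁻¹ ∈ M := by
  haveI : Fact (Nat.Prime 2) := ⟨Nat.prime_two⟩
  by_contra hcon
  push Not at hcon
  have hrel : M.relIndex (P : Subgroup G) = 2 := by
    show (M.subgroupOf (P : Subgroup G)).index = 2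
    refine index_of_card_mul ?_
    rw [Nat.card_congr (subgroupOfEquivOfLe hMP).toEquiv, hM]
  obtain ⟨N, hN, hidx, -⟩ := Transfer.exists_index_two_of_involution P M hMP hrel u
    (by rw [pow_two, hu]) huP (by simpa using hcon 1) hcon
  rcases IsSimpleGroup.eq_bot_or_eq_top_of_normal N hN with h | h
  · rw [h, index_bot] at hidx
    haveI := isCyclic_of_prime_card hidx
    exact hG ⟨⟨IsCyclic.commGroup.mul_comm⟩⟩
  · rw [h, index_top] at hidx
    omega

theorem z2_one_one : (0 : ZMod 2) = 1 + 1 := by decide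

theorem z2_count : ∀ a b c a' b' : ZMod 2, a + a' = 1 → b + b' = 1 → c + (a' + b') = 1 → a + b + c = 1 := by
  decide

theorem z2_final : ∀ a1 a2 a3 b1 b2 b3 : ZMod 2, a1 + a2 + a3 = 1 → b1 + b2 + b3 = 1 →
    a1 + b1 + (a2 + b2) + (a3 + b3) = 1 → False := by decide

namespace Hyp

variable (H : Hyp G)

include H in
theorem card_sylow [IsSimpleGroup G] (hG : ¬ IsMulCommutative G) :
    ∀ S : Sylow 2 G, Nat.card (S : Subgroup G) = 8 ∧ ∀ x ∈ (S : Subgroup G), x ^ 2 = 1 := by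
  classical
  haveI : Fact (Nat.Prime 2) := ⟨Nat.prime_two⟩
  obtain ⟨T, hT0T, hT⟩ := H.tower
  have heq : (T : Subgroup G) = H.T0 := by
    refine hT.resolve_right ?_
    rintro ⟨M, hMT, hMc, -, -, hbig, -⟩
    obtain ⟨g, hg⟩ := exists_conj_mem_of_simple hG T hMT hMc H.t_sq (hT0T H.t_mem)
    exact H.not_big_conj g (hbig _ hg H.conj_involution.1 H.conj_involution.2)
  suffices h4 : Nat.card H.E = 4 by
    intro S
    obtain ⟨g, hg⟩ := MulAction.exists_smul_eq G T S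
    constructor
    · rw [← Nat.card_congr (Sylow.equiv T S).toEquiv, heq, H.card_T0, h4]
    · intro x hx
      rw [← hg, Sylow.coe_subgroup_smul, Subgroup.mem_pointwise_smul_iff_inv_smul_mem, heq] at hx
      have h := H.sq_T0 hx
      rw [← map_inv, MulAut.smul_def, MulAut.conj_apply, inv_inv] at h
      rw [pow_two]
      calc x * x = g * (g⁻¹ * x * g * (g⁻¹ * x * g)) * g⁻¹ := by group
        _ = 1 := by rw [h]; group
  by_contra hne4
  have hE8 : 8 ≤ Nat.card H.E := by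
    obtain ⟨n, hn⟩ := IsPGroup.iff_card.1 H.isPGroup_E
    have h4 := H.four
    rw [hn] at h4 hne4 ⊢
    rcases n with _ | _ | _ | n
    · simp at h4
    · simp at h4
    · simp at hne4
    · exact (pow_le_pow_right₀ one_le_two (by omega : 3 ≤ n + 3) : 2 ^ 3 ≤ 2 ^ (n + 3))
  -- `t` is fused to an element of `E`
  have hEc : Nat.card H.E * 2 = Nat.card (T : Subgroup G) := by rw [heq, H.card_T0, mul_comm]
  obtain ⟨g, hg⟩ := exists_conj_mem_of_simple hG T (heq ▸ H.E_le) hEc H.t_sq (hT0T H.t_mem)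
  haveI hTab : IsMulCommutative (T : Subgroup G) := ⟨⟨fun a b => Subtype.ext (by
    have ha : (a : G) ∈ H.T0 := heq ▸ a.2
    have hb : (b : G) ∈ H.T0 := heq ▸ b.2
    exact H.comm_T0 ha hb)⟩⟩
  obtain ⟨n, hn, hnt⟩ := T.conj_eq_normalizer_conj_of_mem H.t g⁻¹ (hT0T H.t_mem) (by
    rw [inv_inv]; exact heq.ge (H.E_le hg))
  rw [inv_inv] at hnt
  have hnN : n⁻¹ ∈ H.N := by
    have hset : (↑T : Set G) = ((T : Subgroup G) : Set G) := rfl
    have := inv_mem hn
    rwa [hset, heq] at this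
  set e₀ := g * H.t * g⁻¹ with he₀
  have he₀1 : e₀ ≠ 1 := H.conj_involution.2
  have he₀n : n⁻¹ * H.t * (n⁻¹)⁻¹ = e₀ := by rw [inv_inv, hnt]
  let O : Set G := {x | ∃ g ∈ H.N, g * H.t * g⁻¹ = x}
  have hO : ∀ g ∈ H.N, ∀ x ∈ O, g * x * g⁻¹ ∈ O := by
    rintro g hg x ⟨g', hg', rfl⟩
    exact ⟨g * g', mul_mem hg hg', by group⟩
  have hOE : ∀ e ∈ H.E, e ≠ 1 → e ∈ O := by
    intro e he he1
    obtain ⟨j, hj⟩ := H.trans _ hg e he he₀1 he1
    exact hj ▸ hO _ (pow_mem H.k_mem_N j) _ ⟨_, hnN, he₀n⟩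
  have hktE : ∀ e ∈ H.E, ∀ e' ∈ H.E, e ≠ 1 → e' ≠ 1 → H.t * e ∈ O → H.t * e' ∈ O := by
    intro e he e' he' h1 h1' h
    obtain ⟨j, hj⟩ := H.trans e he e' he' h1 h1'
    have hc : H.k ^ j * H.t = H.t * H.k ^ j := (Commute.pow_left H.k_t j).eq
    have := hO _ (pow_mem H.k_mem_N j) _ h
    rwa [show H.k ^ j * (H.t * e) * (H.k ^ j)⁻¹ = (H.k ^ j * H.t) * e * (H.k ^ j)⁻¹ by group, hc,
      show H.t * H.k ^ j * e * (H.k ^ j)⁻¹ = H.t * (H.k ^ j * e * (H.k ^ j)⁻¹) by group, hj] at this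
  obtain ⟨a, haE, ha1, hae⟩ : ∃ a ∈ H.E, a ≠ 1 ∧ a ≠ e₀ := by
    by_contra hcon
    push Not at hcon
    have := Nat.card_le_card_of_injective (β := Bool) (fun x : H.E => decide ((x : G) = 1))
      fun a b hab => by
        apply Subtype.ext
        by_cases h1 : (a : G) = 1 <;> by_cases h2 : (b : G) = 1 <;> simp [h1, h2] at hab ⊢
        exact Subtype.ext ((hcon a a.2 h1).trans (hcon b b.2 h2).symm)
    simp at this
    omega
  obtain ⟨f, hf, hf1, hfO⟩ : ∃ f ∈ H.E, f ≠ 1 ∧ H.t * f ∈ O := by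
    by_contra hcon
    push Not at hcon
    have hback : ∀ f ∈ H.E, f ≠ 1 → f ≠ e₀ → n * f * n⁻¹ ∈ H.E := by
      intro f hf hf1 hfe
      have hfO : n * f * n⁻¹ ∈ O := by
        have := hO _ (inv_mem hnN) f (hOE f hf hf1)
        rwa [inv_inv] at this
      obtain ⟨y, hy, hyx⟩ := hfO
      rcases (hyx ▸ H.N_conj hy H.t_mem : n * f * n⁻¹ ∈ H.T0) with h | h
      · exact h
      · by_cases h1 : H.t * (n * f * n⁻¹) = 1
        · rw [mul_eq_one_iff_inv_eq, H.t_inv] at h1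
          refine absurd ?_ hfe
          rw [← he₀n, h1]; group
        · refine absurd ?_ (hcon _ h h1)
          rw [H.t_mul_t_mul]
          exact ⟨y, hy, hyx⟩
    have hae' : a * e₀ ≠ 1 := fun h => hae (by
      rw [mul_eq_one_iff_eq_inv, H.inv_E hg] at h; exact h)
    have hae'' : a * e₀ ≠ e₀ := fun h => ha1 (mul_eq_right.1 h)
    have h2 := mul_mem (hback a haE ha1 hae) (hback _ (mul_mem haE hg) hae' hae'')
    refine H.t_notMem ?_
    rwa [show n * a * n⁻¹ * (n * (a * e₀) * n⁻¹) = n * ((a * a) * e₀) * n⁻¹ by group, H.sq a haE,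
      one_mul, show n * e₀ * n⁻¹ = H.t by rw [← he₀n]; group] at h2
  have hall : ∀ x ∈ H.T0, x ≠ 1 → x ∈ O := by
    rintro x (hx | hx) hx1
    · exact hOE x hx hx1
    · by_cases h1 : H.t * x = 1
      · rw [mul_eq_one_iff_inv_eq, H.t_inv] at h1
        exact ⟨1, one_mem _, by rw [one_mul, inv_one, mul_one, h1]⟩
      · have := hktE f hf _ hx hf1 h1 hfO
        rwa [H.t_mul_t_mul] at this
  choose c hc hct using hall
  -- no element of `N(T₀)` swaps `t` with another involution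
  have noswap : ∀ h ∈ H.N, ∀ x : G, h * H.t * h⁻¹ = x → h * x * h⁻¹ = H.t → x = H.t := by
    intro h hh x h1 h2
    obtain ⟨m, hm, hP⟩ := odd_part h
    obtain ⟨i, rfl⟩ := hm
    have hcomm : ∀ i : ℕ, h ^ (2 * i) * H.t * (h ^ (2 * i))⁻¹ = H.t := by
      intro i
      induction i with
      | zero => simp
      | succ i ih =>
        rw [show 2 * (i + 1) = 2 * i + 2 by ring, pow_add,
          show h ^ (2 * i) * h ^ 2 * H.t * (h ^ (2 * i) * h ^ 2)⁻¹ =
            h ^ (2 * i) * (h * (h * H.t * h⁻¹) * h⁻¹) * (h ^ (2 * i))⁻¹ by rw [pow_two]; group, h1, h2, ih]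
    have hle : zpowers (h ^ (2 * i + 1)) ≤ normalizer ((T : Subgroup G) : Set G) := by
      rw [heq, zpowers_le]; exact pow_mem hh _
    have hmax := T.3 (T.2.to_sup_of_normal_left' hP hle) le_sup_left
    have hmem : h ^ (2 * i + 1) ∈ H.T0 := heq.le (hmax.le (mem_sup_right (mem_zpowers _)))
    have hfix : h ^ (2 * i + 1) * H.t * (h ^ (2 * i + 1))⁻¹ = H.t := by
      rw [H.comm_t' hmem, mul_inv_cancel_right]
    rwa [pow_succ', show h * h ^ (2 * i) * H.t * (h * h ^ (2 * i))⁻¹ =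
      h * (h ^ (2 * i) * H.t * (h ^ (2 * i))⁻¹) * h⁻¹ by group, hcomm, h1] at hfix
  -- the hyperplane `E_x = c_x E c_x⁻¹` attached to `x`
  let φ : G → ZMod 2 := fun y => if y ∈ H.E then 0 else 1
  have hφ : ∀ y ∈ H.T0, ∀ z ∈ H.T0, φ (y * z) = φ y + φ z := by
    intro y hy z hz
    by_cases h1 : y ∈ H.E <;> by_cases h2 : z ∈ H.E
    · simp [φ, h1, h2, mul_mem h1 h2]
    · have h3 : y * z ∉ H.E := fun h => h2 (by
        have := mul_mem (inv_mem h1) h
        rwa [inv_mul_cancel_left] at this)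
      simp [φ, h1, h2, h3]
    · have h3 : y * z ∉ H.E := fun h => h1 (by
        have := mul_mem h (inv_mem h2)
        rwa [mul_inv_cancel_right] at this)
      simp [φ, h1, h2, h3]
    · have h3 : y * z ∈ H.E := by
        have h4 := mul_mem (hy.resolve_left h1) (hz.resolve_left h2)
        rwa [← H.comm_t' hy, mul_assoc, H.t_mul_t_mul] at h4
      simp only [φ, if_neg h1, if_neg h2, if_pos h3]; exact z2_one_one
  let ψ : G → G → ZMod 2 := fun x y =>
    if h : x ∈ H.T0 ∧ x ≠ 1 then φ ((c x h.1 h.2)⁻¹ * y * c x h.1 h.2) else 0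
  have hψadd : ∀ x ∈ H.T0, x ≠ 1 → ∀ y ∈ H.T0, ∀ z ∈ H.T0, ψ x (y * z) = ψ x y + ψ x z := by
    intro x hx hx1 y hy z hz
    simp only [ψ, dif_pos (And.intro hx hx1)]
    have hm : ∀ y ∈ H.T0, (c x hx hx1)⁻¹ * y * c x hx hx1 ∈ H.T0 := by
      intro y hy
      have := H.N_conj (inv_mem (hc x hx hx1)) hy
      rwa [inv_inv] at this
    rw [← hφ _ (hm y hy) _ (hm z hz)]
    congr 1
    group
  -- any conjugator computes `ψ`
  have hψ : ∀ x ∈ H.T0, x ≠ 1 → ∀ d ∈ H.N, d * H.t * d⁻¹ = x → ∀ y ∈ H.T0, ψ x y = φ (d⁻¹ * y * d) := by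
    intro x hx hx1 d hd hdx y hy
    simp only [ψ, dif_pos (And.intro hx hx1)]
    set cx := c x hx hx1 with hcx
    have hb : d⁻¹ * cx ∈ H.N := mul_mem (inv_mem hd) (hc x hx hx1)
    have hbt : d⁻¹ * cx * H.t = H.t * (d⁻¹ * cx) := by
      calc d⁻¹ * cx * H.t = d⁻¹ * (cx * H.t * cx⁻¹) * cx := by group
        _ = d⁻¹ * (d * H.t * d⁻¹) * cx := by rw [hct x hx hx1, hdx]
        _ = _ := by group
    have hiff : cx⁻¹ * y * cx ∈ H.E ↔ d⁻¹ * y * d ∈ H.E := by
      constructor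
      · intro h
        have := H.norm_E hb hbt h
        rwa [show d⁻¹ * cx * (cx⁻¹ * y * cx) * (d⁻¹ * cx)⁻¹ = d⁻¹ * y * d by group] at this
      · intro h
        have hbt' : (d⁻¹ * cx)⁻¹ * H.t = H.t * (d⁻¹ * cx)⁻¹ := (Commute.inv_left hbt).eq
        have := H.norm_E (inv_mem hb) hbt' h
        rwa [show (d⁻¹ * cx)⁻¹ * (d⁻¹ * y * d) * (d⁻¹ * cx)⁻¹⁻¹ = cx⁻¹ * y * cx by group] at this
    simp only [φ, hiff]
  have hψt : ∀ y ∈ H.T0, ψ H.t y = φ y := fun y hy => by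
    rw [hψ H.t H.t_mem H.t_ne_one 1 (one_mem _) (by simp) y hy]; simp
  have hanti : ∀ x ∈ H.T0, ∀ y ∈ H.T0, x ≠ 1 → y ≠ 1 → x ≠ y → ψ x y + ψ y x = 1 := by
    intro x hx y hy hx1 hy1 hxy
    set d := c x hx hx1 with hd
    have hdN := hc x hx hx1
    have hdx := hct x hx hx1
    set e := c y hy hy1 with he
    set b := d⁻¹ * e with hb
    have hbN : b ∈ H.N := mul_mem (inv_mem hdN) (hc y hy hy1)
    set y' := b * H.t * b⁻¹ with hy'
    set x' := b⁻¹ * H.t * b with hx'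
    have hy'T : y' ∈ H.T0 := H.N_conj hbN H.t_mem
    have hx'T : x' ∈ H.T0 := by
      have := H.N_conj (inv_mem hbN) H.t_mem
      rwa [inv_inv] at this
    have hy'eq : y' = d⁻¹ * y * d := by
      rw [hy', hb, ← hct y hy hy1]; group; rfl
    have hx'eq : x' = e⁻¹ * x * e := by
      rw [hx', hb, ← hdx]; group; rfl
    rw [hψ x hx hx1 d hdN hdx y hy, hψ y hy hy1 e (hc y hy hy1) (hct y hy hy1) x hx, ← hy'eq, ← hx'eq]
    have hy'1 : y' ≠ 1 := fun h => H.t_ne_one (conj_eq_one_iff.1 h)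
    have hy't : y' ≠ H.t := by
      intro h
      refine hxy ?_
      rw [← hdx, ← h, hy'eq, hd]; group
    have hx'1 : x' ≠ 1 := fun h => H.t_ne_one (by
      calc H.t = b * x' * b⁻¹ := by rw [hx']; group
        _ = 1 := by rw [h]; group)
    have hx't : x' ≠ H.t := by
      intro h
      apply hy't
      rw [hy']
      calc b * H.t * b⁻¹ = b * x' * b⁻¹ := by rw [h]
        _ = H.t := by rw [hx']; group
    have key : ∀ j : ℕ, H.k ^ j * y' * (H.k ^ j)⁻¹ = x' → False := by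
      intro j hj
      have hkc : H.k ^ j * H.t = H.t * H.k ^ j := (Commute.pow_left H.k_t j).eq
      refine hy't (noswap (b * H.k ^ j) (mul_mem hbN (pow_mem H.k_mem_N j)) y' ?_ ?_)
      · calc b * H.k ^ j * H.t * (b * H.k ^ j)⁻¹ = b * (H.k ^ j * H.t) * (H.k ^ j)⁻¹ * b⁻¹ := by group
          _ = y' := by rw [hkc, hy']; group
      · calc b * H.k ^ j * y' * (b * H.k ^ j)⁻¹ = b * (H.k ^ j * y' * (H.k ^ j)⁻¹) * b⁻¹ := by group
          _ = H.t := by rw [hj, hx']; group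
    by_cases h1 : y' ∈ H.E <;> by_cases h2 : x' ∈ H.E
    · exfalso
      obtain ⟨j, hj⟩ := H.trans _ h1 _ h2 hy'1 hx'1
      exact key j hj
    · simp [φ, h1, h2]
    · simp [φ, h1, h2]
    · exfalso
      have hp := hy'T.resolve_left h1
      have hq := hx'T.resolve_left h2
      obtain ⟨j, hj⟩ := H.trans _ hp _ hq
        (fun h => hy't (by rw [mul_eq_one_iff_inv_eq, H.t_inv] at h; exact h.symm))
        (fun h => hx't (by rw [mul_eq_one_iff_inv_eq, H.t_inv] at h; exact h.symm))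
      refine key j ?_
      have hkc : H.k ^ j * H.t = H.t * H.k ^ j := (Commute.pow_left H.k_t j).eq
      calc H.k ^ j * y' * (H.k ^ j)⁻¹ = H.k ^ j * (H.t * (H.t * y')) * (H.k ^ j)⁻¹ := by rw [H.t_mul_t_mul]
        _ = (H.k ^ j * H.t) * (H.t * y') * (H.k ^ j)⁻¹ := by group
        _ = H.t * (H.k ^ j * (H.t * y') * (H.k ^ j)⁻¹) := by rw [hkc]; group
        _ = x' := by rw [hj, H.t_mul_t_mul]
  -- three vectors of a line count
  set e := e₀ with hedef
  have heE : e ∈ H.E := hg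
  have hte1 : H.t * e ≠ 1 := fun h => H.t_notMem (by
    rw [mul_eq_one_iff_eq_inv, H.inv_E heE] at h; rw [h]; exact heE)
  have hsum : ∀ v ∈ H.E, v ≠ 1 → v ≠ e → ψ H.t v + ψ e v + ψ (H.t * e) v = 1 := by
    intro v hv hv1 hve
    have hvT := H.E_le hv
    have h1 := hanti _ H.t_mem _ hvT H.t_ne_one hv1 (fun h => H.t_notMem (h ▸ hv))
    have h2 := hanti _ (H.E_le heE) _ hvT he₀1 hv1 (fun h => hve h.symm)
    have h3 := hanti _ (H.tE_mem heE) _ hvT hte1 hv1 (fun h => H.tE_notMem heE (h ▸ hv))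
    rw [hψadd v hvT hv1 _ H.t_mem _ (H.E_le heE)] at h3
    exact z2_count _ _ _ _ _ h1 h2 h3
  -- pick `v, w` independent over the line
  obtain ⟨w, hw, hw1, hwe, hwa, hwae⟩ : ∃ w ∈ H.E, w ≠ 1 ∧ w ≠ e ∧ w ≠ a ∧ w ≠ a * e := by
    by_contra hcon
    push Not at hcon
    have hle : Nat.card H.E ≤ ({1, e, a, a * e} : Finset G).card := by
      rw [← Nat.card_eq_finsetCard]
      refine Nat.card_le_card_of_injective (fun x : H.E => (⟨(x : G), ?_⟩ : ↥({1, e, a, a * e} : Finset G)))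
        fun x y h => Subtype.ext (congrArg Subtype.val h :)
      simp only [Finset.mem_insert, Finset.mem_singleton]
      by_cases h1 : (x : G) = 1
      · exact Or.inl h1
      by_cases h2 : (x : G) = e
      · exact Or.inr (Or.inl h2)
      by_cases h3 : (x : G) = a
      · exact Or.inr (Or.inr (Or.inl h3))
      exact Or.inr (Or.inr (Or.inr (hcon x x.2 h1 h2 h3)))
    have := Finset.card_le_four (a := (1 : G)) (b := e) (c := a) (d := a * e)
    omega
  have hv := hsum a haE ha1 hae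
  have hw' := hsum w hw hw1 hwe
  have hvw := hsum (a * w) (mul_mem haE hw) (fun h => hwa (by
    rw [mul_eq_one_iff_inv_eq, H.inv_E haE] at h; exact h.symm)) (fun h => hwae (by
    rw [← h, ← mul_assoc, H.sq a haE, one_mul]))
  rw [hψadd _ H.t_mem H.t_ne_one _ (H.E_le haE) _ (H.E_le hw),
    hψadd _ (H.E_le heE) he₀1 _ (H.E_le haE) _ (H.E_le hw),
    hψadd _ (H.tE_mem heE) hte1 _ (H.E_le haE) _ (H.E_le hw)] at hvw
  exact z2_final _ _ _ _ _ _ hv hw' hvw

end Hyp

end Cfsg.Agent.InvolTimesPSL
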