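import Cfsg.Agent.Lib.InvolTimesPSL.CentLift
import Cfsg.Agent.Lib.InvolTimesPSL.TopElementary
import Mathlib.GroupTheory.SpecificGroups.Dihedral

/-!
# The dihedral case: `C(t)` and the fusion of `t`

`Dih G F`: the image `V ≅ D_{2^{m+2}}` (order `2^(m+3)`) of a Sylow subgroup of `PSL(2, q)` in `C(t)`.
`fusion`: an involution `u ≠ t` of `C(t)` is conjugate to `t` iff `χ u ≠ 1`.
-/

set_option autoImplicit false
set_option linter.style.haveILetI false

namespace Cfsg.Agent.InvolTimesPSL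

open Subgroup DihedralGroup
open scoped MatrixGroups

universe u v

namespace Dihedral2

variable {m : ℕ}

/-- The element of order two of `ZMod (2^(m+2))`. -/
def hf (m : ℕ) : ZMod (2 ^ (m + 2)) := ((2 ^ (m + 1) : ℕ) : ZMod (2 ^ (m + 2)))

theorem hf_add : hf m + hf m = 0 := by
  rw [hf, ← Nat.cast_add, show 2 ^ (m + 1) + 2 ^ (m + 1) = 2 ^ (m + 2) by ring, ZMod.natCast_self]

theorem hf_ne : hf m ≠ 0 := fun h => by
  rw [hf, ZMod.natCast_eq_zero_iff] at h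
  have := Nat.le_of_dvd (by positivity) h
  rw [pow_succ] at this
  have h0 : 0 < 2 ^ (m + 1) := by positivity
  omega

theorem hf_eq_double : hf m = ((2 ^ m : ℕ) : ZMod (2 ^ (m + 2))) + ((2 ^ m : ℕ) : ZMod (2 ^ (m + 2))) := by
  rw [hf, ← Nat.cast_add, show 2 ^ m + 2 ^ m = 2 ^ (m + 1) by ring]

theorem double_cases (j : ZMod (2 ^ (m + 2))) (h : j + j = 0) : j = 0 ∨ j = hf m := by
  rw [← ZMod.natCast_zmod_val j, ← Nat.cast_add, ZMod.natCast_eq_zero_iff] at h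
  obtain ⟨c, hc⟩ := h
  have hlt := j.val_lt
  rcases c with _ | _ | c
  · exact Or.inl ((ZMod.val_eq_zero j).1 (by omega))
  · right
    rw [← ZMod.natCast_zmod_val j, hf]
    congr 1
    have he : 2 ^ (m + 2) = 2 ^ (m + 1) * 2 := pow_succ 2 (m + 1)
    omega
  · exfalso
    rw [mul_add, mul_add] at hc
    omega

theorem one_add_one_ne : (1 : ZMod (2 ^ (m + 2))) + 1 ≠ 0 := fun h => by
  rw [← Nat.cast_one, ← Nat.cast_add, ZMod.natCast_eq_zero_iff] at h
  have := Nat.le_of_dvd (by omega) h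
  have h4 : 4 ≤ 2 ^ (m + 2) := by
    calc 4 = 2 ^ 2 := rfl
      _ ≤ _ := Nat.pow_le_pow_right two_pos (by omega)
  omega

/-- The central involution. -/
def zz (m : ℕ) : DihedralGroup (2 ^ (m + 2)) := r (hf m)

theorem zz_sq : zz m * zz m = 1 := by rw [zz, r_mul_r, hf_add, ← one_def]

theorem zz_ne : zz m ≠ 1 := fun h => hf_ne (by rw [one_def, zz] at h; exact r.inj h)

theorem zz_eq_sq : zz m = r ((2 ^ m : ℕ) : ZMod (2 ^ (m + 2))) * r ((2 ^ m : ℕ) : ZMod (2 ^ (m + 2))) := by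
  rw [zz, r_mul_r, hf_eq_double]

theorem zz_comm (x : DihedralGroup (2 ^ (m + 2))) : zz m * x = x * zz m := by
  cases x with
  | r i => rw [zz, r_mul_r, r_mul_r, add_comm (hf m) i]
  | sr i => rw [zz, r_mul_sr, sr_mul_r, sub_eq_add_neg, neg_eq_of_add_eq_zero_left hf_add]

theorem sq_eq_zz (x : DihedralGroup (2 ^ (m + 2))) (h : x * x * (x * x) = 1) (h1 : x * x ≠ 1) :
    x * x = zz m := by
  cases x with
  | r i =>
    rw [r_mul_r] at h h1 ⊢
    rw [r_mul_r, one_def] at h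
    rcases double_cases _ (r.inj h) with h2 | h2
    · exact absurd (by rw [h2, ← one_def]) h1
    · rw [h2, zz]
  | sr i => exact absurd (sr_mul_self i) h1

theorem center_cases (y : DihedralGroup (2 ^ (m + 2))) (h : ∀ x, y * x = x * y) : y = 1 ∨ y = zz m := by
  cases y with
  | r i =>
    have h2 := h (sr 0)
    rw [r_mul_sr, sr_mul_r] at h2
    have h3 := sr.inj h2
    rcases double_cases i (by linear_combination -h3) with rfl | rfl
    · exact Or.inl one_def.symm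
    · exact Or.inr rfl
  | sr i =>
    have h2 := h (r 1)
    rw [sr_mul_r, r_mul_sr] at h2
    exact absurd (by linear_combination sr.inj h2) one_add_one_ne

theorem eq_mul_involutions (x : DihedralGroup (2 ^ (m + 2))) :
    ∃ a b, a * a = 1 ∧ b * b = 1 ∧ x = a * b := by
  cases x with
  | r i => exact ⟨sr 0, sr i, sr_mul_self 0, sr_mul_self i, by rw [sr_mul_sr, sub_zero]⟩
  | sr i => exact ⟨sr i, 1, sr_mul_self i, mul_one 1, (mul_one _).symm⟩

end Dihedral2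

open Dihedral2

/-- The data of the dihedral case. -/
structure Dih (G : Type u) [Group G] (F : Type v) [Field F] [Fintype F] where
  D : Cent G F
  odd : (2 : F) ≠ 0
  P₀ : Sylow 2 PSL(2, F)
  L : D.Lift (P₀ : Subgroup PSL(2, F))
  m : ℕ
  ι : DihedralGroup (2 ^ (m + 2)) →* G
  inj : Function.Injective ι
  range : ∀ g, g ∈ L.V ↔ ∃ x, ι x = g

theorem exists_dih {G : Type u} [Group G] [Finite G] {F : Type v} [Field F] [Fintype F] (D : Cent G F)
    (h2 : (2 : F) ≠ 0) (P₀ : Sylow 2 PSL(2, F)) {k : ℕ} (hk : 2 ≤ k)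
    (e : (P₀ : Subgroup PSL(2, F)) ≃* DihedralGroup (2 ^ k)) : Nonempty (Dih G F) := by
  classical
  obtain ⟨m, rfl⟩ : ∃ m, k = m + 2 := ⟨k - 2, by omega⟩
  obtain ⟨L⟩ := D.exists_lift (P₀ := (P₀ : Subgroup PSL(2, F))) P₀.2
  let f : L.V →* (P₀ : Subgroup PSL(2, F)) :=
    { toFun := fun v => ⟨D.ψ ⟨v, L.le v.2⟩, L.ψ_mem ⟨v, L.le v.2⟩ v.2⟩
      map_one' := Subtype.ext (map_one D.ψ)
      map_mul' := fun a b => Subtype.ext (map_mul D.ψ ⟨a, L.le a.2⟩ ⟨b, L.le b.2⟩) }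
  have hf : Function.Bijective f := by
    refine ⟨fun a b h => Subtype.ext (congrArg (fun z : D.K => (z : G))
      (L.eq_of_ψ (v := ⟨a, L.le a.2⟩) (w := ⟨b, L.le b.2⟩) a.2 b.2 (congrArg Subtype.val h))), ?_⟩
    rintro ⟨p, hp⟩
    obtain ⟨v, hv, rfl⟩ := L.ψ_surj p hp
    exact ⟨⟨v, hv⟩, rfl⟩
  let j : L.V ≃* DihedralGroup (2 ^ (m + 2)) := (MulEquiv.ofBijective f hf).trans e
  exact ⟨⟨D, h2, P₀, L, m, L.V.subtype.comp j.symm.toMonoidHom,
    L.V.subtype_injective.comp j.symm.injective,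
    fun g => ⟨fun hg => ⟨j ⟨g, hg⟩, by simp⟩, fun ⟨x, hx⟩ => hx ▸ (j.symm x).2⟩⟩⟩

namespace Dih

variable {G : Type u} [Group G] {F : Type v} [Field F] [Fintype F] (H : Dih G F)

/-- The involution `t`. -/
abbrev t : G := H.D.t

/-- The cyclic central involution. -/
def z : G := H.ι (zz H.m)

/-- `u` is conjugate to `t`. -/
def A (u : G) : Prop := ∃ g, g * H.t * g⁻¹ = u

theorem A_t : H.A H.t := ⟨1, by group⟩

theorem A_conj {u : G} (h : H.A u) (g : G) : H.A (g * u * g⁻¹) := by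
  obtain ⟨a, rfl⟩ := h; exact ⟨g * a, by group⟩

theorem t_sq : H.t * H.t = 1 := H.D.t_sq

theorem t_inv : H.t⁻¹ = H.t := inv_eq_of_mul_eq_one_left H.t_sq

theorem tt (x : G) : H.t * (H.t * x) = x := by rw [← mul_assoc, H.t_sq, one_mul]

theorem V_comm {g : G} (hg : g ∈ H.L.V) : g * H.t = H.t * g := H.D.K_le g (H.L.le hg)

theorem ι_mem (x : DihedralGroup (2 ^ (H.m + 2))) : H.ι x ∈ H.L.V := (H.range _).2 ⟨x, rfl⟩

theorem z_mem : H.z ∈ H.L.V := H.ι_mem _

theorem z_sq : H.z * H.z = 1 := by rw [z, ← map_mul, zz_sq, map_one]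

theorem z_ne : H.z ≠ 1 := fun h => zz_ne (H.inj (h.trans H.ι.map_one.symm))

theorem z_ne_t [Finite G] : H.z ≠ H.t := fun h => H.L.t_notMem (by have := H.z_mem; rwa [h] at this)

theorem z_comm_V {g : G} (hg : g ∈ H.L.V) : H.z * g = g * H.z := by
  obtain ⟨x, rfl⟩ := (H.range g).1 hg
  rw [z, ← map_mul, ← map_mul, zz_comm]

variable [Finite G]

theorem tV_notMem {g : G} (hg : g ∈ H.L.V) : H.t * g ∉ H.L.V := fun h =>
  H.L.t_notMem (by have := mul_mem h (inv_mem hg); rwa [mul_inv_cancel_right] at this)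

/-- The Sylow subgroup of `C(t)`. -/
def T0 : Subgroup G where
  carrier := {g | g ∈ H.L.V ∨ H.t * g ∈ H.L.V}
  one_mem' := Or.inl (one_mem _)
  mul_mem' {a b} ha hb := by
    rcases ha with ha | ha <;> rcases hb with hb | hb
    · exact Or.inl (mul_mem ha hb)
    · refine Or.inr ?_
      have := mul_mem ha hb
      rwa [← mul_assoc, H.V_comm ha, mul_assoc] at this
    · refine Or.inr ?_
      have := mul_mem ha hb
      rwa [mul_assoc] at this
    · refine Or.inl ?_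
      have h := mul_mem ha hb
      have hc := H.V_comm ha
      rwa [show H.t * a * (H.t * b) = (H.t * a * H.t) * b by group, hc, H.tt] at h
  inv_mem' {a} ha := by
    rcases ha with ha | ha
    · exact Or.inl (inv_mem ha)
    · refine Or.inr ?_
      have h := inv_mem ha
      have hc := H.V_comm h
      rw [mul_inv_rev, H.t_inv, mul_assoc, H.t_sq, mul_one] at hc
      rw [mul_inv_rev, H.t_inv] at h
      have he : H.t * a⁻¹ = a⁻¹ * H.t := by
        conv_lhs => rw [hc, H.tt]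
      show H.t * a⁻¹ ∈ H.L.V
      rwa [he]

theorem mem_T0 {g : G} : g ∈ H.T0 ↔ g ∈ H.L.V ∨ H.t * g ∈ H.L.V := Iff.rfl

theorem V_le : H.L.V ≤ H.T0 := fun _ h => Or.inl h

theorem t_mem : H.t ∈ H.T0 := Or.inr (by rw [H.t_sq]; exact one_mem _)

theorem T0_comm {g : G} (hg : g ∈ H.T0) : g * H.t = H.t * g := by
  rcases hg with hg | hg
  · exact H.V_comm hg
  · have h := H.V_comm hg
    rw [mul_assoc] at h
    exact mul_left_cancel h

theorem z_comm {g : G} (hg : g ∈ H.T0) : H.z * g = g * H.z := by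
  rcases hg with hg | hg
  · exact H.z_comm_V hg
  · have h := H.z_comm_V hg
    rw [← mul_assoc, H.V_comm H.z_mem, mul_assoc, mul_assoc] at h
    exact mul_left_cancel h

theorem card_T0 : Nat.card H.T0 = 2 * Nat.card H.L.V := by
  classical
  have e : Nat.card (Bool × H.L.V) = Nat.card H.T0 := by
    refine Nat.card_eq_of_bijective (fun p => if p.1 then ⟨H.t * p.2, mul_mem H.t_mem (H.V_le p.2.2)⟩
      else ⟨p.2, H.V_le p.2.2⟩) ⟨?_, ?_⟩
    · rintro ⟨a, v, hv⟩ ⟨b, w, hw⟩ h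
      rcases a <;> rcases b <;> simp at h
      · exact Prod.ext rfl (Subtype.ext h)
      · exact absurd (h ▸ hv) (H.tV_notMem hw)
      · exact absurd (h ▸ hw) (H.tV_notMem hv)
      · exact Prod.ext rfl (Subtype.ext h)
    · rintro ⟨g, hg | hg⟩
      · exact ⟨(false, ⟨g, hg⟩), rfl⟩
      · exact ⟨(true, ⟨_, hg⟩), Subtype.ext (H.tt g)⟩
  rw [← e, Nat.card_prod, Nat.card_eq_fintype_card (α := Bool), Fintype.card_bool]

theorem isPGroup_T0 : IsPGroup 2 H.T0 := by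
  haveI : Fact (Nat.Prime 2) := ⟨Nat.prime_two⟩
  obtain ⟨n, hn⟩ := IsPGroup.iff_card.1 H.L.two
  exact IsPGroup.of_card (n := n + 1) (by rw [H.card_T0, hn, pow_succ, mul_comm])

theorem le_T0_of {P : Subgroup G} (hP : IsPGroup 2 P) (hle : H.T0 ≤ P)
    (hc : ∀ g ∈ P, g * H.t = H.t * g) : P ≤ H.T0 :=
  fun _ hg => H.L.split (fun _ hQ h => (H.P₀.3 hQ h).le) hP (H.V_le.trans hle) (hle H.t_mem) hc hg

theorem card_le {P : Subgroup G} (hP : IsPGroup 2 P) (hc : ∀ g ∈ P, g * H.t = H.t * g) :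
    Nat.card P ≤ Nat.card H.T0 := by
  haveI : Fact (Nat.Prime 2) := ⟨Nat.prime_two⟩
  set C := centralizer ({H.t} : Set G)
  have hTC : H.T0 ≤ C := fun g hg => mem_centralizer_singleton_iff.2 (H.T0_comm hg)
  have hPC : P ≤ C := fun g hg => mem_centralizer_singleton_iff.2 (hc g hg)
  obtain ⟨S, hS⟩ := (hP.comap_of_injective C.subtype C.subtype_injective).exists_le_sylow
  obtain ⟨S', hS'⟩ := (H.isPGroup_T0.comap_of_injective C.subtype C.subtype_injective).exists_le_sylow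
  have hle : H.T0 ≤ (S' : Subgroup C).map C.subtype := fun g hg => ⟨⟨g, hTC hg⟩, hS' hg, rfl⟩
  have hle' := H.le_T0_of (S'.2.map _) hle (fun g ⟨g', _, hg'⟩ => hg' ▸ mem_centralizer_singleton_iff.1 g'.2)
  calc Nat.card P = Nat.card (P.subgroupOf C) := (Nat.card_congr (subgroupOfEquivOfLe hPC).toEquiv).symm
    _ ≤ Nat.card S := Nat.card_le_card_of_injective (fun x => ⟨x.1, hS x.2⟩)
        fun a b h => Subtype.ext (congrArg Subtype.val h :)
    _ = Nat.card S' := Nat.card_congr (Sylow.equiv S S').toEquiv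
    _ = Nat.card ((S' : Subgroup C).map C.subtype) := (card_map_of_injective C.subtype_injective).symm
    _ ≤ Nat.card H.T0 := Nat.le_of_dvd Nat.card_pos (card_dvd_of_le hle')

theorem t_sq_comm {g : G} (hg : g ∈ H.T0) : (H.t * g) * (H.t * g) = g * g := by
  rw [show H.t * g * (H.t * g) = H.t * (g * H.t) * g by group, H.T0_comm hg, H.tt]

/-- `z` is the only involution which is a square in `T₀`. -/
theorem sq_eq_z {g : G} (hg : g ∈ H.T0) (h : g * g * (g * g) = 1) (h1 : g * g ≠ 1) : g * g = H.z := by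
  wlog hgV : g ∈ H.L.V generalizing g
  · have e := H.t_sq_comm hg
    rw [← e] at h h1 ⊢
    exact this (mul_mem H.t_mem hg) h h1 (hg.resolve_left hgV)
  obtain ⟨x, rfl⟩ := (H.range g).1 hgV
  rw [← map_mul, z]
  refine congrArg H.ι (sq_eq_zz x (H.inj ?_) fun hx => h1 (by rw [← map_mul, hx, map_one]))
  rw [map_one, map_mul, map_mul]; exact h

theorem conj_z {w : G} (hw : ∀ g ∈ H.T0, w * g * w⁻¹ ∈ H.T0) : w * H.z * w⁻¹ = H.z := by
  have he : H.z = H.ι (r ((2 ^ H.m : ℕ) : ZMod (2 ^ (H.m + 2)))) *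
      H.ι (r ((2 ^ H.m : ℕ) : ZMod (2 ^ (H.m + 2)))) := by rw [← map_mul, ← zz_eq_sq]; rfl
  set q := H.ι (r ((2 ^ H.m : ℕ) : ZMod (2 ^ (H.m + 2))))
  have hq := hw q (H.V_le (H.ι_mem _))
  have h2 : w * q * w⁻¹ * (w * q * w⁻¹) = w * H.z * w⁻¹ := by rw [he]; group
  rw [← h2]
  refine H.sq_eq_z hq ?_ ?_
  · rw [h2, show w * H.z * w⁻¹ * (w * H.z * w⁻¹) = w * (H.z * H.z) * w⁻¹ by group, H.z_sq]; group
  · rw [h2]; exact fun h => H.z_ne (conj_eq_one_iff.1 h)

theorem central_cases {g : G} (hg : g ∈ H.T0) (hc : ∀ h ∈ H.T0, g * h = h * g) :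
    g = 1 ∨ g = H.z ∨ g = H.t ∨ g = H.t * H.z := by
  have key : ∀ v ∈ H.L.V, (∀ h ∈ H.L.V, v * h = h * v) → v = 1 ∨ v = H.z := by
    intro v hv hvc
    obtain ⟨x, rfl⟩ := (H.range v).1 hv
    rcases center_cases x (fun y => H.inj (by rw [map_mul, map_mul]; exact hvc _ (H.ι_mem y))) with h | h
    · exact Or.inl (by rw [h, map_one])
    · exact Or.inr (by rw [h]; rfl)
  rcases hg with hg | hg
  · rcases key g hg (fun h hh => hc h (H.V_le hh)) with h | h
    · exact Or.inl h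
    · exact Or.inr (Or.inl h)
  · rcases key _ hg (fun h hh => by
      rw [mul_assoc, hc h (H.V_le hh), ← mul_assoc, ← H.V_comm hh, mul_assoc]) with h | h
    · exact Or.inr (Or.inr (Or.inl (by rw [← H.tt g, h, mul_one])))
    · exact Or.inr (Or.inr (Or.inr (by rw [← H.tt g, h])))

theorem tz_ne : H.t * H.z ≠ 1 ∧ H.t * H.z ≠ H.t :=
  ⟨fun h => H.z_ne_t (by rw [← H.tt H.z, h, mul_one]), fun h => H.z_ne (mul_eq_left.1 h)⟩

/-- A normalising element outside `T₀` moves `t` to `t z`. -/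
theorem conj_t {T : Subgroup G} (hT : IsPGroup 2 T) (hle : H.T0 ≤ T) {w : G} (hwT : w ∈ T)
    (hw0 : w ∉ H.T0) (hw : w ∈ normalizer (H.T0 : Set G)) : w * H.t * w⁻¹ = H.t * H.z := by
  have hw' : ∀ g ∈ H.T0, w * g * w⁻¹ ∈ H.T0 := fun g hg => ((mem_normalizer_iff.1 hw) g).1 hg
  rcases H.central_cases (hw' _ H.t_mem) (fun h hh => by
      have h1 : w⁻¹ * h * w ∈ H.T0 := by
        refine ((mem_normalizer_iff.1 hw) _).2 ?_
        rwa [show w * (w⁻¹ * h * w) * w⁻¹ = h by group]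
      have h2 := H.T0_comm h1
      calc w * H.t * w⁻¹ * h = w * (H.t * (w⁻¹ * h * w)) * w⁻¹ := by group
        _ = h * (w * H.t * w⁻¹) := by rw [← h2]; group) with h | h | h | h
  · exact absurd (conj_eq_one_iff.1 h) H.D.t_ne
  · exact absurd (mul_left_cancel (mul_right_cancel (h.trans (H.conj_z hw').symm))) H.z_ne_t.symm
  · exfalso
    have hwc : w * H.t = H.t * w := mul_inv_eq_iff_eq_mul.1 h
    set C := centralizer ({H.t} : Set G)
    have hsup : H.T0 ⊔ zpowers w ≤ T ⊓ C := sup_le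
      (le_inf hle fun g hg => mem_centralizer_singleton_iff.2 (H.T0_comm hg))
      ((zpowers_le).2 ⟨hwT, mem_centralizer_singleton_iff.2 hwc⟩)
    have h3 := H.le_T0_of (hT.to_le (hsup.trans inf_le_left)) le_sup_left
      (fun g hg => mem_centralizer_singleton_iff.1 (hsup hg).2)
    exact hw0 (h3 (mem_sup_right (mem_zpowers w)))
  · exact h

variable [IsSimpleGroup G]

/-- `T₀` is not a Sylow subgroup. -/
theorem exists_sylow_gt (hG : ¬ IsMulCommutative G) :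
    ∃ T : Sylow 2 G, H.T0 < (T : Subgroup G) := by
  haveI : Fact (Nat.Prime 2) := ⟨Nat.prime_two⟩
  obtain ⟨T, hT⟩ := H.isPGroup_T0.exists_le_sylow
  refine ⟨T, lt_of_le_of_ne hT fun heq => ?_⟩
  obtain ⟨g, hg⟩ := exists_conj_mem_of_simple hG T (H.V_le.trans hT)
    (by rw [← heq, H.card_T0, mul_comm]) H.t_sq (hT H.t_mem)
  set d := g * H.t * g⁻¹ with hd
  have hd2 : d * d = 1 := by rw [hd, show g * H.t * g⁻¹ * (g * H.t * g⁻¹) = g * (H.t * H.t) * g⁻¹ by group, H.t_sq]; group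
  obtain ⟨c, -, hc⟩ := H.D.isConj_of_χ (u := ⟨d, H.L.le hg⟩) (v := ⟨H.z, H.L.le H.z_mem⟩) hd2 H.z_sq
    (fun h => H.D.t_ne (conj_eq_one_iff.1 h)) H.z_ne (fun h => H.L.t_notMem (h ▸ hg)) H.z_ne_t
    (by rw [H.L.χ_one _ hg, H.L.χ_one _ H.z_mem])
  have hcen : ∀ x : G, (∀ h ∈ H.T0, h * x = x * h) → x ∈ centralizer ((T : Subgroup G) : Set G) :=
    fun x hx => mem_centralizer_iff.2 fun h hh => hx h (heq ▸ hh)
  obtain ⟨n, hn, hnz⟩ := T.conj_eq_normalizer_conj_of_mem_centralizer H.t (c * g)⁻¹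
    (hcen _ fun h hh => H.T0_comm hh)
    (hcen _ fun h hh => by
      rw [inv_inv, show c * g * H.t * (c * g)⁻¹ = c * d * c⁻¹ by rw [hd]; group, hc]
      exact (H.z_comm hh).symm)
  have hn' : n ∈ normalizer (H.T0 : Set G) := by rw [heq]; exact hn
  rw [inv_inv, show c * g * H.t * (c * g)⁻¹ = c * d * c⁻¹ by rw [hd]; group, hc] at hnz
  have h1 := H.conj_z (fun g hg => ((mem_normalizer_iff.1 hn') g).1 hg)
  refine H.z_ne_t ?_
  calc H.z = n * H.z * n⁻¹ := h1.symm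
    _ = n * (n⁻¹ * H.t * n) * n⁻¹ := by rw [← hnz]
    _ = H.t := by group

theorem not_A_z (hG : ¬ IsMulCommutative G) : ¬ H.A H.z ∧ H.A (H.t * H.z) := by
  haveI : Fact (Nat.Prime 2) := ⟨Nat.prime_two⟩
  obtain ⟨T, hlt⟩ := H.exists_sylow_gt hG
  obtain ⟨w, hwT, hw0, hw⟩ := exists_normalizing T.2 hlt
  refine ⟨fun ⟨g, hg⟩ => ?_, w, H.conj_t T.2 hlt.le hwT hw0 hw⟩
  set Z := centralizer ({H.z} : Set G)
  have hwz := H.conj_z (fun g hg => ((mem_normalizer_iff.1 hw) g).1 hg)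
  have hP : H.T0 ⊔ zpowers w ≤ (T : Subgroup G) ⊓ Z := sup_le
    (le_inf hlt.le fun x hx => mem_centralizer_singleton_iff.2 (H.z_comm hx).symm)
    ((zpowers_le).2 ⟨hwT, mem_centralizer_singleton_iff.2 (mul_inv_eq_iff_eq_mul.1 hwz)⟩)
  set P := (H.T0 ⊔ zpowers w).map (MulAut.conj g⁻¹).toMonoidHom with hPdef
  have hle := H.card_le (P := P) ((T.2.to_le (hP.trans inf_le_left)).map _) (by
    rintro _ ⟨x, hx, rfl⟩
    have h1 := mem_centralizer_singleton_iff.1 (hP hx).2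
    rw [← hg] at h1
    show g⁻¹ * x * g⁻¹⁻¹ * H.t = H.t * (g⁻¹ * x * g⁻¹⁻¹)
    calc g⁻¹ * x * g⁻¹⁻¹ * H.t = g⁻¹ * (x * (g * H.t * g⁻¹)) * g := by group
      _ = _ := by rw [h1]; group)
  rw [hPdef, card_map_of_injective (MulAut.conj g⁻¹).injective] at hle
  exact hw0 ((eq_of_le_of_card_ge le_sup_left hle).ge (mem_sup_right (mem_zpowers w)))

/-- The involutions of `C(t)` conjugate to `t`. -/
theorem fusion (hG : ¬ IsMulCommutative G) {u : H.D.K} (hu : (u : G) * u = 1) (hu1 : (u : G) ≠ 1)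
    (hut : (u : G) ≠ H.t) : H.A u ↔ H.D.χ u ≠ 1 := by
  obtain ⟨hz, htz⟩ := H.not_A_z hG
  rcases z2_cases (H.D.χ u) with h | h
  · refine iff_of_false (fun hA => hz ?_) (not_not.2 h)
    obtain ⟨c, -, hc⟩ := H.D.isConj_of_χ (v := ⟨H.z, H.L.le H.z_mem⟩) hu H.z_sq hu1 H.z_ne hut H.z_ne_t
      (by rw [h, H.L.χ_one _ H.z_mem])
    have := H.A_conj hA c
    rwa [hc] at this
  · refine iff_of_true ?_ (by rw [h]; decide)
    have hK : H.t * H.z ∈ H.D.K := mul_mem H.D.t_mem (H.L.le H.z_mem)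
    have htz2 : H.t * H.z * (H.t * H.z) = 1 := by rw [H.t_sq_comm (H.V_le H.z_mem), H.z_sq]
    obtain ⟨c, -, hc⟩ := H.D.isConj_of_χ (v := ⟨H.t * H.z, hK⟩) hu htz2 hu1 H.tz_ne.1 hut H.tz_ne.2 (by
      rw [h, show (⟨H.t * H.z, hK⟩ : H.D.K) = ⟨H.t, H.D.t_mem⟩ * ⟨H.z, H.L.le H.z_mem⟩ from rfl, map_mul,
        H.D.χ_t_eq, H.L.χ_one _ H.z_mem, mul_one])
    have := H.A_conj htz c⁻¹
    rwa [show H.t * H.z = c * (u : G) * c⁻¹ from hc.symm,
      show c⁻¹ * (c * (u : G) * c⁻¹) * c⁻¹⁻¹ = (u : G) by group] at this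

theorem A_xor_t (hG : ¬ IsMulCommutative G) {u : G} (hu : u * u = 1) (hu1 : u ≠ 1) (hut : u ≠ H.t)
    (hc : u * H.t = H.t * u) : H.A u ↔ ¬ H.A (H.t * u) := by
  have hK := H.D.involution_mem hu hc
  have h2 : H.t * u * (H.t * u) = 1 := by
    rw [show H.t * u * (H.t * u) = H.t * (u * H.t) * u by group, hc, H.tt, hu]
  have hf1 := H.fusion hG (u := ⟨u, hK⟩) hu hu1 hut
  have hf2 : H.A (H.t * u) ↔ _ := H.fusion hG (u := ⟨H.t, H.D.t_mem⟩ * ⟨u, hK⟩) h2
    (fun h => hut (by rw [← H.tt u]; exact (congrArg (H.t * ·) h).trans (mul_one _)))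
    (fun h => hu1 (mul_eq_left.1 h))
  rw [hf1, hf2, map_mul, H.D.χ_t_eq, not_not]
  rcases z2_cases (H.D.χ ⟨u, hK⟩) with h | h <;> rw [h] <;> decide

/-- For `x` conjugate to `t` and an involution `u ≠ x` commuting with it, exactly one of `u`, `x u` is. -/
theorem A_xor (hG : ¬ IsMulCommutative G) {x u : G} (hx : H.A x) (hu : u * u = 1) (hu1 : u ≠ 1)
    (hux : u ≠ x) (hc : u * x = x * u) : H.A u ↔ ¬ H.A (x * u) := by
  obtain ⟨g, rfl⟩ := hx
  have hiff : ∀ v : G, H.A v ↔ H.A (g⁻¹ * v * g) := fun v => by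
    refine ⟨fun h => by simpa using H.A_conj h g⁻¹, fun h => ?_⟩
    have := H.A_conj h g
    rwa [show g * (g⁻¹ * v * g) * g⁻¹ = v by group] at this
  rw [hiff u, hiff (g * H.t * g⁻¹ * u),
    show g⁻¹ * (g * H.t * g⁻¹ * u) * g = H.t * (g⁻¹ * u * g) by group]
  refine H.A_xor_t hG ?_ ?_ ?_ ?_
  · calc g⁻¹ * u * g * (g⁻¹ * u * g) = g⁻¹ * (u * u) * g := by group
      _ = 1 := by rw [hu]; group
  · intro h
    refine hu1 ?_
    calc u = g * (g⁻¹ * u * g) * g⁻¹ := by group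
      _ = 1 := by rw [h]; group
  · intro h
    exact hux (by rw [← h]; group)
  · calc g⁻¹ * u * g * H.t = g⁻¹ * (u * (g * H.t * g⁻¹)) * g := by group
      _ = _ := by rw [hc]; group

end Dih

end Cfsg.Agent.InvolTimesPSL
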