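import Cfsg.Agent.Lib.InvolTimesPSL.CentLift
import Cfsg.Agent.Lib.InvolTimesPSL.Singer
import Cfsg.Agent.Lib.InvolTimesPSL.TopElementary

/-!
# The elementary abelian case: from `C(t)` to a `Hyp`
-/

set_option autoImplicit false
set_option linter.style.haveILetI false

namespace Cfsg.Agent.InvolTimesPSL

open Subgroup
open scoped MatrixGroups

universe u v

variable {G : Type u} [Group G] [Finite G] {F : Type v} [Field F] [Fintype F]

theorem hyp_of_singer (D : Cent G F) (P₀ : Sylow 2 PSL(2, F)) {k₀ : PSL(2, F)}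
    (S : Singer (P₀ : Subgroup PSL(2, F)) k₀) : Nonempty (Hyp G) := by
  classical
  obtain ⟨L⟩ := D.exists_lift (P₀ := (P₀ : Subgroup PSL(2, F))) P₀.2
  have hcomm : ∀ a ∈ (P₀ : Subgroup PSL(2, F)), ∀ b ∈ (P₀ : Subgroup PSL(2, F)), a * b = b * a := by
    intro a ha b hb
    have h := S.sq _ (mul_mem ha hb)
    rw [mul_eq_one_iff_eq_inv, mul_inv_rev, inv_eq_of_mul_eq_one_left (S.sq a ha),
      inv_eq_of_mul_eq_one_left (S.sq b hb)] at h
    exact h
  obtain ⟨k, hk⟩ := L.exists_normalizer hcomm S.norm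
  have hψ1 : ∀ v : D.K, (v : G) ∈ L.V → (v : G) ≠ 1 → D.ψ v ≠ 1 := fun v hv hv1 h =>
    hv1 (congrArg Subtype.val (L.eq_of_ψ (w := 1) hv (one_mem _) (by rw [h, map_one])))
  have hkj : ∀ (j : ℕ) (v : D.K), (v : G) ∈ L.V →
      ((k ^ j * v * (k ^ j)⁻¹ : D.K) : G) ∈ L.V ∧
        D.ψ (k ^ j * v * (k ^ j)⁻¹) = k₀ ^ j * D.ψ v * (k₀ ^ j)⁻¹ := by
    intro j
    induction j with
    | zero => intro v hv; simp [hv]
    | succ j ih =>
      intro v hv
      obtain ⟨h1, h2⟩ := hk _ (ih v hv).1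
      have he : k ^ (j + 1) * v * (k ^ (j + 1))⁻¹ = k * (k ^ j * v * (k ^ j)⁻¹) * k⁻¹ := by
        rw [pow_succ']; group
      rw [he]
      refine ⟨h1, ?_⟩
      rw [h2, (ih v hv).2, pow_succ']; group
  refine ⟨{
    t := D.t
    E := L.V
    t_sq := D.t_sq
    t_notMem := L.t_notMem
    sq := ?_
    comm_t := fun e he => L.comm_t he
    four := by rw [L.card_eq]; exact S.four
    k := (k : G)
    k_t := D.K_le _ k.2
    k_E := fun e he => (hk ⟨e, L.le he⟩ he).1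
    trans := ?_
    maximal := ?_
    norm := ?_ }⟩
  · intro e he
    refine congrArg Subtype.val (L.eq_of_ψ (v := (⟨e, L.le he⟩ : D.K) * ⟨e, L.le he⟩) (w := 1)
      (mul_mem he he) (one_mem _) ?_)
    rw [map_mul, map_one, S.sq _ (L.ψ_mem ⟨e, L.le he⟩ he)]
  · intro e he e' he' he1 he1'
    obtain ⟨j, hj⟩ := S.trans _ (L.ψ_mem ⟨e, L.le he⟩ he) _ (L.ψ_mem ⟨e', L.le he'⟩ he')
      (hψ1 _ he he1) (hψ1 _ he' he1')
    obtain ⟨h1, h2⟩ := hkj j ⟨e, L.le he⟩ he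
    exact ⟨j, congrArg Subtype.val (L.eq_of_ψ (w := ⟨e', L.le he'⟩) h1 he' (h2.trans hj))⟩
  · intro P hP hEP htP hc g hg
    exact L.split (fun Q hQ hle => (P₀.3 hQ hle).le) hP hEP htP hc hg
  · intro g hg hgE
    have hgV : ∀ e ∈ L.V, g * e * g⁻¹ ∈ L.V := by
      intro e he
      rcases hgE e he with h | h
      · exact h
      · exfalso
        have hx : g * e * g⁻¹ ∈ D.K := D.K_conj g hg e (L.le he)
        have h1 := L.χ_one (⟨D.t, D.t_mem⟩ * ⟨_, hx⟩) h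
        rw [map_mul, D.χ_conj g hg ⟨e, L.le he⟩ hx, L.χ_one ⟨e, L.le he⟩ he, mul_one] at h1
        exact D.χ_t h1
    refine ⟨hgV, ?_⟩
    have hb : Function.Surjective fun v : L.V => (⟨_, hgV v v.2⟩ : L.V) :=
      Finite.injective_iff_surjective.1 fun a b hab => Subtype.ext
        (mul_left_cancel (mul_right_cancel (congrArg Subtype.val hab :)))
    have hmK : g * (k : G) * g⁻¹ ∈ D.K := D.K_conj g hg _ k.2
    set m : D.K := ⟨_, hmK⟩ with hm
    have hmV : ∀ v : D.K, (v : G) ∈ L.V → ((m * v * m⁻¹ : D.K) : G) ∈ L.V := by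
      intro v hv
      obtain ⟨e, he⟩ := hb ⟨_, hv⟩
      have he' : g * (e : G) * g⁻¹ = (v : G) := congrArg Subtype.val he
      have := hgV _ ((hk ⟨e, L.le e.2⟩ e.2).1)
      show g * (k : G) * g⁻¹ * v * (g * (k : G) * g⁻¹)⁻¹ ∈ L.V
      rw [← he']
      convert this using 1
      simp only [Subgroup.coe_mul, Subgroup.coe_inv]
      group
    have hnN : D.ψ m ∈ normalizer ((P₀ : Subgroup PSL(2, F)) : Set PSL(2, F)) := by
      refine Subgroup.mem_normalizer_fintype fun p hp => ?_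
      obtain ⟨v, hv, rfl⟩ := L.ψ_surj p hp
      rw [← map_inv, ← map_mul, ← map_mul]
      exact L.ψ_mem _ (hmV v hv)
    obtain ⟨j, hj⟩ := S.gen _ hnN
    refine ⟨j, fun e he => ?_⟩
    have := L.eq_of_ψ (hmV ⟨e, L.le he⟩ he) (hkj j ⟨e, L.le he⟩ he).1 (by
      rw [map_mul, map_mul, map_inv, (hkj j ⟨e, L.le he⟩ he).2]
      exact hj _ (L.ψ_mem ⟨e, L.le he⟩ he))
    exact congrArg Subtype.val this

end Cfsg.Agent.InvolTimesPSL
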