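import Cfsg.Agent.Lib.InvolTimesPSL.Affine

/-!
# An involution with centraliser Sylow `⟨t⟩ × E`, `E` elementary: fusion in `T₀ = ⟨t⟩ × E`

`Hyp G`: `T₀` is a Sylow `2`-subgroup of `C(t)`, an element `k` of `C(t)` is transitive on `E \ 1` and the
automizer of `T₀` in `C(t)` normalises the group induced by `k`.

`fusion`: either `T₀` is a Sylow `2`-subgroup of `G`, or `N(T₀)` normalises `E`, is transitive on `tE`
and then either `C(E) ∩ N(T₀)` is transitive on `tE`, or the automizer is the exceptional group of order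
`168` with `|E| = 8`.
-/

set_option autoImplicit false
set_option linter.style.haveILetI false

namespace Cfsg.Agent.InvolTimesPSL

open Subgroup

universe u

/-- Hypothesis, see the file header. -/
structure Hyp (G : Type u) [Group G] where
  t : G
  E : Subgroup G
  t_sq : t * t = 1
  t_notMem : t ∉ E
  sq : ∀ e ∈ E, e * e = 1
  comm_t : ∀ e ∈ E, e * t = t * e
  four : 4 ≤ Nat.card E
  k : G
  k_t : k * t = t * k
  k_E : ∀ e ∈ E, k * e * k⁻¹ ∈ E
  trans : ∀ e ∈ E, ∀ e' ∈ E, e ≠ 1 → e' ≠ 1 → ∃ j : ℕ, k ^ j * e * (k ^ j)⁻¹ = e'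
  maximal : ∀ P : Subgroup G, IsPGroup 2 P → E ≤ P → t ∈ P → (∀ g ∈ P, g * t = t * g) →
    ∀ g ∈ P, g ∈ E ∨ t * g ∈ E
  norm : ∀ g : G, g * t = t * g → (∀ e ∈ E, g * e * g⁻¹ ∈ E ∨ t * (g * e * g⁻¹) ∈ E) →
    (∀ e ∈ E, g * e * g⁻¹ ∈ E) ∧
      ∃ j : ℕ, ∀ e ∈ E, (g * k * g⁻¹) * e * (g * k * g⁻¹)⁻¹ = k ^ j * e * (k ^ j)⁻¹

/-- Involutions of odd-order-free part: a `2`-group acting on an odd set fixes a point. -/
theorem odd_part {G : Type u} [Group G] [Finite G] (g : G) :
    ∃ m : ℕ, Odd m ∧ IsPGroup 2 (zpowers (g ^ m)) := by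
  obtain ⟨a, m, hm, hgm⟩ : ∃ a m : ℕ, ¬ 2 ∣ m ∧ orderOf g = 2 ^ a * m :=
    ⟨_, _, Nat.not_dvd_ordCompl Nat.prime_two (orderOf_pos g).ne',
      (Nat.ordProj_mul_ordCompl_eq_self (orderOf g) 2).symm⟩
  have hm0 : m ≠ 0 := fun h => hm (h ▸ dvd_zero 2)
  refine ⟨m, Nat.odd_iff.2 (by omega), IsPGroup.of_card (n := a) ?_⟩
  rw [Nat.card_zpowers, orderOf_pow_of_dvd hm0 (hgm ▸ Dvd.intro_left _ rfl), hgm,
    Nat.mul_div_cancel _ (Nat.pos_of_ne_zero hm0)]

namespace Hyp

variable {G : Type u} [Group G] (H : Hyp G)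

theorem t_ne_one : H.t ≠ 1 := fun h => H.t_notMem (h ▸ one_mem _)

theorem t_inv : H.t⁻¹ = H.t := inv_eq_of_mul_eq_one_left H.t_sq

theorem comm_E {a b : G} (ha : a ∈ H.E) (hb : b ∈ H.E) : a * b = b * a := by
  have h := H.sq _ (H.E.mul_mem ha hb)
  rw [mul_eq_one_iff_eq_inv, mul_inv_rev, inv_eq_of_mul_eq_one_left (H.sq a ha),
    inv_eq_of_mul_eq_one_left (H.sq b hb)] at h
  exact h

theorem inv_E {a : G} (ha : a ∈ H.E) : a⁻¹ = a := inv_eq_of_mul_eq_one_left (H.sq a ha)

theorem t_mul_t_mul (x : G) : H.t * (H.t * x) = x := by rw [← mul_assoc, H.t_sq, one_mul]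

/-- The group `T₀ = ⟨t⟩ × E`. -/
def T0 : Subgroup G where
  carrier := {g | g ∈ H.E ∨ H.t * g ∈ H.E}
  one_mem' := Or.inl (one_mem _)
  mul_mem' {a b} ha hb := by
    rcases ha with ha | ha <;> rcases hb with hb | hb
    · exact Or.inl (mul_mem ha hb)
    · right
      rw [← mul_assoc, ← H.comm_t a ha, mul_assoc]
      exact mul_mem ha hb
    · right
      rw [← mul_assoc]
      exact mul_mem ha hb
    · left
      have h : a * b = (H.t * a) * (H.t * b) := by
        calc a * b = (H.t * (H.t * a)) * b := by rw [H.t_mul_t_mul]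
          _ = (H.t * a) * H.t * b := by rw [H.comm_t _ ha]
          _ = _ := by rw [mul_assoc]
      rw [h]
      exact mul_mem ha hb
  inv_mem' {a} ha := by
    rcases ha with ha | ha
    · exact Or.inl (inv_mem ha)
    · right
      have h : H.t * a⁻¹ = (H.t * a)⁻¹ := by
        have h1 : a = H.t * (H.t * a) := (H.t_mul_t_mul a).symm
        conv_lhs => rw [h1, mul_inv_rev, H.t_inv, H.inv_E ha]
        rw [H.inv_E ha, ← mul_assoc, ← H.comm_t _ ha, mul_assoc, H.t_sq, mul_one]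
      rw [h]
      exact inv_mem ha

theorem mem_T0 {g : G} : g ∈ H.T0 ↔ g ∈ H.E ∨ H.t * g ∈ H.E := Iff.rfl

theorem t_mem : H.t ∈ H.T0 := Or.inr (by rw [H.t_sq]; exact one_mem _)

theorem E_le : H.E ≤ H.T0 := fun _ h => Or.inl h

theorem comm_t' {g : G} (hg : g ∈ H.T0) : g * H.t = H.t * g := by
  rcases hg with hg | hg
  · exact H.comm_t g hg
  · have := H.comm_t _ hg
    rw [mul_assoc] at this
    exact mul_left_cancel this

theorem comm_T0 {a b : G} (ha : a ∈ H.T0) (hb : b ∈ H.T0) : a * b = b * a := by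
  have hat := H.comm_t' ha
  rcases hb with hb | hb
  · rcases ha with ha | ha
    · exact H.comm_E ha hb
    · have h := H.comm_E ha hb
      rw [mul_assoc, ← mul_assoc b, H.comm_t b hb, mul_assoc] at h
      exact mul_left_cancel h
  · rcases ha with ha | ha
    · have h := H.comm_E ha hb
      rw [← mul_assoc, hat, mul_assoc, mul_assoc] at h
      exact mul_left_cancel h
    · have h := H.comm_E ha hb
      calc a * b = (H.t * a) * (H.t * b) := by
            rw [← hat, mul_assoc, H.t_mul_t_mul]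
        _ = (H.t * b) * (H.t * a) := h
        _ = b * a := by
            rw [← H.comm_t' (Or.inr hb : b ∈ H.T0), mul_assoc, H.t_mul_t_mul]

theorem sq_T0 {a : G} (ha : a ∈ H.T0) : a * a = 1 := by
  rcases ha with ha | ha
  · exact H.sq a ha
  · calc a * a = a * H.t * (H.t * a) := by rw [mul_assoc, H.t_mul_t_mul]
      _ = (H.t * a) * (H.t * a) := by rw [H.comm_t' (Or.inr ha : a ∈ H.T0)]
      _ = 1 := H.sq _ ha

theorem isPGroup_T0 : IsPGroup 2 H.T0 := fun g => ⟨1, Subtype.ext (by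
  rw [SubmonoidClass.coe_pow, OneMemClass.coe_one, pow_one, pow_two]; exact H.sq_T0 g.2)⟩

theorem tE_mem {e : G} (he : e ∈ H.E) : H.t * e ∈ H.T0 := mul_mem H.t_mem (H.E_le he)

theorem tE_notMem {e : G} (he : e ∈ H.E) : H.t * e ∉ H.E := fun h => H.t_notMem (by
  have := mul_mem h (inv_mem he)
  rwa [mul_inv_cancel_right] at this)

theorem k_pow_E (j : ℕ) {e : G} (he : e ∈ H.E) : H.k ^ j * e * (H.k ^ j)⁻¹ ∈ H.E := by
  induction j with
  | zero => simpa using he
  | succ j ih =>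
    have := H.k_E _ ih
    rw [show H.k * (H.k ^ j * e * (H.k ^ j)⁻¹) * H.k⁻¹ = H.k ^ (j + 1) * e * (H.k ^ (j + 1))⁻¹ by
      rw [pow_succ']; group] at this
    exact this

variable [Finite G]

theorem k_fpf {e : G} (he : e ∈ H.E) (h : H.k * e * H.k⁻¹ = e) : e = 1 := by
  by_contra he1
  have hall : ∀ x : H.E, (x : G) = 1 ∨ (x : G) = e := by
    intro x
    by_cases hx : (x : G) = 1
    · exact Or.inl hx
    · obtain ⟨j, hj⟩ := H.trans e he x x.2 he1 hx
      right
      rw [← hj]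
      clear hj
      induction j with
      | zero => simp
      | succ j ih =>
        rw [pow_succ', show H.k * H.k ^ j * e * (H.k * H.k ^ j)⁻¹ =
          H.k * (H.k ^ j * e * (H.k ^ j)⁻¹) * H.k⁻¹ by group, ih, h]
  classical
  have := Nat.card_le_card_of_injective (β := Bool) (fun x : H.E => decide ((x : G) = 1))
    fun a b hab => by
      apply Subtype.ext
      rcases hall a with h1 | h1 <;> rcases hall b with h2 | h2 <;> simp [h1, h2, he1] at hab ⊢
  have := H.four
  simp at *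
  omega

theorem card_T0 : Nat.card H.T0 = 2 * Nat.card H.E := by
  classical
  rw [two_mul, ← Nat.card_sum]
  refine Nat.card_eq_of_bijective (fun g : H.T0 =>
    if h : (g : G) ∈ H.E then Sum.inl ⟨_, h⟩ else Sum.inr ⟨_, g.2.resolve_left h⟩) ⟨?_, ?_⟩
  · intro a b hab
    dsimp only at hab
    split_ifs at hab with ha hb hb <;>
      simp only [Sum.inl.injEq, Sum.inr.injEq, Subtype.mk.injEq, mul_right_inj] at hab <;>
      exact Subtype.ext hab
  · rintro (⟨e, he⟩ | ⟨e, he⟩)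
    · exact ⟨⟨e, H.E_le he⟩, dif_pos he⟩
    · exact ⟨⟨H.t * e, H.tE_mem he⟩, (dif_neg (H.tE_notMem he)).trans
        (congrArg Sum.inr (Subtype.ext (H.t_mul_t_mul e)))⟩

/-- A `2`-subgroup centralising `t` and containing `T₀` is `T₀`. -/
theorem le_T0 {P : Subgroup G} (hP : IsPGroup 2 P) (hle : H.T0 ≤ P) (hc : ∀ g ∈ P, g * H.t = H.t * g) :
    P ≤ H.T0 :=
  fun g hg => H.maximal P hP (H.E_le.trans hle) (hle H.t_mem) hc g hg

/-- `T₀` as a Sylow subgroup of `C(t)`. -/
theorem card_le {P : Subgroup G} (hP : IsPGroup 2 P) (hc : ∀ g ∈ P, g * H.t = H.t * g) :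
    Nat.card P ≤ 2 * Nat.card H.E := by
  haveI : Fact (Nat.Prime 2) := ⟨Nat.prime_two⟩
  set C := centralizer ({H.t} : Set G) with hC
  have hTC : H.T0 ≤ C := fun g hg => mem_centralizer_singleton_iff.2 (H.comm_t' hg)
  have hPC : P ≤ C := fun g hg => mem_centralizer_singleton_iff.2 (hc g hg)
  obtain ⟨S, hS⟩ := (hP.comap_of_injective C.subtype C.subtype_injective).exists_le_sylow
  obtain ⟨S', hS'⟩ := (H.isPGroup_T0.comap_of_injective C.subtype C.subtype_injective).exists_le_sylow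
  have hle : H.T0 ≤ (S' : Subgroup C).map C.subtype := fun g hg => ⟨⟨g, hTC hg⟩, hS' hg, rfl⟩
  have hle' := H.le_T0 (S'.2.map _) hle (fun g ⟨g', _, hg'⟩ => hg' ▸ mem_centralizer_singleton_iff.1 g'.2)
  calc Nat.card P = Nat.card (P.subgroupOf C) := (Nat.card_congr (subgroupOfEquivOfLe hPC).toEquiv).symm
    _ ≤ Nat.card S := Nat.card_le_card_of_injective (fun x => ⟨x.1, hS x.2⟩)
        fun a b h => Subtype.ext (congrArg Subtype.val h :)
    _ = Nat.card S' := Nat.card_congr (Sylow.equiv S S').toEquiv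
    _ = Nat.card ((S' : Subgroup C).map C.subtype) := (card_map_of_injective C.subtype_injective).symm
    _ ≤ Nat.card H.T0 := Nat.le_of_dvd Nat.card_pos (card_dvd_of_le hle')
    _ = _ := H.card_T0

/-- The normaliser of `T₀`. -/
abbrev N : Subgroup G := normalizer (H.T0 : Set G)

theorem N_conj {g : G} (hg : g ∈ H.N) {x : G} (hx : x ∈ H.T0) : g * x * g⁻¹ ∈ H.T0 :=
  ((mem_normalizer_iff.1 hg) x).1 hx

theorem T0_le_N : H.T0 ≤ H.N := le_normalizer

theorem k_mem_N : H.k ∈ H.N := by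
  refine mem_normalizer_iff.2 fun x => ?_
  have hcl : ∀ x ∈ H.T0, H.k * x * H.k⁻¹ ∈ H.T0 := by
    rintro x (hx | hx)
    · exact Or.inl (H.k_E x hx)
    · right
      have := H.k_E _ hx
      rwa [show H.k * (H.t * x) * H.k⁻¹ = (H.k * H.t) * x * H.k⁻¹ by group, H.k_t,
        show H.t * H.k * x * H.k⁻¹ = H.t * (H.k * x * H.k⁻¹) by group] at this
  refine ⟨hcl x, fun hx => ?_⟩
  have hb : Function.Bijective (fun y : H.T0 => (⟨_, hcl y y.2⟩ : H.T0)) :=
    Finite.injective_iff_bijective.1 fun a b hab => Subtype.ext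
      (mul_left_cancel (mul_right_cancel (congrArg Subtype.val hab :)))
  obtain ⟨y, hy⟩ := hb.2 ⟨_, hx⟩
  have : (y : G) = x := mul_left_cancel (mul_right_cancel (congrArg Subtype.val hy :))
  exact this ▸ y.2

theorem norm_E {g : G} (hg : g ∈ H.N) (hgt : g * H.t = H.t * g) {e : G} (he : e ∈ H.E) :
    g * e * g⁻¹ ∈ H.E :=
  (H.norm g hgt fun e he => H.N_conj hg (H.E_le he)).1 e he

/-- A `2`-element of `N(T₀)` centralising `t` lies in `T₀`. -/
theorem two_elt {g : G} (hg : g ∈ H.N) (h2 : IsPGroup 2 (zpowers g)) (hgt : g * H.t = H.t * g) :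
    g ∈ H.T0 := by
  have hle : zpowers g ≤ H.N := zpowers_le.2 hg
  have hP : IsPGroup 2 ↥(H.T0 ⊔ zpowers g) := H.isPGroup_T0.to_sup_of_normal_left' h2 hle
  refine H.le_T0 hP le_sup_left ?_ (mem_sup_right (mem_zpowers g))
  have hc : H.T0 ⊔ zpowers g ≤ centralizer ({H.t} : Set G) := sup_le
    (fun x hx => mem_centralizer_singleton_iff.2 (H.comm_t' hx))
    (zpowers_le.2 (mem_centralizer_singleton_iff.2 hgt))
  exact fun x hx => mem_centralizer_singleton_iff.1 (hc hx)

/-- The conjugate of an element of `tE`. -/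
theorem conj_two_elt {w : G} (hw : w ∈ H.N) (h2 : IsPGroup 2 (zpowers w)) {g : G} (hg : g ∈ H.N)
    (h : w * (g * H.t * g⁻¹) * w⁻¹ = g * H.t * g⁻¹) : w ∈ H.T0 := by
  have hm : g⁻¹ * w * g ∈ H.T0 := by
    refine H.two_elt (mul_mem (mul_mem (inv_mem hg) hw) hg) ?_ ?_
    · have hz : zpowers (g⁻¹ * w * g) = (zpowers w).map (MulAut.conj g⁻¹).toMonoidHom := by
        rw [MonoidHom.map_zpowers]
        simp [MulAut.conj_apply]
      rw [hz]
      exact h2.map _
    · calc g⁻¹ * w * g * H.t = g⁻¹ * (w * (g * H.t * g⁻¹) * w⁻¹) * w * g := by group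
        _ = g⁻¹ * (g * H.t * g⁻¹) * w * g := by rw [h]
        _ = _ := by group
  have := H.N_conj hg hm
  rwa [show g * (g⁻¹ * w * g) * g⁻¹ = w by group] at this

/-- `N(T₀)` normalises `E` and is transitive on `tE`. -/
structure Fused : Prop where
  normE : ∀ g ∈ H.N, ∀ e ∈ H.E, g * e * g⁻¹ ∈ H.E
  conj : ∀ g ∈ H.N, H.t * (g * H.t * g⁻¹) ∈ H.E
  transT : ∀ e ∈ H.E, ∃ g ∈ H.N, g * H.t * g⁻¹ = H.t * e

theorem fused_of_lt {S : Subgroup G} (hS : IsPGroup 2 S) (hlt : H.T0 < S) : H.Fused := by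
  classical
  haveI : Fact (Nat.Prime 2) := ⟨Nat.prime_two⟩
  obtain ⟨w, hwS, hwN, hwT⟩ : ∃ w ∈ S, w ∈ H.N ∧ w ∉ H.T0 := by
    haveI := hS.isNilpotent
    have hne : H.T0.subgroupOf S < ⊤ := lt_top_iff_ne_top.2 fun h =>
      not_le_of_gt hlt (subgroupOf_eq_top.1 h)
    obtain ⟨w, hw, hwn⟩ := SetLike.exists_of_lt (Group.normalizerCondition_of_isNilpotent _ hne)
    refine ⟨w, w.2, ?_, fun h => hwn h⟩
    refine mem_normalizer_iff.2 fun x => ⟨fun hx => ?_, fun hx => ?_⟩
    · exact ((mem_normalizer_iff.1 hw) ⟨x, hlt.le hx⟩).1 hx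
    · have hxS : x ∈ S := by
        have := mul_mem (mul_mem (inv_mem w.2) (hlt.le hx)) w.2
        rwa [show (w : G)⁻¹ * ((w : G) * x * (w : G)⁻¹) * w = x by group] at this
      exact ((mem_normalizer_iff.1 hw) ⟨x, hxS⟩).2 hx
  have hw2 : IsPGroup 2 (zpowers w) := hS.to_le (zpowers_le.2 hwS)
  let O : Set G := {x | ∃ g ∈ H.N, g * H.t * g⁻¹ = x}
  have htO : H.t ∈ O := ⟨1, one_mem _, by simp⟩
  have hO : ∀ g ∈ H.N, ∀ x ∈ O, g * x * g⁻¹ ∈ O := by
    rintro g hg x ⟨g', hg', rfl⟩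
    exact ⟨g * g', mul_mem hg hg', by group⟩
  have hOT : ∀ x ∈ O, x ∈ H.T0 ∧ x ≠ 1 := by
    rintro x ⟨g, hg, rfl⟩
    exact ⟨H.N_conj hg H.t_mem, fun h => H.t_ne_one (conj_eq_one_iff.1 h)⟩
  have hkE : ∀ e ∈ H.E, ∀ e' ∈ H.E, e ≠ 1 → e' ≠ 1 → e ∈ O → e' ∈ O := by
    intro e he e' he' h1 h1' h
    obtain ⟨j, hj⟩ := H.trans e he e' he' h1 h1'
    rw [← hj]
    exact hO _ (pow_mem H.k_mem_N j) e h
  have hktE : ∀ e ∈ H.E, ∀ e' ∈ H.E, e ≠ 1 → e' ≠ 1 → H.t * e ∈ O → H.t * e' ∈ O := by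
    intro e he e' he' h1 h1' h
    obtain ⟨j, hj⟩ := H.trans e he e' he' h1 h1'
    have hc : H.k ^ j * H.t = H.t * H.k ^ j := (Commute.pow_left H.k_t j).eq
    have := hO _ (pow_mem H.k_mem_N j) _ h
    rwa [show H.k ^ j * (H.t * e) * (H.k ^ j)⁻¹ = (H.k ^ j * H.t) * e * (H.k ^ j)⁻¹ by group, hc,
      show H.t * H.k ^ j * e * (H.k ^ j)⁻¹ = H.t * (H.k ^ j * e * (H.k ^ j)⁻¹) by group, hj] at this
  -- `O` is not all of `T₀ \ 1`
  have hnall : ¬ ∀ x ∈ H.T0, x ≠ 1 → x ∈ O := by
    intro hall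
    haveI := Fintype.ofFinite H.T0
    have hcard : ¬ 2 ∣ Nat.card {x : H.T0 // x ≠ 1} := by
      rw [Nat.card_eq_fintype_card, Fintype.card_subtype_compl, Fintype.card_subtype_eq,
        ← Nat.card_eq_fintype_card, H.card_T0]
      have := H.four
      omega
    let : MulAction (zpowers w) {x : H.T0 // x ≠ 1} :=
      { smul := fun v x => ⟨⟨(v : G) * (x.1 : G) * (v : G)⁻¹,
            H.N_conj (zpowers_le.2 hwN v.2) x.1.2⟩, fun h => x.2 (Subtype.ext
            (conj_eq_one_iff.1 (congrArg Subtype.val h :)))⟩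
        one_smul := fun x => Subtype.ext (Subtype.ext (by
          show ((1 : zpowers w) : G) * (x.1 : G) * ((1 : zpowers w) : G)⁻¹ = x.1
          simp))
        mul_smul := fun v v' x => Subtype.ext (Subtype.ext (by
          show ((v * v' : zpowers w) : G) * (x.1 : G) * ((v * v' : zpowers w) : G)⁻¹ =
            (v : G) * ((v' : G) * (x.1 : G) * (v' : G)⁻¹) * (v : G)⁻¹
          rw [Subgroup.coe_mul]; group)) }
    obtain ⟨x, hx⟩ := hw2.nonempty_fixed_point_of_prime_not_dvd_card _ hcard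
    obtain ⟨g, hg, hgx⟩ := hall (x.1 : G) x.1.2 fun h => x.2 (Subtype.ext h)
    have h1 : w * (x.1 : G) * w⁻¹ = (x.1 : G) :=
      congrArg (fun z : {x : H.T0 // x ≠ 1} => (z.1 : G)) (hx ⟨w, mem_zpowers w⟩)
    rw [← hgx] at h1
    exact hwT (H.conj_two_elt hwN hw2 hg h1)
  obtain ⟨a, haE, ha1⟩ : ∃ a ∈ H.E, a ≠ 1 := by
    by_contra hcon
    push Not at hcon
    have h := H.four
    rw [(eq_bot_iff_forall _).2 hcon, card_bot] at h
    omega
  have hnoE : ∀ e ∈ H.E, e ∉ O := by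
    intro e he heO
    have he1 := (hOT e heO).2
    have hnotE : ∀ f ∈ H.E, f ≠ 1 → H.t * f ∉ O := by
      intro f hf hf1 hfO
      refine hnall fun x hx hx1 => ?_
      rcases hx with hx | hx
      · exact hkE e he x hx he1 hx1 heO
      · by_cases h1 : H.t * x = 1
        · rw [mul_eq_one_iff_inv_eq, H.t_inv] at h1
          exact h1 ▸ htO
        · have := hktE f hf _ hx hf1 h1 hfO
          rwa [H.t_mul_t_mul] at this
    obtain ⟨g, hg, hge⟩ := heO
    obtain ⟨e', he', he'1, he'e⟩ : ∃ e' ∈ H.E, e' ≠ 1 ∧ e' ≠ e := by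
      by_contra hcon
      push Not at hcon
      have h := H.four
      have := Nat.card_le_card_of_injective (β := Bool) (fun x : H.E => decide ((x : G) = 1))
        fun a b hab => by
          apply Subtype.ext
          by_cases h1 : (a : G) = 1 <;> by_cases h2 : (b : G) = 1 <;> simp [h1, h2] at hab ⊢
          exact Subtype.ext ((hcon a a.2 h1).trans (hcon b b.2 h2).symm)
      simp at this
      omega
    have hback : ∀ f ∈ H.E, f ≠ 1 → f ≠ e → g⁻¹ * f * g ∈ H.E := by
      intro f hf hf1 hfe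
      have hfO : g⁻¹ * f * g ∈ O := by
        have := hO _ (inv_mem hg) f (hkE e he f hf he1 hf1 ⟨g, hg, hge⟩)
        rwa [inv_inv] at this
      rcases (hOT _ hfO).1 with h | h
      · exact h
      · by_cases h1 : H.t * (g⁻¹ * f * g) = 1
        · rw [mul_eq_one_iff_inv_eq, H.t_inv] at h1
          exact absurd (by rw [← hge, h1]; group) hfe.symm
        · have := hnotE _ h h1
          rw [H.t_mul_t_mul] at this
          exact absurd hfO this
    have hee : e' * e ≠ 1 := fun h => he'e (by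
      rw [mul_eq_one_iff_eq_inv, H.inv_E he] at h; exact h)
    have hee' : e' * e ≠ e := fun h => he'1 (mul_eq_right.1 h)
    have h2 := mul_mem (hback e' he' he'1 he'e) (hback _ (mul_mem he' he) hee hee')
    refine H.t_notMem ?_
    rwa [show g⁻¹ * e' * g * (g⁻¹ * (e' * e) * g) = g⁻¹ * ((e' * e') * e) * g by group, H.sq e' he',
      one_mul, show g⁻¹ * e * g = H.t by rw [← hge]; group] at h2
  have hyes : ∀ e ∈ H.E, H.t * e ∈ O := by
    intro e he
    by_cases he1 : e = 1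
    · rw [he1, mul_one]; exact htO
    have h1 : H.t * (w * H.t * w⁻¹) ∈ H.E := by
      rcases H.N_conj hwN H.t_mem with h | h
      · exact absurd ⟨w, hwN, rfl⟩ (hnoE _ h)
      · exact h
    refine hktE _ h1 e he (fun h => hwT ?_) he1 ?_
    · refine H.two_elt hwN hw2 ?_
      rw [mul_eq_one_iff_inv_eq, H.t_inv] at h
      exact mul_inv_eq_iff_eq_mul.1 h.symm
    · rw [H.t_mul_t_mul]; exact ⟨w, hwN, rfl⟩
  refine ⟨fun g hg e he => ?_, fun g hg => ?_, fun e he => hyes e he⟩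
  · rcases H.N_conj hg (H.E_le he) with h | h
    · exact h
    · obtain ⟨g', hg', hgg⟩ := hyes _ h
      rw [H.t_mul_t_mul] at hgg
      exact absurd ⟨g⁻¹ * g', mul_mem (inv_mem hg) hg', by
        calc g⁻¹ * g' * H.t * (g⁻¹ * g')⁻¹ = g⁻¹ * (g' * H.t * g'⁻¹) * g := by group
          _ = e := by rw [hgg]; group⟩ (hnoE e he)
  · exact (H.N_conj hg H.t_mem).resolve_left fun h => hnoE _ h ⟨g, hg, rfl⟩

/-! ### The affine data -/

/-- The automizer of `T₀`. -/
def autHom : H.N →* MulAut H.T0 where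
  toFun g :=
    { toFun := fun x => ⟨g * x * (g : G)⁻¹, H.N_conj g.2 x.2⟩
      invFun := fun x => ⟨(g : G)⁻¹ * x * g, by
        have := H.N_conj (inv_mem g.2) x.2; rwa [inv_inv] at this⟩
      left_inv := fun x => Subtype.ext (by
        show (g : G)⁻¹ * ((g : G) * x * (g : G)⁻¹) * g = x
        group)
      right_inv := fun x => Subtype.ext (by
        show (g : G) * ((g : G)⁻¹ * x * g) * (g : G)⁻¹ = x
        group)
      map_mul' := fun x y => Subtype.ext (by
        show (g : G) * (x * y) * (g : G)⁻¹ = (g : G) * x * (g : G)⁻¹ * ((g : G) * y * (g : G)⁻¹)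
        group) }
  map_one' := by
    ext x
    show ((1 : H.N) : G) * (x : G) * ((1 : H.N) : G)⁻¹ = x
    simp
  map_mul' g g' := by
    ext x
    show ((g * g' : H.N) : G) * (x : G) * ((g * g' : H.N) : G)⁻¹ =
      (g : G) * ((g' : G) * (x : G) * (g' : G)⁻¹) * (g : G)⁻¹
    rw [Subgroup.coe_mul]; group

theorem autHom_apply (g : H.N) (x : H.T0) : ((H.autHom g x : H.T0) : G) = g * x * (g : G)⁻¹ := rfl

theorem autHom_eq_one {g : H.N} :
    H.autHom g = 1 ↔ ∀ x ∈ H.T0, (g : G) * x * (g : G)⁻¹ = x := by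
  constructor
  · intro h x hx
    have := congrArg (fun f : MulAut H.T0 => ((f ⟨x, hx⟩ : H.T0) : G)) h
    exact this
  · intro h
    ext x
    exact h x x.2

/-- The exceptional automizer. -/
structure ExcAut : Prop where
  cardE : Nat.card H.E = 8
  faith : ∀ g ∈ H.N, (∀ e ∈ H.E, g * e * g⁻¹ = e) → ∀ x ∈ H.T0, g * x * g⁻¹ = x
  cent : ∀ x : H.autHom.range, x * x = 1 → x ≠ 1 → Nat.card (centralizer ({x} : Set H.autHom.range)) = 8
  sylow : ∀ P : Sylow 2 H.autHom.range, Nat.card (P : Subgroup H.autHom.range) = 8 ∧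
    ∃ a ∈ (P : Subgroup H.autHom.range), ∃ b ∈ (P : Subgroup H.autHom.range),
      a * a = 1 ∧ b * b = 1 ∧ (a * b) ^ 2 ≠ 1 ∧ (a * b) ^ 4 = 1 ∧
        (P : Subgroup H.autHom.range) ≤ closure {a, b}

theorem aut_cases (hF : H.Fused) :
    (∀ e ∈ H.E, ∃ g ∈ H.N, (∀ x ∈ H.E, g * x * g⁻¹ = x) ∧ g * H.t * g⁻¹ = H.t * e) ∨ H.ExcAut := by
  classical
  let : CommGroup H.E :=
    { (inferInstance : Group H.E) with mul_comm := fun a b => Subtype.ext (H.comm_E a.2 b.2) }
  let X := H.autHom.range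
  have hXE : ∀ x : X, ∀ e : H.E, ((x : MulAut H.T0) ⟨e, H.E_le e.2⟩ : G) ∈ H.E := by
    rintro ⟨x, g, rfl⟩ e
    exact hF.normE g g.2 e e.2
  let : DistribMulAction X (Additive H.E) :=
    { smul := fun x e => Additive.ofMul ⟨_, hXE x (Additive.toMul e)⟩
      one_smul := fun e => Additive.toMul.injective (Subtype.ext rfl)
      mul_smul := fun x y e => Additive.toMul.injective (Subtype.ext rfl)
      smul_zero := fun x => Additive.toMul.injective (Subtype.ext (by
        show (((x : MulAut H.T0) ⟨((1 : H.E) : G), _⟩ : H.T0) : G) = 1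
        rw [show (⟨((1 : H.E) : G), H.E_le (1 : H.E).2⟩ : H.T0) = 1 from Subtype.ext rfl, map_one]
        rfl))
      smul_add := fun x a b => Additive.toMul.injective (Subtype.ext (by
        show (((x : MulAut H.T0) ⟨((Additive.toMul a * Additive.toMul b : H.E) : G), _⟩ : H.T0) : G) = _
        rw [show (⟨((Additive.toMul a * Additive.toMul b : H.E) : G),
          H.E_le (Additive.toMul a * Additive.toMul b : H.E).2⟩ : H.T0) =
          ⟨_, H.E_le (Additive.toMul a).2⟩ * ⟨_, H.E_le (Additive.toMul b).2⟩ from Subtype.ext rfl,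
          map_mul]
        rfl)) }
  have hδ : ∀ x : X, H.t * ((x : MulAut H.T0) ⟨H.t, H.t_mem⟩ : G) ∈ H.E := by
    rintro ⟨x, g, rfl⟩
    exact hF.conj g g.2
  let π : H.N →* X := H.autHom.rangeRestrict
  have hπ : Function.Surjective π := H.autHom.rangeRestrict_surjective
  have hsmul : ∀ (g : H.N) (e : Additive H.E),
      ((Additive.toMul (((π g) : X) • e) : H.E) : G) =
        g * ((Additive.toMul e : H.E) : G) * (g : G)⁻¹ := fun g e => rfl
  let δ : X → Additive H.E := fun x => Additive.ofMul ⟨_, hδ x⟩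
  have hδ0 : ∀ g : H.N, δ (π g) = 0 ↔ (g : G) * H.t = H.t * g := by
    intro g
    rw [← mul_inv_eq_iff_eq_mul]
    constructor
    · intro h
      have h1 : H.t * ((g : G) * H.t * (g : G)⁻¹) = 1 :=
        congrArg (fun z => ((Additive.toMul z : H.E) : G)) h
      rw [mul_eq_one_iff_inv_eq, H.t_inv] at h1
      exact h1.symm
    · intro h
      refine Additive.toMul.injective (Subtype.ext ?_)
      show H.t * ((g : G) * H.t * (g : G)⁻¹) = 1
      rw [h, H.t_sq]
  let A : Aff X (Additive H.E) :=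
    { δ := δ
      δ_mul := by
        intro x y
        obtain ⟨g, rfl⟩ := hπ x
        obtain ⟨g', rfl⟩ := hπ y
        rw [← map_mul]
        refine Additive.toMul.injective (Subtype.ext ?_)
        show H.t * (((g * g' : H.N) : G) * H.t * ((g * g' : H.N) : G)⁻¹) =
          (H.t * ((g : G) * H.t * (g : G)⁻¹)) *
            ((g : G) * (H.t * ((g' : G) * H.t * (g' : G)⁻¹)) * (g : G)⁻¹)
        rw [Subgroup.coe_mul]
        calc H.t * ((g : G) * g' * H.t * ((g : G) * g')⁻¹)
            = H.t * ((g : G) * (H.t * H.t) * ((g' : G) * H.t * (g' : G)⁻¹) * (g : G)⁻¹) := by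
              rw [H.t_sq]; group
          _ = _ := by group
      two := fun e => Additive.toMul.injective (Subtype.ext (H.sq _ (Additive.toMul e).2))
      surj := fun e => by
        obtain ⟨g, hg, hge⟩ := hF.transT _ (Additive.toMul e).2
        refine ⟨π ⟨g, hg⟩, Additive.toMul.injective (Subtype.ext ?_)⟩
        show H.t * (g * H.t * g⁻¹) = ((Additive.toMul e : H.E) : G)
        rw [hge, H.t_mul_t_mul]
      faith := by
        intro x h1 h2
        obtain ⟨g, rfl⟩ := hπ x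
        refine Subtype.ext (H.autHom_eq_one.2 fun x hx => ?_)
        have ht := mul_inv_eq_iff_eq_mul.2 ((hδ0 g).1 h2)
        have hE : ∀ e ∈ H.E, (g : G) * e * (g : G)⁻¹ = e := fun e he =>
          congrArg (fun z => ((Additive.toMul z : H.E) : G)) (h1 (Additive.ofMul ⟨e, he⟩))
        rcases hx with hx | hx
        · exact hE x hx
        · calc (g : G) * x * (g : G)⁻¹ = (g : G) * (H.t * (H.t * x)) * (g : G)⁻¹ := by rw [H.t_mul_t_mul]
            _ = ((g : G) * H.t * (g : G)⁻¹) * ((g : G) * (H.t * x) * (g : G)⁻¹) := by group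
            _ = x := by rw [ht, hE _ hx, H.t_mul_t_mul]
      k := (π ⟨H.k, H.k_mem_N⟩)
      δ_k := (hδ0 _).2 H.k_t
      trans := fun e e' he he' => by
        obtain ⟨j, hj⟩ := H.trans _ (Additive.toMul e).2 _ (Additive.toMul e').2
          (fun h => he (Additive.toMul.injective (Subtype.ext h)))
          (fun h => he' (Additive.toMul.injective (Subtype.ext h)))
        refine ⟨j, ?_⟩
        rw [← map_pow]
        exact Additive.toMul.injective (Subtype.ext ((hsmul _ e).trans (by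
          rw [SubmonoidClass.coe_pow]; exact hj)))
      norm := by
        intro x h
        obtain ⟨g, rfl⟩ := hπ x
        obtain ⟨-, j, hj⟩ := H.norm g ((hδ0 g).1 h) fun e he => H.N_conj g.2 (H.E_le he)
        refine ⟨j, fun e => ?_⟩
        rw [← map_pow, ← map_inv, ← map_mul, ← map_mul]
        exact Additive.toMul.injective (Subtype.ext ((hsmul _ e).trans ((hj _ (Additive.toMul e).2).trans
          ((hsmul _ e).trans (by rw [SubmonoidClass.coe_pow])).symm)))
      odd := by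
        intro x h
        obtain ⟨g, rfl⟩ := hπ x
        obtain ⟨m, hm, hP⟩ := odd_part (g : G)
        have hmem : (g : G) ^ m ∈ H.T0 :=
          H.two_elt (pow_mem g.2 m) hP ((Commute.pow_left ((hδ0 g).1 h) m).eq)
        have h1 : ((π g) : X) ^ m = 1 := Subtype.ext (by
          rw [SubmonoidClass.coe_pow, OneMemClass.coe_one, show ((π g : X) : MulAut H.T0) = H.autHom g from rfl, ← map_pow]
          refine H.autHom_eq_one.2 fun x hx => ?_
          rw [SubmonoidClass.coe_pow, H.comm_T0 hmem hx, mul_inv_cancel_right])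
        exact hm.of_dvd_nat (orderOf_dvd_of_pow_eq_one h1) }
  haveI : Finite (Additive H.E) := inferInstanceAs (Finite H.E)
  have hcardE : Nat.card (Additive H.E) = Nat.card H.E := Nat.card_congr Additive.toMul
  rcases A.cases (by rw [hcardE]; have := H.four; omega) with h | h
  · left
    intro e he
    obtain ⟨x, hg, hge⟩ := h (Additive.ofMul ⟨e, he⟩)
    obtain ⟨g, rfl⟩ := hπ x
    refine ⟨g, g.2, fun z hz => congrArg (fun w => ((Additive.toMul w : H.E) : G))
      (hg (Additive.ofMul ⟨z, hz⟩)), ?_⟩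
    have h1 : H.t * ((g : G) * H.t * (g : G)⁻¹) = e :=
      congrArg (fun w => ((Additive.toMul w : H.E) : G)) hge
    rw [← h1, H.t_mul_t_mul]
  · right
    refine ⟨hcardE ▸ h.cardE, fun g hg hge x hx => ?_, h.cent, h.sylow⟩
    have h1 := h.inj (π ⟨g, hg⟩) fun e =>
      Additive.toMul.injective (Subtype.ext ((hsmul _ e).trans (hge _ (Additive.toMul e).2)))
    exact H.autHom_eq_one.1 (congrArg Subtype.val h1) x hx

end Hyp

end Cfsg.Agent.InvolTimesPSL
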