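import Mathlib

/-!
# The normaliser of a Singer cycle is semilinear

A group `X` acts on a finite elementary abelian `2`-group `E`, the powers of `k` being transitive on
`E \ {0}`.  The endomorphisms of `E` generated by `k` form a field with underlying group `E`; elements
fixing a point `e₀ ≠ 0` and sending `k` to a power of itself act as field automorphisms.
-/

set_option autoImplicit false
set_option linter.style.haveILetI false
set_option linter.deprecated false

namespace Cfsg.Agent.InvolTimesPSL

open Subgroup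

section FieldAut

variable (R : Type*) [Field R] [Finite R] [CharP R 2]

/-- The automorphism group of a finite field of characteristic two is cyclic. -/
theorem isCyclic_ringAut : IsCyclic (R ≃+* R) := by
  let alg : Algebra (ZMod 2) R := ZMod.algebra R 2
  let e : Gal(R/ZMod 2) ≃* (R ≃+* R) :=
    { toFun := fun x => x.toRingEquiv
      invFun := fun x => AlgEquiv.ofRingEquiv (f := x) (fun r =>
        DFunLike.congr_fun (RingHom.ext_zmod (x.toRingHom.comp (algebraMap (ZMod 2) R))
          (algebraMap (ZMod 2) R)) r)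
      left_inv := fun x => AlgEquiv.ext fun _ => rfl
      right_inv := fun x => RingEquiv.ext fun _ => rfl
      map_mul' := fun x y => RingEquiv.ext fun _ => rfl }
  exact isCyclic_of_surjective e.toMonoidHom e.surjective

omit [CharP R 2] in
/-- Artin: `|R|` is the `orderOf σ`-th power of the number of fixed points of `σ`. -/
theorem card_eq_fixed_pow (σ : R ≃+* R) :
    Nat.card R = Nat.card {r : R // σ r = r} ^ orderOf σ := by
  classical
  have : Finite (R ≃+* R) := Finite.of_injective (fun f : R ≃+* R => (f : R → R)) DFunLike.coe_injective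
  let H := Subgroup.zpowers σ
  have : Fintype H := Fintype.ofFinite H
  have h1 := FixedPoints.finrank_eq_card H R
  rw [Fintype.card_eq_nat_card, Nat.card_zpowers] at h1
  rw [Module.natCard_eq_pow_finrank (K := FixedPoints.subfield H R) (V := R), h1]
  congr 1
  refine Nat.card_congr (Equiv.subtypeEquivRight fun r => ?_)
  constructor
  · intro h; exact h ⟨σ, mem_zpowers σ⟩
  · intro h ⟨x, hx⟩
    have hle : zpowers σ ≤ MulAction.stabilizer (R ≃+* R) r :=
      zpowers_le.2 (MulAction.mem_stabilizer_iff.2 h)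
    exact MulAction.mem_stabilizer_iff.1 (hle hx)

end FieldAut

universe u v

variable {X : Type u} {E : Type v} [Group X] [AddCommGroup E] [Finite E] [DistribMulAction X E]

/-- The elements fixing `e₀` and normalising a transitive cyclic group act as a cyclic group of
field automorphisms. -/
theorem exists_semilinear (two : ∀ e : E, e + e = 0) (k : X)
    (trans : ∀ e e' : E, e ≠ 0 → e' ≠ 0 → ∃ j : ℕ, k ^ j • e = e')
    {e₀ : E} (he₀ : e₀ ≠ 0) (F : Subgroup X) (hfix : ∀ g ∈ F, g • e₀ = e₀)
    (hnorm : ∀ g ∈ F, ∃ j : ℕ, ∀ e : E, (g * k * g⁻¹) • e = k ^ j • e) :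
    ∃ (A : Type v) (_ : Group A) (_ : IsCyclic A) (_ : Finite A) (φ : F →* A),
      (∀ g : F, φ g = 1 ↔ ∀ e : E, (g : X) • e = e) ∧
        ∀ g : F, Nat.card E = Nat.card {e : E // (g : X) • e = e} ^ orderOf (φ g) := by
  classical
  let ρ : X →* AddMonoid.End E := DistribMulAction.toAddMonoidEnd X E
  have hρ : ∀ (g : X) (e : E), ρ g e = g • e := fun _ _ => rfl
  let R : Subring (AddMonoid.End E) := Subring.closure {ρ k}
  let : CommRing R := Subring.closureCommRingOfComm (by
    intro x hx y hy; rw [Set.mem_singleton_iff.1 hx, Set.mem_singleton_iff.1 hy])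
  have hkR : ρ k ∈ R := Subring.subset_closure (Set.mem_singleton _)
  let ev : R →+ E :=
    { toFun := fun r => r.1 e₀
      map_zero' := rfl
      map_add' := fun _ _ => rfl }
  have hev : ∀ r : R, ev r = r.1 e₀ := fun _ => rfl
  have hpow : ∀ j : ℕ, ev (⟨ρ k, hkR⟩ ^ j) = k ^ j • e₀ := by
    intro j
    rw [hev, SubmonoidClass.coe_pow, ← map_pow, hρ]
  have hsurj : Function.Surjective ev := by
    intro e
    rcases eq_or_ne e 0 with rfl | he
    · exact ⟨0, map_zero ev⟩
    · obtain ⟨j, hj⟩ := trans e₀ e he₀ he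
      exact ⟨_, (hpow j).trans hj⟩
  have hinj : Function.Injective ev := by
    rw [injective_iff_map_eq_zero]
    intro r hr
    apply Subtype.ext
    ext e
    obtain ⟨r', hr'⟩ := hsurj e
    have hc : (r.1 * r'.1) e₀ = (r'.1 * r.1) e₀ := by
      rw [← R.coe_mul, ← R.coe_mul, mul_comm r r']
    show r.1 e = 0
    rw [← hr', hev]
    show (r.1 * r'.1) e₀ = 0
    rw [hc]
    show r'.1 (r.1 e₀) = 0
    rw [show r.1 e₀ = 0 from hr, map_zero]
  have hbij : Function.Bijective ev := ⟨hinj, hsurj⟩
  haveI : Finite R := Finite.of_injective ev hinj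
  have hne : (1 : R) ≠ 0 := fun h => he₀ (by
    have h2 : ev 1 = ev 0 := congrArg ev h
    rw [map_zero] at h2
    exact h2)
  haveI : Nontrivial R := ⟨⟨1, 0, hne⟩⟩
  have hunit : ∀ r : R, r ≠ 0 → IsUnit r := by
    intro r hr
    obtain ⟨j, hj⟩ := trans (ev r) e₀ (fun h => hr (hinj (h.trans (map_zero ev).symm))) he₀
    refine IsUnit.of_mul_eq_one (⟨ρ k, hkR⟩ ^ j) (hinj ?_)
    rw [mul_comm, hev]
    show ((⟨ρ k, hkR⟩ : R) ^ j).1 (r.1 e₀) = (1 : R).1 e₀
    rw [SubmonoidClass.coe_pow, ← map_pow, hρ]
    exact hj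
  let : Field R := IsField.toField
    { exists_pair_ne := ⟨1, 0, hne⟩
      mul_comm := mul_comm
      mul_inv_cancel := fun {r} hr => (hunit r hr).exists_right_inv }
  haveI : CharP R 2 := CharTwo.of_one_ne_zero_of_two_eq_zero hne (hinj (by
    rw [← one_add_one_eq_two, map_add, map_zero]
    exact two _))
  -- conjugation preserves `R`
  have hconj : ∀ g ∈ F, ∀ r : R, ρ g * r.1 * ρ g⁻¹ ∈ R := by
    intro g hg r
    obtain ⟨j, hj⟩ := hnorm g hg
    refine Subring.closure_induction (p := fun x _ => ρ g * x * ρ g⁻¹ ∈ R) ?_ ?_ ?_ ?_ ?_ ?_ r.2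
    · rintro x rfl
      have : ρ g * ρ k * ρ g⁻¹ = ρ k ^ j := by
        rw [← map_mul, ← map_mul, ← map_pow]; ext e; exact hj e
      rw [this]
      exact R.pow_mem hkR j
    · rw [mul_zero, zero_mul]; exact R.zero_mem
    · rw [mul_one, ← map_mul, mul_inv_cancel, map_one]; exact R.one_mem
    · intro x y _ _ hx hy; rw [mul_add, add_mul]; exact R.add_mem hx hy
    · intro x _ hx; rw [mul_neg, neg_mul]; exact R.neg_mem hx
    · intro x y _ _ hx hy
      have hi : ρ g⁻¹ * ρ g = 1 := by rw [← map_mul, inv_mul_cancel, map_one]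
      have : ρ g * (x * y) * ρ g⁻¹ = (ρ g * x * ρ g⁻¹) * (ρ g * y * ρ g⁻¹) := by
        simp only [← mul_assoc]
        rw [mul_assoc (ρ g * x) (ρ g⁻¹) (ρ g), hi, mul_one]
      rw [this]
      exact R.mul_mem hx hy
  let evE : R ≃ E := Equiv.ofBijective ev hbij
  let σ : F → R → R := fun g r => evE.symm ((g : X) • ev r)
  have hσev : ∀ (g : F) (r : R), ev (σ g r) = (g : X) • ev r := fun g r => evE.apply_symm_apply _
  have hσval : ∀ (g : F) (r : R), σ g r = ⟨_, hconj g g.2 r⟩ := by
    intro g r
    apply hinj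
    rw [hσev, hev, hev]
    show (g : X) • r.1 e₀ = ρ (g : X) (r.1 (ρ (g : X)⁻¹ e₀))
    rw [hρ, hρ, inv_smul_eq_iff.2 (hfix g g.2).symm]
  have hσmul : ∀ (g : F) (r r' : R), σ g (r * r') = σ g r * σ g r' := by
    intro g r r'
    rw [hσval, hσval, hσval]
    apply Subtype.ext
    show ρ (g : X) * (r.1 * r'.1) * ρ (g : X)⁻¹ =
      (ρ (g : X) * r.1 * ρ (g : X)⁻¹) * (ρ (g : X) * r'.1 * ρ (g : X)⁻¹)
    have hi : ρ (g : X)⁻¹ * ρ (g : X) = 1 := by rw [← map_mul, inv_mul_cancel, map_one]
    simp only [← mul_assoc]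
    rw [mul_assoc (ρ (g : X) * r.1) (ρ (g : X)⁻¹) (ρ (g : X)), hi, mul_one]
  let φ : F →* (R ≃+* R) :=
    { toFun := fun g =>
        { toFun := σ g
          invFun := σ g⁻¹
          left_inv := fun r => hinj (by rw [hσev, hσev, Subgroup.coe_inv, inv_smul_smul])
          right_inv := fun r => hinj (by rw [hσev, hσev, Subgroup.coe_inv, smul_inv_smul])
          map_mul' := hσmul g
          map_add' := fun r r' => hinj (by rw [map_add, hσev, hσev, hσev, map_add, smul_add]) }
      map_one' := RingEquiv.ext fun r => hinj (by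
        show ev (σ 1 r) = ev r
        rw [hσev, OneMemClass.coe_one, one_smul])
      map_mul' := fun g g' => RingEquiv.ext fun r => hinj (by
        show ev (σ (g * g') r) = ev (σ g (σ g' r))
        rw [hσev, hσev, hσev, Subgroup.coe_mul, mul_smul]) }
  haveI : Finite (R ≃+* R) := Finite.of_injective (fun f : R ≃+* R => (f : R → R)) DFunLike.coe_injective
  refine ⟨R ≃+* R, inferInstance, isCyclic_ringAut R, inferInstance, φ, fun g => ?_, fun g => ?_⟩
  · constructor
    · intro h e
      obtain ⟨r, rfl⟩ := hsurj e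
      rw [← hσev]
      exact congrArg ev (DFunLike.congr_fun h r)
    · intro h
      refine RingEquiv.ext fun r => hinj ?_
      show ev (σ g r) = ev r
      rw [hσev, h]
  · rw [← Nat.card_congr evE, card_eq_fixed_pow R (φ g)]
    congr 1
    refine Nat.card_congr (evE.subtypeEquiv fun r => ?_)
    show σ g r = r ↔ (g : X) • ev r = ev r
    rw [← hσev]
    exact hinj.eq_iff.symm

end Cfsg.Agent.InvolTimesPSL
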