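import Cfsg.Agent.Lib.InvolTimesPSL.TransQuot

/-!
# The tower: the inductive step through `N(E)/E` and the induction
-/

set_option autoImplicit false
set_option linter.style.haveILetI false

namespace Cfsg.Agent.InvolTimesPSL

open Subgroup

universe u

variable {G : Type u} [Group G] [Finite G]

namespace Hyp

variable {H : Hyp G}

theorem exists_ne_one (H : Hyp G) : ∃ e ∈ H.E, e ≠ 1 := by
  by_contra hcon
  push Not at hcon
  have h := H.four
  rw [(eq_bot_iff_forall _).2 hcon, card_bot] at h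
  omega

namespace Trans

variable (D : Trans H)

/-- Preimage in `G` of a subgroup of `N(E)/E`. -/
def lift (D : Trans H) (K : Subgroup (normalizer (H.E : Set G) ⧸ H.E.subgroupOf (normalizer (H.E : Set G)))) :
    Subgroup G :=
  (K.comap D.q).map (normalizer (H.E : Set G)).subtype

variable (K : Subgroup (normalizer (H.E : Set G) ⧸ H.E.subgroupOf (normalizer (H.E : Set G))))

theorem mem_lift {x : G} :
    x ∈ D.lift K ↔ ∃ h : x ∈ normalizer (H.E : Set G), D.q ⟨x, h⟩ ∈ K := by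
  constructor
  · rintro ⟨y, hy, rfl⟩; exact ⟨y.2, hy⟩
  · rintro ⟨h, hx⟩; exact ⟨⟨x, h⟩, hx, rfl⟩

theorem card_lift : Nat.card (D.lift K) = Nat.card H.E * Nat.card K := by
  rw [lift, card_map_of_injective (normalizer (H.E : Set G)).subtype_injective, card_comap_quot,
    Nat.card_congr (subgroupOfEquivOfLe (le_normalizer (H := H.E))).toEquiv]

theorem isPGroup_lift (hK : IsPGroup 2 K) : IsPGroup 2 (D.lift K) :=
  (hK.comap_of_ker_isPGroup D.q (by
    rw [QuotientGroup.ker_mk']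
    exact H.isPGroup_E.comap_of_injective _ (normalizer (H.E : Set G)).subtype_injective)).map _

theorem E_le_lift : H.E ≤ D.lift K := fun e he =>
  (D.mem_lift K).2 ⟨le_normalizer he, by
    rw [show D.q ⟨e, le_normalizer he⟩ = 1 from (D.q_eq_one).2 he]; exact one_mem K⟩

/-- Bigness lifts from `N(E)/E`. -/
theorem big_of_big {hF : H.Fused} (Qd : D.Quot hF) {x : normalizer (H.E : Set G)}
    (hb : Qd.hyp.Big (D.q x)) : H.Big (x : G) := by
  obtain ⟨P, hP, hPc, hPcomm⟩ := hb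
  set P' := D.lift P with hP'
  let O : Set G := (fun e => (x : G) * e) '' (H.E : Set G)
  have hOc : Nat.card O ≤ Nat.card H.E := by
    rw [Nat.card_image_of_injective (mul_right_injective (x : G))]
    exact le_rfl
  have hO : ∀ g ∈ P', g * (x : G) * g⁻¹ ∈ O := by
    intro g hg
    obtain ⟨hgN, hgP⟩ := (D.mem_lift P).1 hg
    refine ⟨(x : G)⁻¹ * (g * x * g⁻¹), ?_, by group⟩
    have h : D.q x = D.q (⟨g, hgN⟩ * x * ⟨g, hgN⟩⁻¹) := by
      rw [map_mul, map_mul, map_inv, hPcomm _ hgP, mul_inv_cancel_right]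
    exact D.q_eq.1 h
  have h1 := card_le_orbit_mul hO
  refine ⟨P' ⊓ centralizer ({(x : G)} : Set G), (D.isPGroup_lift P hP).to_le inf_le_left, ?_,
    fun g hg => mem_centralizer_singleton_iff.1 hg.2⟩
  rw [hP', D.card_lift] at h1
  rw [Qd.card_E] at hPc
  have h2 := Nat.mul_le_mul_right (Nat.card ↥(P' ⊓ centralizer ({(x : G)} : Set G))) hOc
  have h3 : Nat.card H.E * Nat.card P ≤ Nat.card H.E * Nat.card ↥(P' ⊓ centralizer ({(x : G)} : Set G)) :=
    le_trans h1 h2
  exact le_trans hPc (Nat.le_of_mul_le_mul_left h3 Nat.card_pos)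

include D in
theorem big_E {x : G} (hx : x ∈ H.E) : H.Big x := by
  refine ⟨D.T1, D.isP, ?_, fun w hw => D.comm w hw x hx⟩
  rw [D.card]
  have := H.four
  nlinarith

include D in
/-- **The translation step.** -/
theorem tower_of_trans (hF : H.Fused)
    (ih : ∀ (K : Type u) [Group K] [Finite K] (H' : Hyp K), Nat.card K < Nat.card G → H'.Tower) :
    H.Tower := by
  classical
  haveI : Fact (Nat.Prime 2) := ⟨Nat.prime_two⟩
  obtain ⟨Qd⟩ := D.exists_quot hF
  set Hn := normalizer (H.E : Set G) with hHn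
  set H' := Qd.hyp with hH'
  have hlt : Nat.card (Hn ⧸ H.E.subgroupOf Hn) < Nat.card G := by
    have h1 := Subgroup.card_eq_card_quotient_mul_card_subgroup (H.E.subgroupOf Hn)
    rw [Nat.card_congr (subgroupOfEquivOfLe (le_normalizer (H := H.E))).toEquiv] at h1
    have h2 : Nat.card Hn ≤ Nat.card G := Finite.card_subtype_le _
    have := H.four
    have := Nat.card_pos (α := Hn ⧸ H.E.subgroupOf Hn)
    nlinarith
  obtain ⟨Tb, hTbT0, hTb⟩ := ih _ H' hlt
  set Kb : Subgroup (Hn ⧸ H.E.subgroupOf Hn) := Tb.toSubgroup with hKb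
  set T' := D.lift Kb with hT'
  have hT1T : D.T1 ≤ T' := fun w hw =>
    (D.mem_lift _).2 ⟨D.T1_le hw, hTbT0 ((Qd.T0_iff ⟨w, D.T1_le hw⟩).2 hw)⟩
  have hTp : IsPGroup 2 T' := D.isPGroup_lift _ Tb.2
  have hT0T : H.T0 ≤ T' := D.le.trans hT1T
  have hTH : T' ≤ Hn := map_subtype_le _
  have hTcard : Nat.card T' = Nat.card H.E * Nat.card Kb := D.card_lift _
  have hqt : D.q ⟨H.t, D.T1_le D.t_mem⟩ = H'.t := Qd.t_eq.symm
  -- the data `M`
  suffices hM : ∃ M : Subgroup G, M ≤ T' ∧ Nat.card M * 2 = Nat.card T' ∧ H.E ≤ M ∧ H.t ∉ M ∧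
      (∀ x ∈ M, x * x = 1 → x ≠ 1 → H.Big x) ∧ (H.Cyc T' ∨ H.TFused T' M) by
    obtain ⟨M, hMT, hMc, hEM, htM, hbig, hcond⟩ := hM
    obtain ⟨T, hT⟩ : ∃ T : Sylow 2 G, (T : Subgroup G) = T' := by
      rcases hcond with ⟨c, hct, hcT, hcE, hctr⟩ | hfus
      · obtain ⟨T, hTle⟩ := hTp.exists_le_sylow
        refine ⟨T, le_antisymm ?_ hTle⟩
        by_contra hcon
        obtain ⟨y, hyT, hyT', hyN⟩ := exists_normalizing T.2 (lt_of_le_not_ge hTle hcon)
        have hcent : ∀ z ∈ T', (∀ g ∈ T', g * z = z * g) → z ∈ H.E := by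
          intro z hz hzc
          have hQ : T' ⊓ centralizer ({H.t} : Set G) ≤ H.T0 := H.le_T0 (hTp.to_le inf_le_left)
            (fun x hx => ⟨hT0T hx, mem_centralizer_singleton_iff.2 (H.comm_t' hx)⟩)
            (fun x hx => mem_centralizer_singleton_iff.1 hx.2)
          rcases hQ ⟨hz, mem_centralizer_singleton_iff.2 (hzc _ (hT0T H.t_mem)).symm⟩ with h | h
          · exact h
          · exfalso
            obtain ⟨a, haE, ha1⟩ := H.exists_ne_one
            obtain ⟨w, hw, hwt⟩ := D.move a haE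
            have h1 := hzc w (hT1T hw)
            have h2 := D.comm w hw _ h
            refine ha1 ?_
            have h3 : w * H.t * w⁻¹ = H.t := by
              calc w * H.t * w⁻¹ = (w * z) * (H.t * z)⁻¹ * ((H.t * z) * z⁻¹ * H.t * w⁻¹) := by group
                _ = _ := by
                  rw [show H.t * z * z⁻¹ * H.t = 1 by rw [mul_inv_cancel_right, H.t_sq], one_mul, h1,
                    H.inv_E h]
                  calc z * w * (H.t * z) * w⁻¹ = z * (w * (H.t * z)) * w⁻¹ := by group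
                    _ = z * ((H.t * z) * w) * w⁻¹ := by rw [h2]
                    _ = z * (H.t * z) := by group
                    _ = (z * H.t) * z := by group
                    _ = H.t := by
                      rw [H.comm_t' (Or.inr h : z ∈ H.T0), mul_assoc, H.sq_T0 (Or.inr h), mul_one]
            rw [h3] at hwt
            exact mul_eq_left.1 hwt.symm
        obtain ⟨z, hzT, hzc, hz1⟩ : ∃ z ∈ T', (∀ g ∈ T', g * z = z * g) ∧ z ≠ 1 := by
          haveI : Nontrivial T' := ⟨⟨⟨H.t, hT0T H.t_mem⟩, 1, fun h => H.t_ne_one (congrArg Subtype.val h)⟩⟩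
          haveI := hTp.center_nontrivial
          obtain ⟨z, hz⟩ := exists_ne (1 : center T')
          exact ⟨((z : T') : G), (z : T').2,
            fun g hg => congrArg Subtype.val (mem_center_iff.1 z.2 ⟨g, hg⟩),
            fun h => hz (Subtype.ext (Subtype.ext h))⟩
        have hall : ∀ e ∈ H.E, ∀ g ∈ T', g * e = e * g := by
          intro e he
          by_cases he1 : e = 1
          · intro g _; rw [he1, one_mul, mul_one]
          obtain ⟨j, hj⟩ := hctr z (hcent z hzT hzc) e he hz1 he1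
          intro g hg
          have hcj : ∀ (i : ℕ), ∀ g ∈ T', (c ^ i)⁻¹ * g * c ^ i ∈ T' := by
            intro i
            induction i with
            | zero => intro g hg; simpa using hg
            | succ i ih' =>
              intro g hg
              have hb : Function.Bijective (fun v : T' => (⟨_, hcT v v.2⟩ : T')) :=
                Finite.injective_iff_bijective.1 fun a b hab => Subtype.ext
                  (mul_left_cancel (mul_right_cancel (congrArg Subtype.val hab :)))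
              obtain ⟨v, hv⟩ := hb.2 ⟨g, hg⟩
              have h : c * (v : G) * c⁻¹ = g := congrArg Subtype.val hv
              have := ih' v v.2
              rwa [show (c ^ i)⁻¹ * (v : G) * c ^ i = (c ^ (i + 1))⁻¹ * g * c ^ (i + 1) by
                rw [← h, pow_succ']; group] at this
          have h1 := hzc _ (hcj j g hg)
          calc g * e = c ^ j * ((c ^ j)⁻¹ * g * c ^ j * z) * (c ^ j)⁻¹ := by rw [← hj]; group
            _ = _ := by rw [h1, ← hj]; group
        have hyE : ∀ e ∈ H.E, y * e * y⁻¹ ∈ H.E := by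
          intro e he
          refine hcent _ (((mem_normalizer_iff.1 hyN) e).1 (hT0T (H.E_le he))) fun g hg => ?_
          have hg' : y⁻¹ * g * y ∈ T' := by
            refine ((mem_normalizer_iff.1 hyN) _).2 ?_
            rwa [show y * (y⁻¹ * g * y) * y⁻¹ = g by group]
          calc g * (y * e * y⁻¹) = y * ((y⁻¹ * g * y) * e) * y⁻¹ := by group
            _ = _ := by rw [hall e he _ hg']; group
        have hyH : y ∈ Hn := by
          refine mem_normalizer_iff.2 fun x => ⟨hyE x, fun hx => ?_⟩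
          have hb : Function.Bijective (fun v : H.E => (⟨_, hyE v v.2⟩ : H.E)) :=
            Finite.injective_iff_bijective.1 fun a b hab => Subtype.ext
              (mul_left_cancel (mul_right_cancel (congrArg Subtype.val hab :)))
          obtain ⟨v, hv⟩ := hb.2 ⟨_, hx⟩
          have : (v : G) = x := mul_left_cancel (mul_right_cancel (congrArg Subtype.val hv :))
          exact this ▸ v.2
        have hyq : zpowers (D.q ⟨y, hyH⟩) ≤ normalizer (Kb : Set (Hn ⧸ H.E.subgroupOf Hn)) := by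
          rw [zpowers_le, mem_normalizer_iff]
          intro a
          obtain ⟨x, rfl⟩ := QuotientGroup.mk'_surjective (H.E.subgroupOf Hn) a
          have h1 : ∀ x : Hn, D.q x ∈ Kb ↔ (x : G) ∈ T' := fun x =>
            ⟨fun h => (D.mem_lift Kb).2 ⟨x.2, h⟩, fun h => ((D.mem_lift Kb).1 h).2⟩
          show D.q x ∈ Kb ↔ D.q ⟨y, hyH⟩ * D.q x * (D.q ⟨y, hyH⟩)⁻¹ ∈ Kb
          rw [← map_inv, ← map_mul, ← map_mul, h1, h1]
          exact (mem_normalizer_iff.1 hyN) x
        have hyp2 : IsPGroup 2 (zpowers (D.q ⟨y, hyH⟩)) := by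
          rw [← MonoidHom.map_zpowers]
          refine IsPGroup.map (fun z => ?_) _
          obtain ⟨i, hi⟩ := T.2 ⟨((z : Hn) : G), by
            obtain ⟨l, hl⟩ := mem_zpowers_iff.1 z.2
            rw [← hl]
            exact (T : Subgroup G).zpow_mem hyT l⟩
          exact ⟨i, Subtype.ext (Subtype.ext (by simpa using congrArg Subtype.val hi))⟩
        have hmax := Tb.3 (Tb.2.to_sup_of_normal_left' hyp2 hyq) le_sup_left
        have hyK : D.q ⟨y, hyH⟩ ∈ Kb := hmax.le (mem_sup_right (mem_zpowers _))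
        exact hyT' ((D.mem_lift Kb).2 ⟨hyH, hyK⟩)
      · refine H.sylow_of_fused hTp hT0T fun y hy => hfus _ (((mem_normalizer_iff.1 hy) _).1 (hT0T H.t_mem))
          (fun hyM => H.not_big_conj y (hbig _ hyM H.conj_involution.1 H.conj_involution.2))
          H.conj_involution.1 (H.not_big_conj y)
    exact ⟨T, hT ▸ hT0T, Or.inr ⟨M, hT ▸ hMT, by rw [hT]; exact hMc, hEM, htM, hbig, by rw [hT]; exact hcond⟩⟩
  have hTbmem : ∀ x : Hn, (x : G) ∈ T' → D.q x ∈ Kb := fun x hx => ((D.mem_lift Kb).1 hx).2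
  rcases hTb with hTeq | ⟨Mb, hMbT, hMbc, hUM, htMb, hbigb, hcondb⟩
  · -- `T' = T₁`
    have hKbU : ∀ x : Hn, D.q x ∈ Kb → (x : G) ∈ D.T1 := fun x hx =>
      (Qd.T0_iff x).1 (hTeq ▸ hx)
    refine ⟨D.lift H'.E, ?_, ?_, D.E_le_lift _, ?_, ?_, Or.inl ?_⟩
    · intro x hx
      obtain ⟨h, hx'⟩ := (D.mem_lift _).1 hx
      exact (D.mem_lift _).2 ⟨h, by show _ ∈ Kb; rw [hTeq]; exact H'.E_le hx'⟩
    · rw [D.card_lift, hTcard, show Nat.card Kb = Nat.card H'.T0 from congrArg (fun K : Subgroup (Hn ⧸ H.E.subgroupOf Hn) => Nat.card K) hTeq, H'.card_T0]; ring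
    · intro h
      obtain ⟨h1, h2⟩ := (D.mem_lift _).1 h
      exact H'.t_notMem (hqt ▸ h2)
    · intro x hx hx2 hx1
      by_cases hxE : x ∈ H.E
      · exact D.big_E hxE
      have hMT1 : ∀ y ∈ D.lift H'.E, y ∈ D.T1 := fun y hy => by
        obtain ⟨h, hy'⟩ := (D.mem_lift _).1 hy
        exact (Qd.T0_iff ⟨y, h⟩).1 (H'.E_le hy')
      obtain ⟨hxN, hxq⟩ := (D.mem_lift _).1 hx
      have hxq1 : D.q ⟨x, hxN⟩ ≠ 1 := fun h => hxE (D.q_eq_one.1 h)
      have hsq : ∀ y ∈ D.lift H'.E, y * y = 1 := by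
        intro y hy
        by_cases hyE : y ∈ H.E
        · exact H.sq y hyE
        obtain ⟨hyN, hyq⟩ := (D.mem_lift _).1 hy
        obtain ⟨j, hj⟩ := H'.trans _ hxq _ hyq hxq1 (fun h => hyE (D.q_eq_one.1 h))
        rw [show H'.k = D.q ⟨D.c, D.c_mem⟩ from Qd.k_eq, ← map_pow, ← map_inv, ← map_mul,
          ← map_mul] at hj
        have he : (D.c ^ j * x * (D.c ^ j)⁻¹)⁻¹ * y ∈ H.E := D.q_eq.1 hj
        set x' := D.c ^ j * x * (D.c ^ j)⁻¹ with hx'
        have hx'2 : x' * x' = 1 := by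
          rw [hx']; calc D.c ^ j * x * (D.c ^ j)⁻¹ * (D.c ^ j * x * (D.c ^ j)⁻¹)
              = D.c ^ j * (x * x) * (D.c ^ j)⁻¹ := by group
            _ = 1 := by rw [hx2]; group
        have hcT : ∀ i : ℕ, D.c ^ i * x * (D.c ^ i)⁻¹ ∈ D.T1 := by
          intro i
          induction i with
          | zero => simpa using hMT1 x hx
          | succ i ih' =>
            have := D.c_T _ ih'
            rwa [show D.c * (D.c ^ i * x * (D.c ^ i)⁻¹) * D.c⁻¹ = D.c ^ (i + 1) * x * (D.c ^ (i + 1))⁻¹ by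
              rw [pow_succ']; group] at this
        have hc := D.comm x' (hcT j) _ he
        set e := x'⁻¹ * y with hedef
        have hy' : y = x' * e := by rw [hedef, mul_inv_cancel_left]
        calc y * y = x' * (e * x') * e := by rw [hy']; group
          _ = (x' * x') * (e * e) := by rw [← hc]; group
          _ = 1 := by rw [hx'2, H.sq e he, mul_one]
      refine ⟨D.lift H'.E, D.isPGroup_lift _ H'.isPGroup_E, ?_, fun g hg => ?_⟩
      · rw [D.card_lift, Qd.card_E]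
        exact Nat.mul_le_mul_right _ H.four
      · have h := hsq _ (mul_mem hg hx)
        rw [mul_eq_one_iff_eq_inv, mul_inv_rev, inv_eq_of_mul_eq_one_left (hsq g hg),
          inv_eq_of_mul_eq_one_left hx2] at h
        exact h
    · refine ⟨D.c, D.c_t, fun g hg => ?_, fun e he => D.c_act e he ▸ H.k_E e he,
        fun e he e' he' h1 h1' => ?_⟩
      · obtain ⟨h, hg'⟩ := (D.mem_lift _).1 hg
        exact hT1T (D.c_T g (hKbU ⟨g, h⟩ hg'))
      · obtain ⟨j, hj⟩ := H.trans e he e' he' h1 h1'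
        exact ⟨j, by rw [D.c_pow_act j he, hj]⟩
  · refine ⟨D.lift Mb, ?_, ?_, D.E_le_lift _, ?_, ?_, ?_⟩
    · intro x hx
      obtain ⟨h, hx'⟩ := (D.mem_lift _).1 hx
      exact (D.mem_lift _).2 ⟨h, hMbT hx'⟩
    · rw [D.card_lift, hTcard, mul_assoc, hMbc]
    · intro h
      obtain ⟨h1, h2⟩ := (D.mem_lift _).1 h
      exact htMb (hqt ▸ h2)
    · intro x hx hx2 hx1
      by_cases hxE : x ∈ H.E
      · exact D.big_E hxE
      obtain ⟨hxN, hxq⟩ := (D.mem_lift _).1 hx
      exact D.big_of_big Qd (x := ⟨x, hxN⟩) (hbigb _ hxq (by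
        rw [← map_mul]; exact D.q_eq_one.2 (by
          show x * x ∈ H.E
          rw [hx2]; exact one_mem _)) (fun h => hxE (D.q_eq_one.1 h)))
    · rcases hcondb with ⟨cb, hcbt, hcbT, hcbU, hcbtr⟩ | hfusb
      · left
        obtain ⟨⟨h, hhN⟩, hh⟩ := QuotientGroup.mk'_surjective (H.E.subgroupOf Hn) cb
        change D.q ⟨h, hhN⟩ = cb at hh
        have he : H.t * (h * H.t * h⁻¹) ∈ H.E := by
          have h1 : D.q (⟨H.t, D.T1_le D.t_mem⟩ * (⟨h, hhN⟩ * ⟨H.t, D.T1_le D.t_mem⟩ * ⟨h, hhN⟩⁻¹)) = 1 := by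
            rw [map_mul, map_mul, map_mul, map_inv, hh, hqt, hcbt, mul_inv_cancel_right, H'.t_sq]
          exact D.q_eq_one.1 h1
        obtain ⟨w, hw, hwt⟩ := D.move _ he
        rw [H.t_mul_t_mul] at hwt
        set c := w⁻¹ * h with hc
        have hct : c * H.t = H.t * c := by
          rw [hc]
          calc w⁻¹ * h * H.t = w⁻¹ * (h * H.t * h⁻¹) * h := by group
            _ = w⁻¹ * (w * H.t * w⁻¹) * h := by rw [hwt]
            _ = _ := by group
        have hcN : c ∈ Hn := mul_mem (inv_mem (D.T1_le hw)) hhN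
        have hwTb : D.q ⟨w, D.T1_le hw⟩ ∈ H'.T0 := (Qd.T0_iff _).2 hw
        have hcE : ∀ e ∈ H.E, c * e * c⁻¹ ∈ H.E := fun e he => ((mem_normalizer_iff.1 hcN) e).1 he
        have hqc : D.q ⟨c, hcN⟩ = (D.q ⟨w, D.T1_le hw⟩)⁻¹ * cb := by
          rw [← hh, ← map_inv, ← map_mul]
          rfl
        refine ⟨c, hct, fun g hg => ?_, hcE, fun e he e' he' h1 h1' => ?_⟩
        · obtain ⟨hgN, hgK⟩ := (D.mem_lift _).1 hg
          refine (D.mem_lift _).2 ⟨mul_mem (mul_mem hcN hgN) (inv_mem hcN), ?_⟩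
          have h2 : D.q ⟨c * g * c⁻¹, mul_mem (mul_mem hcN hgN) (inv_mem hcN)⟩ =
              (D.q ⟨w, D.T1_le hw⟩)⁻¹ * (cb * D.q ⟨g, hgN⟩ * cb⁻¹) * D.q ⟨w, D.T1_le hw⟩ := by
            rw [show (⟨c * g * c⁻¹, _⟩ : Hn) = ⟨c, hcN⟩ * ⟨g, hgN⟩ * ⟨c, hcN⟩⁻¹ from rfl, map_mul, map_mul,
              map_inv, hqc]
            group
          rw [h2]
          exact mul_mem (mul_mem (inv_mem (hTbT0 hwTb)) (hcbT _ hgK)) (hTbT0 hwTb)
        · obtain ⟨x, hxU, hxd⟩ := Qd.rep e he
          obtain ⟨y, hyU, hyd⟩ := Qd.rep e' he'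
          have hne : ∀ z : Hn, D.dd z ≠ 1 → D.q z ≠ 1 := fun z hz h =>
            hz (D.dd_E (D.q_eq_one.1 h))
          obtain ⟨j, hj⟩ := hcbtr _ hxU _ hyU (hne x (hxd ▸ h1)) (hne y (hyd ▸ h1'))
          refine ⟨j, ?_⟩
          have hxT : (x : G) ∈ D.T1 := (Qd.T0_iff x).1 (H'.E_le hxU)
          have hpow : ∀ i : ℕ, cb ^ i * D.q x * (cb ^ i)⁻¹ ∈ H'.E ∧
              D.q (⟨c, hcN⟩ ^ i * x * (⟨c, hcN⟩ ^ i)⁻¹) = cb ^ i * D.q x * (cb ^ i)⁻¹ := by
            intro i
            induction i with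
            | zero => exact ⟨by simpa using hxU, by simp⟩
            | succ i ih' =>
              have h3 : cb ^ (i + 1) * D.q x * (cb ^ (i + 1))⁻¹ =
                  cb * (cb ^ i * D.q x * (cb ^ i)⁻¹) * cb⁻¹ := by rw [pow_succ']; group
              refine ⟨h3 ▸ hcbU _ ih'.1, ?_⟩
              rw [pow_succ', show (⟨c, hcN⟩ : Hn) * ⟨c, hcN⟩ ^ i * x * (⟨c, hcN⟩ * ⟨c, hcN⟩ ^ i)⁻¹ =
                ⟨c, hcN⟩ * (⟨c, hcN⟩ ^ i * x * (⟨c, hcN⟩ ^ i)⁻¹) * ⟨c, hcN⟩⁻¹ by group, map_mul, map_mul,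
                map_inv, ih'.2, hqc,
                show (D.q ⟨w, D.T1_le hw⟩)⁻¹ * cb * (cb ^ i * D.q x * (cb ^ i)⁻¹) *
                  ((D.q ⟨w, D.T1_le hw⟩)⁻¹ * cb)⁻¹ =
                  (D.q ⟨w, D.T1_le hw⟩)⁻¹ * (cb * (cb ^ i * D.q x * (cb ^ i)⁻¹) * cb⁻¹) *
                    D.q ⟨w, D.T1_le hw⟩ by group]
              have h4 := hcbU _ ih'.1
              rw [mul_assoc, H'.comm_T0 (H'.E_le h4) hwTb, inv_mul_cancel_left, ← h3, pow_succ']
          have hdd : ∀ i : ℕ, D.dd ((⟨c, hcN⟩ ^ i * x * (⟨c, hcN⟩ ^ i)⁻¹ : Hn) : G) =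
              c ^ i * D.dd x * (c ^ i)⁻¹ := by
            intro i
            have h5 : Commute (c ^ i) H.t := Commute.pow_left hct i
            show H.t * (c ^ i * (x : G) * (c ^ i)⁻¹ * H.t * (c ^ i * (x : G) * (c ^ i)⁻¹)⁻¹) = _
            calc H.t * (c ^ i * (x : G) * (c ^ i)⁻¹ * H.t * (c ^ i * (x : G) * (c ^ i)⁻¹)⁻¹)
                = H.t * (c ^ i * (x : G) * ((c ^ i)⁻¹ * H.t) * c ^ i * (x : G)⁻¹ * (c ^ i)⁻¹) := by group
              _ = (H.t * c ^ i) * ((x : G) * H.t * (x : G)⁻¹) * (c ^ i)⁻¹ := by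
                  rw [h5.inv_left.eq]; group
              _ = _ := by rw [← h5.eq]; unfold dd; group
          have h6 : D.q (⟨c, hcN⟩ ^ j * x * (⟨c, hcN⟩ ^ j)⁻¹) = D.q y := (hpow j).2.trans hj
          have hyT : (y : G) ∈ D.T1 := (Qd.T0_iff y).1 (H'.E_le hyU)
          have h7 := D.q_eq.1 h6.symm
          have h8 : D.dd ((⟨c, hcN⟩ ^ j * x * (⟨c, hcN⟩ ^ j)⁻¹ : Hn) : G) = D.dd y := by
            set z := ((⟨c, hcN⟩ ^ j * x * (⟨c, hcN⟩ ^ j)⁻¹ : Hn) : G) with hz
            rw [show z = (y : G) * ((y : G)⁻¹ * z) by group,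
              D.dd_mul hF hyT (D.le (H.E_le h7)), D.dd_E h7, mul_one]
          rw [← hxd, ← hdd, h8, hyd]
      · right
        intro x hxT hxM hx2 hnb
        have hxE : x ∉ H.E := fun h => hxM (D.E_le_lift _ h)
        obtain ⟨hxN, hxK⟩ := (D.mem_lift _).1 hxT
        obtain ⟨gb, hgb, hgbt⟩ := hfusb _ hxK (fun h => hxM ((D.mem_lift _).2 ⟨hxN, h⟩)) (by
          rw [← map_mul]; exact D.q_eq_one.2 (by show x * x ∈ H.E; rw [hx2]; exact one_mem _))
          (fun h => hnb (D.big_of_big Qd h))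
        obtain ⟨g, rfl⟩ := QuotientGroup.mk'_surjective (H.E.subgroupOf Hn) gb
        have hgT : (g : G) ∈ T' := (D.mem_lift _).2 ⟨g.2, hgb⟩
        have he : H.t * ((g : G)⁻¹ * x * g) ∈ H.E := by
          have h1 : D.q (⟨H.t, D.T1_le D.t_mem⟩ * (g⁻¹ * ⟨x, hxN⟩ * g)) = 1 := by
            rw [map_mul, map_mul, map_mul, map_inv, hqt, ← hgbt]
            calc H'.t * ((D.q g)⁻¹ * (D.q g * H'.t * (D.q g)⁻¹) * D.q g) = H'.t * H'.t := by group
              _ = 1 := H'.t_sq
          exact D.q_eq_one.1 h1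
        obtain ⟨w, hw, hwt⟩ := D.move _ he
        rw [H.t_mul_t_mul] at hwt
        refine ⟨g * w, mul_mem hgT (hT1T hw), ?_⟩
        calc (g : G) * w * H.t * ((g : G) * w)⁻¹ = (g : G) * (w * H.t * w⁻¹) * (g : G)⁻¹ := by group
          _ = x := by rw [hwt]; group

end Trans

end Hyp

/-- **The tower theorem.** -/
theorem Hyp.tower (H : Hyp G) : H.Tower := by
  suffices h : ∀ (n : ℕ) (K : Type u) [Group K] [Finite K] (H' : Hyp K), Nat.card K = n → H'.Tower from
    h _ G H rfl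
  intro n
  induction n using Nat.strong_induction_on with
  | _ n ih =>
  intro K _ _ H' hn
  obtain ⟨S, hS⟩ := H'.isPGroup_T0.exists_le_sylow
  by_cases heq : (S : Subgroup K) = H'.T0
  · exact ⟨S, hS, Or.inl heq⟩
  have hF := H'.fused_of_lt S.2 (lt_of_le_of_ne hS (Ne.symm heq))
  rcases H'.aut_cases hF with h | h
  · obtain ⟨D⟩ := H'.exists_trans hF h
    exact D.tower_of_trans hF fun L _ _ H'' hL => ih _ (hn ▸ hL) L H'' rfl
  · exact H'.tower_of_excAut hF h

end Cfsg.Agent.InvolTimesPSL
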