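import Cfsg.Agent.Lib.InvolTimesPSL.Elementary

/-!
# The tower over `T₀`: definitions and the exceptional step

`Tower`: a Sylow `2`-subgroup `T ≥ T₀` is `T₀` or has a subgroup `M` of index two avoiding `t` all whose
involutions have big centralisers.  It holds if the automizer of `T₀` is exceptional.
-/

set_option autoImplicit false
set_option linter.style.haveILetI false

namespace Cfsg.Agent.InvolTimesPSL

open Subgroup

universe u

variable {G : Type u} [Group G] [Finite G]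

/-- A proper subgroup of a `2`-group is properly normalised. -/
theorem exists_normalizing {P S : Subgroup G} (hS : IsPGroup 2 S) (hlt : P < S) :
    ∃ w ∈ S, w ∉ P ∧ w ∈ normalizer (P : Set G) := by
  haveI : Fact (Nat.Prime 2) := ⟨Nat.prime_two⟩
  haveI := hS.isNilpotent
  have hne : P.subgroupOf S < ⊤ := lt_top_iff_ne_top.2 fun h =>
    not_le_of_gt hlt (subgroupOf_eq_top.1 h)
  obtain ⟨w, hw, hwn⟩ := SetLike.exists_of_lt (Group.normalizerCondition_of_isNilpotent _ hne)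
  refine ⟨w, w.2, fun h => hwn h, mem_normalizer_iff.2 fun x => ⟨fun hx => ?_, fun hx => ?_⟩⟩
  · exact ((mem_normalizer_iff.1 hw) ⟨x, hlt.le hx⟩).1 hx
  · have hxS : x ∈ S := by
      have := mul_mem (mul_mem (inv_mem w.2) (hlt.le hx)) w.2
      rwa [show (w : G)⁻¹ * ((w : G) * x * (w : G)⁻¹) * w = x by group] at this
    exact ((mem_normalizer_iff.1 hw) ⟨x, hxS⟩).2 hx

/-- The orbit inequality. -/
theorem card_le_orbit_mul {P : Subgroup G} {x : G} {O : Set G} (hO : ∀ g ∈ P, g * x * g⁻¹ ∈ O) :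
    Nat.card P ≤ Nat.card O * Nat.card ↥(P ⊓ centralizer ({x} : Set G)) := by
  classical
  let r : O → G := fun o => if h : ∃ g ∈ P, g * x * g⁻¹ = o then h.choose else 1
  have hr : ∀ g : P, r ⟨_, hO g g.2⟩ ∈ P ∧
      r ⟨_, hO g g.2⟩ * x * (r ⟨_, hO g g.2⟩)⁻¹ = g * x * (g : G)⁻¹ := by
    intro g
    have h : ∃ g' ∈ P, g' * x * g'⁻¹ = ((⟨_, hO g g.2⟩ : O) : G) := ⟨g, g.2, rfl⟩
    simp only [r, dif_pos h]
    exact ⟨h.choose_spec.1, h.choose_spec.2⟩
  rw [← Nat.card_prod]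
  refine Nat.card_le_card_of_injective (fun g : P => ((⟨_, hO g g.2⟩ : O),
    (⟨(r ⟨_, hO g g.2⟩)⁻¹ * g, P.mul_mem (P.inv_mem (hr g).1) g.2, mem_centralizer_singleton_iff.2 (by
      have h2 := (hr g).2
      generalize r ⟨_, hO g g.2⟩ = r0 at h2 ⊢
      calc r0⁻¹ * g * x = r0⁻¹ * ((g : G) * x * (g : G)⁻¹) * g := by group
        _ = _ := by rw [← h2]; group)⟩ : ↥(P ⊓ centralizer ({x} : Set G))))) fun a b hab => ?_
  simp only [Prod.mk.injEq, Subtype.mk.injEq] at hab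
  obtain ⟨h1, h2⟩ := hab
  have h3 : (⟨_, hO a a.2⟩ : O) = ⟨_, hO b b.2⟩ := Subtype.ext h1
  have h4 : (r ⟨_, hO a a.2⟩)⁻¹ * (a : G) = (r ⟨_, hO b b.2⟩)⁻¹ * (b : G) := congrArg Subtype.val h2
  rw [congrArg r h3] at h4
  exact Subtype.ext (mul_left_cancel h4)

theorem card_closure_dihedral {Q : Type*} [Group Q] [Finite Q] {x y : Q} (hx : x * x = 1)
    (hy : y * y = 1) (hxy : (x * y) ^ 4 = 1) : Nat.card (closure ({x, y} : Set Q)) ≤ 8 := by
  have hxi : x⁻¹ = x := inv_eq_of_mul_eq_one_left hx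
  have hyi : y⁻¹ = y := inv_eq_of_mul_eq_one_left hy
  have hn : zpowers x ≤ normalizer (zpowers (x * y) : Set Q) := by
    have h1 : x * (x * y) * x⁻¹ = (x * y)⁻¹ := by
      rw [mul_inv_rev, hxi, hyi, ← mul_assoc, hx, one_mul]
    have h2 : ∀ a ∈ zpowers (x * y), x * a * x⁻¹ ∈ zpowers (x * y) := by
      intro a ha
      obtain ⟨i, rfl⟩ := mem_zpowers_iff.1 ha
      rw [← conj_zpow, h1]
      exact zpow_mem (inv_mem (mem_zpowers _)) i
    rw [zpowers_le, mem_normalizer_iff]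
    refine fun a => ⟨h2 a, fun ha => ?_⟩
    have := h2 _ ha
    rwa [show x * (x * a * x⁻¹) * x⁻¹ = (x * x) * a * (x * x)⁻¹ by group, hx, one_mul, inv_one,
      mul_one] at this
  have hle : closure ({x, y} : Set Q) ≤ zpowers (x * y) ⊔ zpowers x := by
    rw [closure_le]
    rintro z (rfl | rfl)
    · exact mem_sup_right (mem_zpowers _)
    · show z ∈ zpowers (x * z) ⊔ zpowers x
      have h := mul_mem (mem_sup_right (mem_zpowers x) : x ∈ zpowers (x * z) ⊔ zpowers x)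
        (mem_sup_left (mem_zpowers (x * z)))
      rwa [← mul_assoc, hx, one_mul] at h
  have hcard : Nat.card ↥(zpowers (x * y) ⊔ zpowers x) ≤ 4 * 2 := by
    have h1 := Set.natCard_mul_le (s := (zpowers (x * y) : Set Q)) (t := (zpowers x : Set Q))
    rw [← coe_mul_of_right_le_normalizer_left _ _ hn] at h1
    refine le_trans h1 (Nat.mul_le_mul ?_ ?_)
    · rw [SetLike.coe_sort_coe, Nat.card_zpowers]
      exact Nat.le_of_dvd (by norm_num) (orderOf_dvd_of_pow_eq_one hxy)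
    · rw [SetLike.coe_sort_coe, Nat.card_zpowers]
      exact Nat.le_of_dvd (by norm_num) (orderOf_dvd_of_pow_eq_one (by rw [pow_two, hx]))
  exact le_trans (Nat.le_of_dvd Nat.card_pos (card_dvd_of_le hle)) hcard

namespace Hyp

variable (H : Hyp G)

/-- The centraliser of `x` has a `2`-subgroup of order at least `4 |E|`. -/
def Big (x : G) : Prop :=
  ∃ P : Subgroup G, IsPGroup 2 P ∧ 4 * Nat.card H.E ≤ Nat.card P ∧ ∀ g ∈ P, g * x = x * g

theorem big_conj {x : G} (h : H.Big x) (g : G) : H.Big (g * x * g⁻¹) := by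
  obtain ⟨P, hP, hc, hcomm⟩ := h
  refine ⟨P.map (MulAut.conj g).toMonoidHom, hP.map _, ?_, ?_⟩
  · rwa [card_map_of_injective (MulAut.conj g).injective]
  · rintro _ ⟨p, hp, rfl⟩
    show g * p * g⁻¹ * (g * x * g⁻¹) = g * x * g⁻¹ * (g * p * g⁻¹)
    calc g * p * g⁻¹ * (g * x * g⁻¹) = g * (p * x) * g⁻¹ := by group
      _ = _ := by rw [hcomm p hp]; group

theorem not_big_t : ¬ H.Big H.t := by
  rintro ⟨P, hP, hc, hcomm⟩
  have := H.card_le hP hcomm
  have := H.four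
  omega

theorem not_big_conj (g : G) : ¬ H.Big (g * H.t * g⁻¹) := fun h => H.not_big_t (by
  have := H.big_conj h g⁻¹
  rwa [show g⁻¹ * (g * H.t * g⁻¹) * g⁻¹⁻¹ = H.t by group] at this)

theorem conj_involution {g : G} :
    g * H.t * g⁻¹ * (g * H.t * g⁻¹) = 1 ∧ g * H.t * g⁻¹ ≠ 1 := by
  refine ⟨?_, fun h => H.t_ne_one (conj_eq_one_iff.1 h)⟩
  calc g * H.t * g⁻¹ * (g * H.t * g⁻¹) = g * (H.t * H.t) * g⁻¹ := by group
    _ = 1 := by rw [H.t_sq]; group

/-- A `2`-subgroup over `T₀` controlling the fusion of `t` in its normaliser is a Sylow subgroup. -/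
theorem sylow_of_fused {P : Subgroup G} (hP : IsPGroup 2 P) (hle : H.T0 ≤ P)
    (h : ∀ y ∈ normalizer (P : Set G), ∃ g ∈ P, g * H.t * g⁻¹ = y * H.t * y⁻¹) :
    ∃ T : Sylow 2 G, (T : Subgroup G) = P := by
  obtain ⟨T, hT⟩ := hP.exists_le_sylow
  refine ⟨T, le_antisymm ?_ hT⟩
  by_contra hcon
  obtain ⟨w, hwT, hwP, hwN⟩ := exists_normalizing T.2 (lt_of_le_not_ge hT hcon)
  obtain ⟨g, hg, hgt⟩ := h w hwN
  let Q := (T : Subgroup G) ⊓ centralizer ({H.t} : Set G)
  have hQ : Q ≤ H.T0 := H.le_T0 (T.2.to_le inf_le_left)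
    (fun x hx => ⟨hT (hle hx), mem_centralizer_singleton_iff.2 (H.comm_t' hx)⟩)
    (fun x hx => mem_centralizer_singleton_iff.1 hx.2)
  have hmem : g⁻¹ * w ∈ Q := by
    refine ⟨(T : Subgroup G).mul_mem ((T : Subgroup G).inv_mem (hT hg)) hwT,
      mem_centralizer_singleton_iff.2 ?_⟩
    calc g⁻¹ * w * H.t = g⁻¹ * (w * H.t * w⁻¹) * w := by group
      _ = g⁻¹ * (g * H.t * g⁻¹) * w := by rw [hgt]
      _ = _ := by group
  exact hwP (by simpa using mul_mem hg (hle (hQ hmem)))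

/-- Transitivity of a cyclic group on `E \ 1`, normalising `T`. -/
def Cyc (T : Subgroup G) : Prop :=
  ∃ c : G, c * H.t = H.t * c ∧ (∀ g ∈ T, c * g * c⁻¹ ∈ T) ∧ (∀ e ∈ H.E, c * e * c⁻¹ ∈ H.E) ∧
    ∀ e ∈ H.E, ∀ e' ∈ H.E, e ≠ 1 → e' ≠ 1 → ∃ j : ℕ, c ^ j * e * (c ^ j)⁻¹ = e'

/-- The involutions outside `M` without big centraliser are conjugate to `t` in `T`. -/
def TFused (T M : Subgroup G) : Prop :=
  ∀ x ∈ T, x ∉ M → x * x = 1 → ¬ H.Big x → ∃ g ∈ T, g * H.t * g⁻¹ = x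

/-- The outcome. -/
def Tower : Prop :=
  ∃ T : Sylow 2 G, H.T0 ≤ (T : Subgroup G) ∧ ((T : Subgroup G) = H.T0 ∨
    ∃ M : Subgroup G, M ≤ (T : Subgroup G) ∧ Nat.card M * 2 = Nat.card (T : Subgroup G) ∧
      H.E ≤ M ∧ H.t ∉ M ∧ (∀ x ∈ M, x * x = 1 → x ≠ 1 → H.Big x) ∧
      (H.Cyc (T : Subgroup G) ∨ H.TFused (T : Subgroup G) M))

/-- The elements of a `2`-subgroup of `N(T₀)` acting trivially on `T₀`. -/
theorem ker_le_T0 {w : G} (hw : w ∈ H.N) (h2 : IsPGroup 2 (zpowers w))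
    (h : H.autHom ⟨w, hw⟩ = 1) : w ∈ H.T0 :=
  H.two_elt hw h2 (mul_inv_eq_iff_eq_mul.1 (H.autHom_eq_one.1 h H.t H.t_mem))

theorem autHom_T0 {w : G} (hw : w ∈ H.T0) : H.autHom ⟨w, H.T0_le_N hw⟩ = 1 :=
  H.autHom_eq_one.2 fun y hy => by
    show w * y * w⁻¹ = y
    rw [H.comm_T0 hw hy, mul_inv_cancel_right]

theorem card_eq_mul_image {P : Subgroup G} (hP : IsPGroup 2 P) (hle : H.T0 ≤ P) (hN : P ≤ H.N) :
    Nat.card P = Nat.card H.T0 * Nat.card ((P.subgroupOf H.N).map H.autHom) := by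
  set P' := P.subgroupOf H.N with hP'
  set f := H.autHom.comp P'.subtype with hf
  have hker : f.ker.map (H.N.subtype.comp P'.subtype) = H.T0 := by
    apply le_antisymm
    · rintro _ ⟨⟨⟨w, hwN⟩, hw⟩, hwk, rfl⟩
      exact H.ker_le_T0 hwN (hP.to_le (zpowers_le.2 hw)) hwk
    · intro x hx
      exact ⟨⟨⟨x, H.T0_le_N hx⟩, hle hx⟩, H.autHom_T0 hx, rfl⟩
  have h1 := f.ker.card_mul_index
  rw [index_ker, hf, MonoidHom.range_eq_map, ← map_map, ← MonoidHom.range_eq_map, range_subtype] at h1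
  rw [show Nat.card H.T0 = Nat.card f.ker from
    (congrArg (fun K : Subgroup G => Nat.card K) hker.symm).trans
      (card_map_of_injective (H.N.subtype_injective.comp P'.subtype_injective)), h1]
  exact (Nat.card_congr (subgroupOfEquivOfLe hN).toEquiv).symm

/-- **The exceptional step.** -/
theorem tower_of_excAut (hF : H.Fused) (hX : H.ExcAut) : H.Tower := by
  classical
  haveI : Fact (Nat.Prime 2) := ⟨Nat.prime_two⟩
  have hE8 := hX.cardE
  have hT16 : Nat.card H.T0 = 16 := by rw [H.card_T0, hE8]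
  let π : H.N →* H.autHom.range := H.autHom.rangeRestrict
  have hπ : Function.Surjective π := H.autHom.rangeRestrict_surjective
  have hπT0 : ∀ w (hw : w ∈ H.N), w ∈ H.T0 → π ⟨w, hw⟩ = 1 := fun w hw h => Subtype.ext (H.autHom_T0 h)
  -- a Sylow subgroup of the preimage of a subgroup of order eight
  have hover : ∀ (Y : Subgroup H.autHom.range), Nat.card Y = 8 → ∀ Z : Subgroup G, IsPGroup 2 Z →
      H.T0 ≤ Z → Z ≤ H.N → (∀ z : H.N, (z : G) ∈ Z → π z ∈ Y) →
      ∃ P : Subgroup G, IsPGroup 2 P ∧ Z ≤ P ∧ P ≤ H.N ∧ Nat.card P = 128 ∧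
        (P.subgroupOf H.N).map π = Y := by
    intro Y hY Z hZ hTZ hZN hZY
    let Z' : Subgroup (Y.comap π) := ((Z.subgroupOf H.N)).subgroupOf (Y.comap π)
    have hZ' : IsPGroup 2 Z' :=
      (hZ.comap_of_injective H.N.subtype H.N.subtype_injective).comap_of_injective _
        (Y.comap π).subtype_injective
    obtain ⟨S, hS⟩ := hZ'.exists_le_sylow
    have hsurj := MonoidHom.subgroupComap_surjective_of_surjective π Y hπ
    have htop : (S.mapSurjective hsurj : Subgroup Y) = ⊤ := by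
      have hYp : IsPGroup 2 (⊤ : Subgroup Y) :=
        IsPGroup.of_card (n := 3) (by rw [card_top, hY]; norm_num)
      exact ((S.mapSurjective hsurj).3 hYp le_top).symm
    set P := ((S : Subgroup (Y.comap π)).map (Y.comap π).subtype).map H.N.subtype with hPdef
    have hPP : IsPGroup 2 P := (S.2.map _).map _
    have hPN : P ≤ H.N := map_subtype_le _
    have hZP : Z ≤ P := fun z hz => ⟨⟨z, hZN hz⟩, ⟨⟨_, hZY ⟨z, hZN hz⟩ hz⟩, hS hz, rfl⟩, rfl⟩
    have himg : (P.subgroupOf H.N).map π = Y := by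
      have hsub : P.subgroupOf H.N = (S : Subgroup (Y.comap π)).map (Y.comap π).subtype :=
        comap_map_eq_self_of_injective H.N.subtype_injective _
      rw [hsub]
      apply le_antisymm
      · rintro _ ⟨_, ⟨a, ha, rfl⟩, rfl⟩
        exact a.2
      · intro y hy
        obtain ⟨a, ha, hay⟩ : (⟨y, hy⟩ : Y) ∈ (S.mapSurjective hsurj : Subgroup Y) := htop ▸ trivial
        exact ⟨_, ⟨a, ha, rfl⟩, congrArg Subtype.val hay⟩
    refine ⟨P, hPP, hZP, hPN, ?_, himg⟩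
    rw [H.card_eq_mul_image hPP (hTZ.trans hZP) hPN, hT16]
    have h8 : Nat.card ((P.subgroupOf H.N).map H.autHom) = 8 := by
      rw [← hY, ← himg]
      refine (card_map_of_injective (H.autHom.range.subtype_injective)).symm.trans ?_ |>.symm
      rw [map_map, MonoidHom.subtype_comp_rangeRestrict]
    rw [h8]
  -- involutions of `N(T₀)` outside `T₀` are big
  have hbigN : ∀ x ∈ H.N, x ∉ H.T0 → x * x = 1 → H.Big x := by
    intro x hxN hxT hx2
    have hz : IsPGroup 2 (zpowers x) := fun ⟨g, hg⟩ => ⟨1, Subtype.ext (by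
      obtain ⟨i, rfl⟩ := mem_zpowers_iff.1 hg
      show (x ^ i) ^ 2 ^ 1 = 1
      rw [pow_one, pow_two, ← Commute.mul_zpow (Commute.refl x), hx2, one_zpow])⟩
    set xb := π ⟨x, hxN⟩ with hxb
    have hxb2 : xb * xb = 1 := by
      rw [hxb, ← map_mul, show (⟨x, hxN⟩ : H.N) * ⟨x, hxN⟩ = 1 from Subtype.ext hx2, map_one]
    have hxb1 : xb ≠ 1 := fun h => hxT (H.ker_le_T0 hxN hz (congrArg Subtype.val h))
    obtain ⟨P, hP, hZP, hPN, hPc, himg⟩ := hover _ (hX.cent xb hxb2 hxb1) (H.T0 ⊔ zpowers x)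
      (H.isPGroup_T0.to_sup_of_normal_left' hz (zpowers_le.2 hxN)) le_sup_left
      (sup_le H.T0_le_N (zpowers_le.2 hxN)) (by
        intro z hzm
        have hle : H.T0 ⊔ zpowers x ≤
            ((centralizer ({xb} : Set H.autHom.range)).comap π).map H.N.subtype := by
          refine sup_le (fun w hw => ⟨⟨w, H.T0_le_N hw⟩, ?_, rfl⟩)
            (zpowers_le.2 ⟨⟨x, hxN⟩, mem_centralizer_singleton_iff.2 rfl, rfl⟩)
          show π _ ∈ centralizer ({xb} : Set H.autHom.range)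
          rw [hπT0 w _ hw]
          exact one_mem _
        obtain ⟨z', hz', he⟩ := hle hzm
        exact (Subtype.ext he : z' = z) ▸ hz')
    have hxP : x ∈ P := hZP (mem_sup_right (mem_zpowers x))
    let Ex : Subgroup G := H.E ⊓ centralizer ({x} : Set G)
    have hEx : Nat.card Ex ≤ 4 := by
      have hd : Nat.card Ex ∣ 8 := hE8 ▸ card_dvd_of_le inf_le_left
      have hne : Nat.card Ex ≠ 8 := by
        intro h8
        have heq : Ex = H.E := eq_of_le_of_card_ge inf_le_left (by rw [hE8, h8])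
        have htriv : ∀ e ∈ H.E, x * e * x⁻¹ = e := fun e he => by
          rw [← heq] at he
          exact mul_inv_eq_iff_eq_mul.2 (mem_centralizer_singleton_iff.1 he.2).symm
        exact hxT (H.ker_le_T0 hxN hz (H.autHom_eq_one.2 (hX.faith x hxN htriv)))
      have := Nat.le_of_dvd (by norm_num) hd
      interval_cases h : Nat.card Ex <;> first | omega | norm_num at hd
    let O : Set G := (fun e => x * e) '' (Ex : Set G)
    have hO : ∀ g ∈ P, g * x * g⁻¹ ∈ O := by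
      intro g hg
      refine ⟨x⁻¹ * (g * x * g⁻¹), ?_, by group⟩
      have huP : x⁻¹ * (g * x * g⁻¹) ∈ P :=
        mul_mem (inv_mem hxP) (mul_mem (mul_mem hg hxP) (inv_mem hg))
      have hgc : π ⟨g, hPN hg⟩ ∈ centralizer ({xb} : Set H.autHom.range) := himg ▸ ⟨⟨g, hPN hg⟩, hg, rfl⟩
      have hker : π ⟨_, hPN huP⟩ = 1 := by
        rw [show (⟨_, hPN huP⟩ : H.N) = ⟨x, hxN⟩⁻¹ * (⟨g, hPN hg⟩ * ⟨x, hxN⟩ * ⟨g, hPN hg⟩⁻¹) from
          Subtype.ext rfl, map_mul, map_mul, map_mul, map_inv, map_inv,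
          mem_centralizer_singleton_iff.1 hgc, mul_inv_cancel_right, inv_mul_cancel]
      have huT : x⁻¹ * (g * x * g⁻¹) ∈ H.T0 :=
        H.ker_le_T0 (hPN huP) (hP.to_le (zpowers_le.2 huP)) (congrArg Subtype.val hker)
      set u := x⁻¹ * (g * x * g⁻¹) with hu
      have hxu : x * u = g * x * g⁻¹ := by rw [hu]; group
      have hcomm : u * x = x * u := by
        have h1 : (x * u) * (x * u) = 1 := by
          rw [hxu]; calc g * x * g⁻¹ * (g * x * g⁻¹) = g * (x * x) * g⁻¹ := by group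
            _ = 1 := by rw [hx2]; group
        rw [mul_eq_one_iff_eq_inv, mul_inv_rev, inv_eq_of_mul_eq_one_left (H.sq_T0 huT),
          inv_eq_of_mul_eq_one_left hx2] at h1
        exact h1.symm
      refine ⟨huT.resolve_right fun htu => hxT ?_, mem_centralizer_singleton_iff.2 hcomm⟩
      obtain ⟨g', hg', hg't⟩ := hF.transT _ htu
      rw [H.t_mul_t_mul] at hg't
      exact H.conj_two_elt hxN hz hg' (by rw [hg't]; exact mul_inv_eq_iff_eq_mul.2 hcomm.symm)
    have hOc : Nat.card O ≤ 4 :=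
      le_trans (Nat.card_image_le (Set.toFinite _)) (by simpa using hEx)
    have h1 := card_le_orbit_mul hO
    rw [hPc] at h1
    refine ⟨P ⊓ centralizer ({x} : Set G), hP.to_le inf_le_left, ?_,
      fun g hg => mem_centralizer_singleton_iff.1 hg.2⟩
    rw [hE8]
    have h2 := Nat.mul_le_mul_right (Nat.card ↥(P ⊓ centralizer ({x} : Set G))) hOc
    omega
  -- the Sylow subgroup
  obtain ⟨Y⟩ : Nonempty (Sylow 2 H.autHom.range) := inferInstance
  obtain ⟨hY8, a, ha, b, hb, ha2, hb2, hab2, hab4, hYab⟩ := hX.sylow Y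
  obtain ⟨T, hTp, hTT, hTN, hTc, himg⟩ := hover _ hY8 H.T0 H.isPGroup_T0 le_rfl H.T0_le_N (by
    intro z hz
    rw [show π z = 1 from hπT0 z z.2 hz]
    exact one_mem _)
  have hmov : ∀ w ∈ T, ∀ e ∈ H.E, w * (H.t * e) * w⁻¹ = H.t * e → w ∈ H.T0 := by
    intro w hw e he h
    obtain ⟨g, hg, hgt⟩ := hF.transT e he
    exact H.conj_two_elt (hTN hw) (hTp.to_le (zpowers_le.2 hw)) hg (by rw [hgt]; exact h)
  have htrans : ∀ e ∈ H.E, ∃ g ∈ T, g * H.t * g⁻¹ = H.t * e := by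
    let Ot : Set G := (fun g => g * H.t * g⁻¹) '' (T : Set G)
    have h1 := card_le_orbit_mul (P := T) (x := H.t) (O := Ot) (fun g hg => ⟨g, hg, rfl⟩)
    have h2 : Nat.card ↥(T ⊓ centralizer ({H.t} : Set G)) ≤ 16 := by
      have := H.card_le (P := T ⊓ centralizer ({H.t} : Set G)) (hTp.to_le inf_le_left)
        (fun g hg => mem_centralizer_singleton_iff.1 hg.2)
      omega
    have hsub : Ot ⊆ (fun e => H.t * e) '' (H.E : Set G) := by
      rintro _ ⟨g, hg, rfl⟩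
      exact ⟨_, hF.conj g (hTN hg), H.t_mul_t_mul _⟩
    have h3 : Ot = (fun e => H.t * e) '' (H.E : Set G) := by
      refine Set.eq_of_subset_of_ncard_le hsub ?_ (Set.toFinite _)
      rw [Set.ncard_image_of_injective _ (mul_right_injective H.t)]
      rw [hTc] at h1
      have h4 : 128 ≤ Nat.card Ot * 16 := le_trans h1 (Nat.mul_le_mul_left _ h2)
      rw [Nat.card_coe_set_eq] at h4
      rw [← Nat.card_coe_set_eq, SetLike.coe_sort_coe, hE8]
      omega
    intro e he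
    have : H.t * e ∈ Ot := h3 ▸ ⟨e, he, rfl⟩
    exact this
  -- squares in `T₀` lie in `E`
  have hsqE : ∀ w ∈ T, w ∉ H.T0 → w * w ∈ H.T0 → w * w ∈ H.E := by
    intro w hw hwT h2
    refine h2.resolve_right fun h => hwT (hmov w hw _ h ?_)
    rw [H.t_mul_t_mul]
    group
  obtain ⟨⟨wa, hwaN⟩, hwaT, hwa⟩ : a ∈ (T.subgroupOf H.N).map π := himg ▸ ha
  obtain ⟨⟨wb, hwbN⟩, hwbT, hwb⟩ : b ∈ (T.subgroupOf H.N).map π := himg ▸ hb
  have hka : ∀ w (hw : w ∈ T), π ⟨w, hTN hw⟩ = 1 → w ∈ H.T0 := fun w hw h =>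
    H.ker_le_T0 (hTN hw) (hTp.to_le (zpowers_le.2 hw)) (congrArg Subtype.val h)
  have haT : wa ∉ H.T0 := fun h => by
    have := hπT0 wa hwaN h
    rw [hwa] at this
    exact hab2 (by rw [this, one_mul, pow_two, hb2])
  have hbT : wb ∉ H.T0 := fun h => by
    have := hπT0 wb hwbN h
    rw [hwb] at this
    exact hab2 (by rw [this, mul_one, pow_two, ha2])
  have hwa2 : wa * wa ∈ H.E := hsqE wa hwaT haT (hka _ (mul_mem hwaT hwaT) (by
    rw [show (⟨wa * wa, _⟩ : H.N) = ⟨wa, hwaN⟩ * ⟨wa, hwaN⟩ from rfl, map_mul, hwa, ha2]))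
  have hwb2 : wb * wb ∈ H.E := hsqE wb hwbT hbT (hka _ (mul_mem hwbT hwbT) (by
    rw [show (⟨wb * wb, _⟩ : H.N) = ⟨wb, hwbN⟩ * ⟨wb, hwbN⟩ from rfl, map_mul, hwb, hb2]))
  have hc4 : (wa * wb) ^ 4 ∈ H.E := by
    have hcT : (wa * wb) ^ 2 ∈ T := pow_mem (mul_mem hwaT hwbT) 2
    have hπc : π ⟨(wa * wb) ^ 2, hTN hcT⟩ = (a * b) ^ 2 := by
      rw [show (⟨(wa * wb) ^ 2, hTN hcT⟩ : H.N) = (⟨wa, hwaN⟩ * ⟨wb, hwbN⟩) ^ 2 from rfl, map_pow,
        map_mul, hwa, hwb]
    rw [show (wa * wb) ^ 4 = (wa * wb) ^ 2 * (wa * wb) ^ 2 by rw [← pow_add]]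
    refine hsqE _ hcT (fun h => hab2 (hπc ▸ hπT0 _ (hTN hcT) h)) (hka _ (mul_mem hcT hcT) ?_)
    rw [show (⟨(wa * wb) ^ 2 * (wa * wb) ^ 2, _⟩ : H.N) = ⟨_, hTN hcT⟩ * ⟨_, hTN hcT⟩ from rfl,
      map_mul, hπc, ← pow_add, hab4]
  -- the subgroup `M`
  let E' : Subgroup T := H.E.subgroupOf T
  haveI hE'n : E'.Normal := ⟨fun e he g => mem_subgroupOf.2 (hF.normE g (hTN g.2) _ he)⟩
  let q := QuotientGroup.mk' E'
  set D : Subgroup (T ⧸ E') := closure {q ⟨wa, hwaT⟩, q ⟨wb, hwbT⟩} with hD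
  have hD8 : Nat.card D ≤ 8 := by
    refine card_closure_dihedral ?_ ?_ ?_
    · rw [← map_mul]; exact (QuotientGroup.eq_one_iff _).2 hwa2
    · rw [← map_mul]; exact (QuotientGroup.eq_one_iff _).2 hwb2
    · rw [← map_mul, ← map_pow]; exact (QuotientGroup.eq_one_iff _).2 hc4
  set M' := D.comap q with hM'
  set M : Subgroup G := M'.map T.subtype with hM
  have hMT : M ≤ T := map_subtype_le _
  have hEM : H.E ≤ M := fun e he => ⟨⟨e, hTT (H.E_le he)⟩, by
    show q _ ∈ D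
    rw [show q ⟨e, hTT (H.E_le he)⟩ = 1 from (QuotientGroup.eq_one_iff _).2 he]
    exact one_mem _, rfl⟩
  have hMc : Nat.card M ≤ 64 := by
    rw [hM, card_map_of_injective T.subtype_injective, hM', card_comap_quot E' D,
      Nat.card_congr (subgroupOfEquivOfLe (H.E_le.trans hTT)).toEquiv, hE8]
    omega
  have hMT0 : ∀ w ∈ T, ∃ m ∈ M, m⁻¹ * w ∈ H.T0 := by
    intro w hw
    have hle : closure ({a, b} : Set H.autHom.range) ≤ (M.subgroupOf H.N).map π := by
      rw [closure_le]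
      rintro _ (rfl | rfl)
      · exact ⟨⟨wa, hwaN⟩, ⟨⟨wa, hwaT⟩, subset_closure (Set.mem_insert _ _), rfl⟩, hwa⟩
      · exact ⟨⟨wb, hwbN⟩, ⟨⟨wb, hwbT⟩, subset_closure (Set.mem_insert_of_mem _ rfl), rfl⟩, hwb⟩
    obtain ⟨m, hm, hmy⟩ := hle (hYab (himg ▸ ⟨⟨w, hTN hw⟩, hw, rfl⟩ :
      π ⟨w, hTN hw⟩ ∈ (Y : Subgroup _)))
    refine ⟨m, hm, hka _ (mul_mem (inv_mem (hMT hm)) hw) ?_⟩
    rw [show (⟨(m : G)⁻¹ * w, _⟩ : H.N) = m⁻¹ * ⟨w, hTN hw⟩ from Subtype.ext rfl, map_mul, map_inv,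
      hmy, inv_mul_cancel]
  choose m hm hm' using hMT0
  have htM : H.t ∉ M := by
    intro htM
    have hTM : H.T0 ≤ M := by
      rintro x (hx | hx)
      · exact hEM hx
      · have := mul_mem htM (hEM hx)
        rwa [H.t_mul_t_mul] at this
    have : T ≤ M := fun w hw => by
      have := mul_mem (hm w hw) (hTM (hm' w hw))
      rwa [mul_inv_cancel_left] at this
    have := Nat.le_of_dvd Nat.card_pos (card_dvd_of_le this)
    omega
  have hMcard : Nat.card M * 2 = Nat.card T := by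
    have h1 : Nat.card T ≤ Nat.card (M × ↥(zpowers H.t)) := by
      refine Nat.card_le_card_of_injective (fun w : T =>
        if h : (m w w.2)⁻¹ * (w : G) ∈ H.E then
          ((⟨w, by have := mul_mem (hm w w.2) (hEM h); rwa [mul_inv_cancel_left] at this⟩ : M), 1)
        else ((⟨(w : G) * H.t, by
          have h' : ((m w w.2)⁻¹ * (w : G)) * H.t ∈ H.E := by
            have h2 := (hm' w w.2).resolve_left h
            have h3 : (m w w.2)⁻¹ * (w : G) ∈ H.T0 := Or.inr h2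
            rwa [← H.comm_t' h3] at h2
          have := mul_mem (hm w w.2) (hEM h')
          rwa [mul_assoc (m w w.2)⁻¹, mul_inv_cancel_left] at this⟩ : M), ⟨H.t, mem_zpowers _⟩))
        fun w w' hw => ?_
      dsimp only at hw
      split_ifs at hw with h h' h' <;> simp only [Prod.mk.injEq, Subtype.mk.injEq] at hw
      · exact Subtype.ext hw.1
      · exact absurd (congrArg Subtype.val hw.2).symm H.t_ne_one
      · exact absurd (congrArg Subtype.val hw.2) H.t_ne_one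
      · exact Subtype.ext (mul_right_cancel hw.1)
    rw [Nat.card_prod, Nat.card_zpowers, show orderOf H.t = 2 from
      orderOf_eq_prime (by rw [pow_two]; exact H.t_sq) H.t_ne_one, hTc] at h1
    rw [hTc]
    omega
  -- bigness
  have hbigE : ∀ x ∈ H.E, x ≠ 1 → H.Big x := by
    intro x hx hx1
    let O : Set G := (H.E : Set G) \ {1}
    have hOc : Nat.card O = 7 := by
      rw [Nat.card_coe_set_eq, Set.ncard_sdiff_singleton_of_mem (one_mem H.E), ← Nat.card_coe_set_eq,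
        SetLike.coe_sort_coe, hE8]
    have h1 := card_le_orbit_mul (P := T) (x := x) (O := O) (fun g hg =>
      ⟨hF.normE g (hTN hg) x hx, fun h => hx1 (conj_eq_one_iff.1 h)⟩)
    refine ⟨T ⊓ centralizer ({x} : Set G), hTp.to_le inf_le_left, ?_,
      fun g hg => mem_centralizer_singleton_iff.1 hg.2⟩
    obtain ⟨i, hi⟩ := IsPGroup.iff_card.1 (hTp.to_le (inf_le_left (b := centralizer ({x} : Set G))))
    rw [hTc, hi, hOc] at h1
    rw [hE8, hi]
    by_contra hcon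
    have h4 : i ≤ 4 := by
      by_contra h5
      have := Nat.pow_le_pow_right two_pos (show 5 ≤ i by omega)
      omega
    have := Nat.pow_le_pow_right two_pos h4
    omega
  have hfus : ∀ x ∈ T, x * x = 1 → x ≠ 1 → ¬ H.Big x → ∃ g ∈ T, g * H.t * g⁻¹ = x := by
    intro x hx hx2 hx1 hnb
    by_cases hxT : x ∈ H.T0
    · obtain ⟨g, hg, hgt⟩ := htrans _ (hxT.resolve_left fun h => hnb (hbigE x h hx1))
      exact ⟨g, hg, by rw [hgt, H.t_mul_t_mul]⟩
    · exact absurd (hbigN x (hTN hx) hxT hx2) hnb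
  obtain ⟨S, hS⟩ := H.sylow_of_fused hTp hTT fun y hy =>
    hfus _ (((mem_normalizer_iff.1 hy) _).1 (hTT H.t_mem)) H.conj_involution.1 H.conj_involution.2
      (H.not_big_conj y)
  refine ⟨S, hS ▸ hTT, Or.inr ⟨M, hS ▸ hMT, by rw [hS]; exact hMcard, hEM, htM, fun x hx hx2 hx1 => ?_,
    Or.inr ?_⟩⟩
  · by_cases hxT : x ∈ H.T0
    · rcases hxT with h | h
      · exact hbigE x h hx1
      · exact absurd (by
          have := mul_mem hx (hEM h)
          rwa [← H.comm_t' (Or.inr h : x ∈ H.T0), ← mul_assoc, hx2, one_mul] at this) htM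
    · exact hbigN x (hTN (hMT hx)) hxT hx2
  · intro x hx hxM hx2 hnb
    rw [hS] at hx ⊢
    exact hfus x hx hx2 (fun h => hxM (h ▸ one_mem M)) hnb

end Hyp

end Cfsg.Agent.InvolTimesPSL
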