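import Cfsg.Agent.Lib.InvolTimesPSL.TransSetup

/-!
# The translation case: `N(E)/E` satisfies the hypothesis
-/

set_option autoImplicit false
set_option linter.style.haveILetI false

namespace Cfsg.Agent.InvolTimesPSL

open Subgroup

universe u

variable {G : Type u} [Group G] [Finite G]

namespace Hyp

variable {H : Hyp G}

namespace Trans

variable (D : Trans H)

/-- The quotient map of `N(E)`. -/
abbrev q (_ : Trans H) : normalizer (H.E : Set G) →*
    normalizer (H.E : Set G) ⧸ H.E.subgroupOf (normalizer (H.E : Set G)) :=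
  QuotientGroup.mk' (H.E.subgroupOf (normalizer (H.E : Set G)))

theorem q_eq_one {x : normalizer (H.E : Set G)} : D.q x = 1 ↔ (x : G) ∈ H.E :=
  (QuotientGroup.eq_one_iff x).trans mem_subgroupOf

theorem q_eq {x y : normalizer (H.E : Set G)} : D.q x = D.q y ↔ (x : G)⁻¹ * y ∈ H.E := by
  rw [← inv_mul_eq_one, ← map_inv, ← map_mul, D.q_eq_one, Subgroup.coe_mul, Subgroup.coe_inv]

/-- Data of the hypothesis on the quotient. -/
structure Quot (hF : H.Fused) where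
  hyp : Hyp (normalizer (H.E : Set G) ⧸ H.E.subgroupOf (normalizer (H.E : Set G)))
  t_eq : hyp.t = D.q ⟨H.t, D.T1_le D.t_mem⟩
  T0_iff : ∀ x : normalizer (H.E : Set G), D.q x ∈ hyp.T0 ↔ (x : G) ∈ D.T1
  card_E : Nat.card hyp.E = Nat.card H.E
  k_eq : hyp.k = D.q ⟨D.c, D.c_mem⟩
  rep : ∀ e ∈ H.E, ∃ x : normalizer (H.E : Set G), D.q x ∈ hyp.E ∧ D.dd x = e
  rep_inj : ∀ x y : normalizer (H.E : Set G), D.q x ∈ hyp.E → D.q y ∈ hyp.E → D.dd x = D.dd y →
    D.q x = D.q y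

theorem exists_quot (hF : H.Fused) : Nonempty (D.Quot hF) := by
  classical
  haveI : Fact (Nat.Prime 2) := ⟨Nat.prime_two⟩
  set Hn := normalizer (H.E : Set G) with hHn
  let q := D.q
  have hT1H : D.T1 ≤ Hn := D.T1_le
  have hqs : Function.Surjective q := QuotientGroup.mk'_surjective _
  let tb : Hn := ⟨H.t, hT1H D.t_mem⟩
  let cb : Hn := ⟨D.c, D.c_mem⟩
  set T1q := (D.T1.subgroupOf Hn).map q with hT1q
  have hEle : H.E ≤ D.T1 := H.E_le.trans D.le
  have hmem : ∀ x : Hn, q x ∈ T1q ↔ (x : G) ∈ D.T1 := by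
    intro x
    refine ⟨?_, fun h => ⟨x, h, rfl⟩⟩
    rintro ⟨y, hy, hyx⟩
    have h := mul_mem (show (y : G) ∈ D.T1 from hy) (hEle (D.q_eq.1 hyx))
    rwa [mul_inv_cancel_left] at h
  have hsq : ∀ x ∈ T1q, x * x = 1 := by
    rintro _ ⟨x, hx, rfl⟩
    rw [← map_mul]
    exact D.q_eq_one.2 (D.sq_mem hF hx)
  have hcomm : ∀ x ∈ T1q, ∀ y ∈ T1q, x * y = y * x := by
    intro x hx y hy
    have h := hsq _ (mul_mem hx hy)
    rw [mul_eq_one_iff_eq_inv, mul_inv_rev, inv_eq_of_mul_eq_one_left (hsq x hx),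
      inv_eq_of_mul_eq_one_left (hsq y hy)] at h
    exact h
  have hinv : ∀ x ∈ T1q, x⁻¹ = x := fun x hx => inv_eq_of_mul_eq_one_left (hsq x hx)
  have hcq : ∀ x ∈ T1q, q cb * x * (q cb)⁻¹ ∈ T1q := by
    rintro _ ⟨x, hx, rfl⟩
    rw [← map_inv, ← map_mul, ← map_mul]
    exact (hmem _).2 (D.c_T _ hx)
  let f : T1q →* Hn ⧸ H.E.subgroupOf Hn :=
    { toFun := fun x => q cb * x * (q cb)⁻¹ * x
      map_one' := by simp
      map_mul' := fun x y => by
        have hy := hcq y y.2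
        rw [Subgroup.coe_mul]
        calc q cb * ((x : Hn ⧸ H.E.subgroupOf Hn) * y) * (q cb)⁻¹ * (x * y)
            = q cb * x * (q cb)⁻¹ * ((q cb * y * (q cb)⁻¹) * x) * y := by group
          _ = _ := by rw [hcomm _ hy x x.2]; group }
  set U := f.range with hU
  have hUT : U ≤ T1q := by
    rintro _ ⟨x, rfl⟩
    exact mul_mem (hcq x x.2) x.2
  -- representatives
  choose w hwT hwt using D.move
  have hdw : ∀ e (he : e ∈ H.E), D.dd (w e he) = e := fun e he => by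
    show H.t * (w e he * H.t * (w e he)⁻¹) = e
    rw [hwt, H.t_mul_t_mul]
  let r : H.E → G := fun e => D.c * w e e.2 * D.c⁻¹ * w e e.2
  have hrT : ∀ e : H.E, r e ∈ D.T1 := fun e => mul_mem (D.c_T _ (hwT e e.2)) (hwT e e.2)
  have hdr : ∀ e : H.E, D.dd (r e) = H.k * e * H.k⁻¹ * e := by
    intro e
    show D.dd (D.c * w e e.2 * D.c⁻¹ * w e e.2) = _
    rw [D.dd_mul hF (D.c_T _ (hwT e e.2)) (hwT e e.2), D.dd_c, hdw, D.c_act _ e.2]
  have hrU : ∀ e : H.E, q ⟨r e, hT1H (hrT e)⟩ ∈ U := fun e =>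
    ⟨⟨q ⟨w e e.2, hT1H (hwT e e.2)⟩, (hmem _).2 (hwT e e.2)⟩, by
      show q cb * q ⟨w e e.2, _⟩ * (q cb)⁻¹ * q ⟨w e e.2, _⟩ = q ⟨r e, _⟩
      rw [← map_inv, ← map_mul, ← map_mul, ← map_mul]
      rfl⟩
  have hφ : Function.Bijective (fun e : H.E => (⟨H.k * e * H.k⁻¹ * e, mul_mem (H.k_E e e.2) e.2⟩ : H.E)) := by
    refine Finite.injective_iff_bijective.1 fun a b hab => ?_
    have h : H.k * (a : G) * H.k⁻¹ * a = H.k * (b : G) * H.k⁻¹ * b := congrArg Subtype.val hab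
    have h1 : H.k * ((a : G) * b) * H.k⁻¹ = a * b := by
      have hb' := H.k_E b b.2
      calc H.k * ((a : G) * b) * H.k⁻¹ = H.k * a * H.k⁻¹ * ((a : G) * a) * (H.k * b * H.k⁻¹) := by
            rw [H.sq _ a.2]; group
        _ = (H.k * a * H.k⁻¹ * a) * ((a : G) * (H.k * b * H.k⁻¹)) := by group
        _ = H.k * b * H.k⁻¹ * b * ((a : G) * (H.k * b * H.k⁻¹)) := by rw [h]
        _ = H.k * b * H.k⁻¹ * (((b : G) * a) * (H.k * b * H.k⁻¹)) := by group
        _ = H.k * b * H.k⁻¹ * ((H.k * b * H.k⁻¹) * ((a : G) * b)) := by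
          rw [H.comm_E b.2 a.2, H.comm_E (mul_mem a.2 b.2) hb']
        _ = _ := by rw [← mul_assoc, H.sq _ hb', one_mul]
    have h2 := H.k_fpf (mul_mem a.2 b.2) h1
    rw [mul_eq_one_iff_eq_inv, H.inv_E b.2] at h2
    exact Subtype.ext h2
  have hfT0 : ∀ x : G, ∀ hx : x ∈ H.T0, f ⟨q ⟨x, hT1H (D.le hx)⟩, (hmem _).2 (D.le hx)⟩ = 1 := by
    intro x hx
    show q cb * q ⟨x, _⟩ * (q cb)⁻¹ * q ⟨x, _⟩ = 1
    rw [← map_inv, ← map_mul, ← map_mul, ← map_mul]
    refine D.q_eq_one.2 ?_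
    show D.c * x * D.c⁻¹ * x ∈ H.E
    rcases hx with hx | hx
    · exact mul_mem (D.c_act x hx ▸ H.k_E x hx) hx
    · have h1 : D.c * x * D.c⁻¹ * x = D.c * (H.t * x) * D.c⁻¹ * (H.t * x) := by
        rw [show D.c * (H.t * x) * D.c⁻¹ = (D.c * H.t) * x * D.c⁻¹ by group, D.c_t]
        have h2 : D.c * x * D.c⁻¹ * H.t = H.t * (D.c * x * D.c⁻¹) := by
          have h3 : x * H.t = H.t * x := H.comm_t' (Or.inr hx)
          have h4 : D.c⁻¹ * H.t = H.t * D.c⁻¹ := by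
            rw [inv_mul_eq_iff_eq_mul, ← mul_assoc, D.c_t, mul_inv_cancel_right]
          calc D.c * x * D.c⁻¹ * H.t = D.c * x * (D.c⁻¹ * H.t) := by group
            _ = D.c * (x * H.t) * D.c⁻¹ := by rw [h4]; group
            _ = (D.c * H.t) * x * D.c⁻¹ := by rw [h3]; group
            _ = _ := by rw [D.c_t]; group
        calc D.c * x * D.c⁻¹ * x = (H.t * H.t) * (D.c * x * D.c⁻¹) * x := by rw [H.t_sq, one_mul]
          _ = H.t * (H.t * (D.c * x * D.c⁻¹)) * x := by group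
          _ = _ := by rw [← h2]; group
      rw [h1]
      exact mul_mem (D.c_act _ hx ▸ H.k_E _ hx) hx
  have hrsurj : ∀ u ∈ U, ∃ e : H.E, q ⟨r e, hT1H (hrT e)⟩ = u := by
    rintro _ ⟨⟨_, x, hx, rfl⟩, rfl⟩
    have hx' : (x : G) ∈ D.T1 := hx
    refine ⟨⟨D.dd x, D.dd_mem hF hx'⟩, ?_⟩
    set e : H.E := ⟨D.dd x, D.dd_mem hF hx'⟩ with he
    have hv : w e e.2 * (x : G) ∈ H.T0 := by
      rw [← D.dd_one_iff (mul_mem (hwT e e.2) hx'), D.dd_mul hF (hwT e e.2) hx', hdw]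
      exact H.sq _ e.2
    have h3 : f ⟨q ⟨w e e.2, hT1H (hwT e e.2)⟩, (hmem _).2 (hwT e e.2)⟩ * f ⟨q x, ⟨x, hx, rfl⟩⟩ = 1 := by
      rw [← map_mul]
      exact hfT0 _ hv
    have h4 : f ⟨q ⟨w e e.2, hT1H (hwT e e.2)⟩, (hmem _).2 (hwT e e.2)⟩ = f ⟨q x, ⟨x, hx, rfl⟩⟩ := by
      rw [mul_eq_one_iff_eq_inv, hinv _ (hUT ⟨_, rfl⟩)] at h3
      exact h3
    refine Eq.trans ?_ h4
    show q ⟨r e, _⟩ = q cb * q ⟨w e e.2, _⟩ * (q cb)⁻¹ * q ⟨w e e.2, _⟩
    rw [← map_inv, ← map_mul, ← map_mul, ← map_mul]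
    rfl
  -- `dd` is constant modulo `E`
  have hddE : ∀ x y : Hn, (x : G) ∈ D.T1 → q x = q y → D.dd x = D.dd y := by
    intro x y hx hxy
    have h := D.q_eq.1 hxy
    calc D.dd x = D.dd x * D.dd ((x : G)⁻¹ * y) := by rw [D.dd_E h, mul_one]
      _ = D.dd y := by rw [← D.dd_mul hF hx (hEle h), mul_inv_cancel_left]
  have hUinj : ∀ x y : Hn, q x ∈ U → q y ∈ U → D.dd x = D.dd y → q x = q y := by
    intro x y hx hy hxy
    obtain ⟨a, ha⟩ := hrsurj _ hx
    obtain ⟨b, hb⟩ := hrsurj _ hy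
    rw [← hddE _ _ (hrT a) ha, ← hddE _ _ (hrT b) hb, hdr, hdr] at hxy
    rw [← ha, ← hb, show a = b from hφ.1 (Subtype.ext hxy)]
  have hrep : ∀ e ∈ H.E, ∃ x : Hn, q x ∈ U ∧ D.dd x = e := by
    intro e he
    obtain ⟨a, ha⟩ := hφ.2 ⟨e, he⟩
    exact ⟨_, hrU a, (hdr a).trans (congrArg Subtype.val ha)⟩
  have hUcard : Nat.card U = Nat.card H.E := by
    refine (Nat.card_eq_of_bijective (fun e : H.E => (⟨_, hrU e⟩ : U)) ⟨fun a b hab => ?_, ?_⟩).symm
    · have h1 : q ⟨r a, hT1H (hrT a)⟩ = q ⟨r b, hT1H (hrT b)⟩ := congrArg Subtype.val hab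
      have h2 := hddE _ _ (hrT a) h1
      rw [hdr, hdr] at h2
      exact hφ.1 (Subtype.ext h2)
    · rintro ⟨u, hu⟩
      obtain ⟨e, he⟩ := hrsurj u hu
      exact ⟨e, Subtype.ext he⟩
  have htT : q tb ∈ T1q := (hmem _).2 D.t_mem
  have hcase : ∀ y ∈ T1q, y ∈ U ∨ q tb * y ∈ U := by
    rintro _ ⟨x, hx, rfl⟩
    have hx' : (x : G) ∈ D.T1 := hx
    obtain ⟨v, hv, hvd⟩ := hrep _ (D.dd_mem hF hx')
    have hvT : (v : G) ∈ D.T1 := (hmem v).1 (hUT hv)
    have h3 : (x : G) * v ∈ H.T0 := by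
      rw [← D.dd_one_iff (mul_mem hx' hvT), D.dd_mul hF hx' hvT, hvd]
      exact H.sq _ (D.dd_mem hF hx')
    rcases h3 with h3 | h3
    · left
      have h4 : q x * q v = 1 := by rw [← map_mul]; exact D.q_eq_one.2 h3
      rw [mul_eq_one_iff_eq_inv, hinv _ (hUT hv)] at h4
      rwa [h4]
    · right
      have h4 : q tb * q x * q v = 1 := by
        rw [← map_mul, ← map_mul]
        refine D.q_eq_one.2 ?_
        show H.t * (x : G) * v ∈ H.E
        rwa [mul_assoc]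
      rw [mul_eq_one_iff_eq_inv, hinv _ (hUT hv)] at h4
      rwa [h4]
  have hnot : q tb ∉ U := by
    intro h
    have h1 := hUinj tb 1 h (by rw [map_one]; exact one_mem U) (by
      rw [(D.dd_one_iff D.t_mem).2 H.t_mem]
      exact ((D.dd_one_iff (one_mem _)).2 (one_mem _)).symm)
    rw [map_one] at h1
    exact H.t_notMem (D.q_eq_one.1 h1)
  have hcU : ∀ u ∈ U, q cb * u * (q cb)⁻¹ ∈ U := by
    rintro _ ⟨⟨y, hy⟩, rfl⟩
    refine ⟨⟨q cb * y * (q cb)⁻¹, hcq y hy⟩, ?_⟩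
    show q cb * (q cb * y * (q cb)⁻¹) * (q cb)⁻¹ * (q cb * y * (q cb)⁻¹) =
      q cb * (q cb * y * (q cb)⁻¹ * y) * (q cb)⁻¹
    group
  have hcpow : ∀ (j : ℕ) (y : Hn ⧸ H.E.subgroupOf Hn), y ∈ T1q →
      q cb ^ j * y * (q cb ^ j)⁻¹ ∈ T1q ∧ q cb ^ j * y * (q cb ^ j)⁻¹ * y ∈ U := by
    intro j y hy
    induction j with
    | zero => exact ⟨by simpa using hy, by simp [hsq y hy]⟩
    | succ j ih =>
      have h1 : q cb ^ (j + 1) * y * (q cb ^ (j + 1))⁻¹ =
          q cb * (q cb ^ j * y * (q cb ^ j)⁻¹) * (q cb)⁻¹ := by rw [pow_succ']; group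
      refine ⟨h1 ▸ hcq _ ih.1, ?_⟩
      rw [h1]
      set z := q cb ^ j * y * (q cb ^ j)⁻¹ with hz
      have h2 : f ⟨z, ih.1⟩ * (z * y) ∈ U := mul_mem ⟨_, rfl⟩ ih.2
      have h3 : f ⟨z, ih.1⟩ = q cb * z * (q cb)⁻¹ * z := rfl
      rw [h3, show q cb * z * (q cb)⁻¹ * z * (z * y) = q cb * z * (q cb)⁻¹ * (z * z) * y by group,
        hsq z ih.1, mul_one] at h2
      exact h2
  have hfour : 4 ≤ Nat.card U := hUcard ▸ H.four
  refine ⟨⟨{ t := q tb, E := U, t_sq := hsq _ htT, t_notMem := hnot, sq := fun u hu => hsq u (hUT hu)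
             comm_t := fun u hu => hcomm u (hUT hu) _ htT, four := hfour, k := q cb
             k_t := ?_, k_E := hcU, trans := ?_, maximal := ?_, norm := ?_ }, rfl, ?_, hUcard, rfl,
    hrep, hUinj⟩⟩
  · rw [← map_mul, ← map_mul]
    exact congrArg q (Subtype.ext D.c_t)
  · intro u hu u' hu' hu1 hu'1
    obtain ⟨x, rfl⟩ := hqs u
    obtain ⟨y, rfl⟩ := hqs u'
    have hxT := (hmem x).1 (hUT hu)
    have hyT := (hmem y).1 (hUT hu')
    have hd1 : ∀ z : Hn, q z ∈ U → q z ≠ 1 → D.dd z ≠ 1 := fun z hz hz1 h => hz1 (by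
      rw [← map_one q]
      exact hUinj z 1 hz (by rw [map_one]; exact one_mem U)
        (h.trans ((D.dd_one_iff (one_mem _)).2 (one_mem _)).symm))
    obtain ⟨j, hj⟩ := H.trans _ (D.dd_mem hF hxT) _ (D.dd_mem hF hyT) (hd1 x hu hu1) (hd1 y hu' hu'1)
    refine ⟨j, ?_⟩
    have hpowU : ∀ i : ℕ, q cb ^ i * q x * (q cb ^ i)⁻¹ ∈ U := by
      intro i
      induction i with
      | zero => simpa using hu
      | succ i ih =>
        have := hcU _ ih
        rwa [show q cb * (q cb ^ i * q x * (q cb ^ i)⁻¹) * (q cb)⁻¹ =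
          q cb ^ (i + 1) * q x * (q cb ^ (i + 1))⁻¹ by rw [pow_succ']; group] at this
    have hdpow : ∀ i : ℕ, D.dd (D.c ^ i * x * (D.c ^ i)⁻¹) = D.c ^ i * D.dd x * (D.c ^ i)⁻¹ := by
      intro i
      induction i with
      | zero => simp
      | succ i ih =>
        rw [pow_succ', show D.c * D.c ^ i * (x : G) * (D.c * D.c ^ i)⁻¹ =
          D.c * (D.c ^ i * x * (D.c ^ i)⁻¹) * D.c⁻¹ by group, D.dd_c, ih]
        group
    have h5 : q (cb ^ j * x * (cb ^ j)⁻¹) = q cb ^ j * q x * (q cb ^ j)⁻¹ := by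
      rw [map_mul, map_mul, map_inv, map_pow]
    rw [← h5]
    refine hUinj _ _ (h5 ▸ hpowU j) hu' ?_
    show D.dd (D.c ^ j * x * (D.c ^ j)⁻¹) = _
    rw [hdpow, D.c_pow_act j (D.dd_mem hF hxT), hj]
  · intro P hP hUP htP hPc y hy
    refine hcase y ?_
    obtain ⟨x, rfl⟩ := hqs y
    refine (hmem x).2 ?_
    set P' := (P.comap q).map Hn.subtype with hP'
    have hPp : IsPGroup 2 P' := (hP.comap_of_ker_isPGroup q (by
      rw [QuotientGroup.ker_mk']
      exact H.isPGroup_E.comap_of_injective _ Hn.subtype_injective)).map _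
    have hT1P : T1q ≤ P := fun z hz => by
      rcases hcase z hz with h | h
      · exact hUP h
      · have := mul_mem htP (hUP h)
        rwa [← mul_assoc, hsq _ htT, one_mul] at this
    have hxP : (x : G) ∈ P' := ⟨x, hy, rfl⟩
    have hTP : D.T1 ≤ P' := fun v hv => ⟨⟨v, hT1H hv⟩, hT1P ((hmem _).2 hv), rfl⟩
    have he : H.t * ((x : G) * H.t * (x : G)⁻¹) ∈ H.E := by
      have h1 : q (tb * (x * tb * x⁻¹)) = 1 := by
        rw [map_mul, map_mul, map_mul, map_inv, hPc _ hy, mul_inv_cancel_right]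
        exact hsq _ htT
      exact D.q_eq_one.1 h1
    have hv := hwt _ he
    rw [H.t_mul_t_mul] at hv
    set v := w _ he with hv'
    have hvT : v ∈ D.T1 := hwT _ he
    have hQ : P' ⊓ centralizer ({H.t} : Set G) ≤ H.T0 := H.le_T0 (hPp.to_le inf_le_left)
      (fun z hz => ⟨hTP (D.le hz), mem_centralizer_singleton_iff.2 (H.comm_t' hz)⟩)
      (fun z hz => mem_centralizer_singleton_iff.1 hz.2)
    have h6 : v⁻¹ * (x : G) ∈ P' ⊓ centralizer ({H.t} : Set G) := by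
      refine ⟨P'.mul_mem (P'.inv_mem (hTP hvT)) hxP, mem_centralizer_singleton_iff.2 ?_⟩
      calc v⁻¹ * (x : G) * H.t = v⁻¹ * ((x : G) * H.t * (x : G)⁻¹) * x := by group
        _ = v⁻¹ * (v * H.t * v⁻¹) * x := by rw [hv]
        _ = _ := by group
    have := mul_mem hvT (D.le (hQ h6))
    rwa [mul_inv_cancel_left] at this
  · intro g hgt hgU
    obtain ⟨x, rfl⟩ := hqs g
    have he : H.t * ((x : G) * H.t * (x : G)⁻¹) ∈ H.E := by
      have h1 : q (tb * (x * tb * x⁻¹)) = 1 := by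
        rw [map_mul, map_mul, map_mul, map_inv, hgt, mul_inv_cancel_right]
        exact hsq _ htT
      exact D.q_eq_one.1 h1
    have hv := hwt _ he
    rw [H.t_mul_t_mul] at hv
    set v := w _ he with hv'
    have hvT : v ∈ D.T1 := hwT _ he
    set y : Hn := ⟨v, hT1H hvT⟩⁻¹ * x with hy
    have hyt : (y : G) * H.t = H.t * y := by
      show v⁻¹ * (x : G) * H.t = H.t * (v⁻¹ * x)
      calc v⁻¹ * (x : G) * H.t = v⁻¹ * ((x : G) * H.t * (x : G)⁻¹) * x := by group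
        _ = v⁻¹ * (v * H.t * v⁻¹) * x := by rw [hv]
        _ = _ := by group
    have hxT : ∀ z ∈ T1q, q x * z * (q x)⁻¹ ∈ T1q := by
      intro z hz
      have hfix : q x * q tb * (q x)⁻¹ = q tb := by rw [hgt, mul_inv_cancel_right]
      have hUT' : ∀ z ∈ U, q x * z * (q x)⁻¹ ∈ T1q := fun z hz => by
        rcases hgU z hz with h | h
        · exact hUT h
        · have := mul_mem htT (hUT h)
          rwa [← mul_assoc, hsq _ htT, one_mul] at this
      rcases hcase z hz with h | h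
      · exact hUT' z h
      · have := mul_mem htT (hUT' _ h)
        rwa [show q x * (q tb * z) * (q x)⁻¹ = (q x * q tb * (q x)⁻¹) * (q x * z * (q x)⁻¹) by group,
          hfix, ← mul_assoc, hsq _ htT, one_mul] at this
    have hsame : ∀ z ∈ T1q, q x * z * (q x)⁻¹ = q y * z * (q y)⁻¹ := by
      intro z hz
      have hvq : q ⟨v, hT1H hvT⟩ ∈ T1q := (hmem _).2 hvT
      have hxy : q x = q ⟨v, hT1H hvT⟩ * q y := by rw [← map_mul, hy, mul_inv_cancel_left]
      have h7 : q y * z * (q y)⁻¹ ∈ T1q := by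
        have h8 := hxT z hz
        rw [hxy] at h8
        have h9 := mul_mem (mul_mem (inv_mem hvq) h8) hvq
        rwa [show (q ⟨v, hT1H hvT⟩)⁻¹ * (q ⟨v, hT1H hvT⟩ * q y * z * (q ⟨v, hT1H hvT⟩ * q y)⁻¹) *
          q ⟨v, hT1H hvT⟩ = q y * z * (q y)⁻¹ by group] at h9
      rw [hxy, show q ⟨v, hT1H hvT⟩ * q y * z * (q ⟨v, hT1H hvT⟩ * q y)⁻¹ =
        q ⟨v, hT1H hvT⟩ * (q y * z * (q y)⁻¹) * (q ⟨v, hT1H hvT⟩)⁻¹ by group,
        hcomm _ hvq _ h7, mul_inv_cancel_right]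
    have hyT0 : (y : G) ∈ H.N := by
      have hyE : ∀ z, z ∈ H.E ↔ (y : G) * z * (y : G)⁻¹ ∈ H.E := fun z => mem_normalizer_iff.1 y.2 z
      refine mem_normalizer_iff.2 fun z => ?_
      show z ∈ H.E ∨ H.t * z ∈ H.E ↔
        (y : G) * z * (y : G)⁻¹ ∈ H.E ∨ H.t * ((y : G) * z * (y : G)⁻¹) ∈ H.E
      rw [show H.t * ((y : G) * z * (y : G)⁻¹) = (H.t * y) * z * (y : G)⁻¹ by group, ← hyt,
        show (y : G) * H.t * z * (y : G)⁻¹ = (y : G) * (H.t * z) * (y : G)⁻¹ by group, ← hyE, ← hyE]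
    obtain ⟨-, j, hj⟩ := H.norm (y : G) hyt fun e he => H.N_conj hyT0 (H.E_le he)
    -- `a` acts trivially on the quotient of `T₁`
    set a : Hn := (cb ^ j)⁻¹ * (y * cb * y⁻¹) with ha
    have hyT : ∀ z ∈ T1q, q y * z * (q y)⁻¹ ∈ T1q := fun z hz => hsame z hz ▸ hxT z hz
    have hyT' : ∀ z ∈ T1q, (q y)⁻¹ * z * q y ∈ T1q := by
      intro z hz
      have hb : Function.Bijective (fun v : T1q => (⟨_, hyT v v.2⟩ : T1q)) :=
        Finite.injective_iff_bijective.1 fun a b hab => Subtype.ext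
          (mul_left_cancel (mul_right_cancel (congrArg Subtype.val hab :)))
      obtain ⟨v, hv⟩ := hb.2 ⟨z, hz⟩
      have h : q y * (v : Hn ⧸ H.E.subgroupOf Hn) * (q y)⁻¹ = z := congrArg Subtype.val hv
      rw [← h]
      simp [mul_assoc]
    have hca : ∀ z ∈ T1q, (q cb)⁻¹ * z * q cb ∈ T1q := by
      intro z hz
      have hb : Function.Bijective (fun v : T1q => (⟨_, hcq v v.2⟩ : T1q)) :=
        Finite.injective_iff_bijective.1 fun a b hab => Subtype.ext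
          (mul_left_cancel (mul_right_cancel (congrArg Subtype.val hab :)))
      obtain ⟨v, hv⟩ := hb.2 ⟨z, hz⟩
      have h : q cb * (v : Hn ⧸ H.E.subgroupOf Hn) * (q cb)⁻¹ = z := congrArg Subtype.val hv
      rw [← h]
      simp [mul_assoc]
    have hcjinv : ∀ (i : ℕ) z, z ∈ T1q → (q cb ^ i)⁻¹ * z * q cb ^ i ∈ T1q := by
      intro i z hz
      induction i with
      | zero => simpa using hz
      | succ i ih =>
        have := hca _ ih
        rwa [show (q cb)⁻¹ * ((q cb ^ i)⁻¹ * z * q cb ^ i) * q cb =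
          (q cb ^ (i + 1))⁻¹ * z * q cb ^ (i + 1) by rw [pow_succ]; group] at this
    have haq : ∀ z ∈ T1q, q a * z * (q a)⁻¹ ∈ T1q := by
      intro z hz
      have h1 := hcjinv j _ (hyT _ (hcq _ (hyT' z hz)))
      rwa [show (q cb ^ j)⁻¹ * (q y * (q cb * ((q y)⁻¹ * z * q y) * (q cb)⁻¹) * (q y)⁻¹) * q cb ^ j =
        ((q cb ^ j)⁻¹ * (q y * q cb * (q y)⁻¹)) * z * ((q cb ^ j)⁻¹ * (q y * q cb * (q y)⁻¹))⁻¹ by group,
        ← map_pow, ← map_inv, ← map_inv, ← map_mul, ← map_mul, ← map_mul] at h1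
    have hat : (a : G) * H.t = H.t * a := by
      have h1 : Commute (D.c ^ j) H.t := Commute.pow_left D.c_t j
      have h2 : Commute (y : G) H.t := hyt
      exact (h1.inv_left.mul_left ((h2.mul_left D.c_t).mul_left h2.inv_left)).eq
    have haE : ∀ e ∈ H.E, (a : G) * e * (a : G)⁻¹ = e := by
      intro e he
      show (D.c ^ j)⁻¹ * ((y : G) * D.c * (y : G)⁻¹) * e * ((D.c ^ j)⁻¹ * ((y : G) * D.c * (y : G)⁻¹))⁻¹ = e
      have h1 : (y : G)⁻¹ * e * y ∈ H.E := by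
        refine ((mem_normalizer_iff.1 y.2) _).2 ?_
        rwa [show (y : G) * ((y : G)⁻¹ * e * y) * (y : G)⁻¹ = e by group]
      calc _ = (D.c ^ j)⁻¹ * ((y : G) * (D.c * ((y : G)⁻¹ * e * y) * D.c⁻¹) * (y : G)⁻¹) * D.c ^ j := by
            group
        _ = (D.c ^ j)⁻¹ * ((y : G) * H.k * (y : G)⁻¹ * e * ((y : G) * H.k * (y : G)⁻¹)⁻¹) * D.c ^ j := by
            rw [D.c_act _ h1]; group
        _ = _ := by rw [hj e he, ← D.c_pow_act j he]; group
    have hatriv : ∀ z ∈ T1q, q a * z * (q a)⁻¹ = z := by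
      have hstep : ∀ z ∈ T1q, q a * z * (q a)⁻¹ = z ∨ q a * z * (q a)⁻¹ = z * q tb := by
        intro z hz
        have hz' := haq z hz
        obtain ⟨x₁, hx₁⟩ := hqs z
        subst hx₁
        have hx₁ := (hmem x₁).1 hz
        rw [← map_inv, ← map_mul, ← map_mul] at hz' ⊢
        have hax := (hmem _).1 hz'
        have hd : D.dd ((a * x₁ * a⁻¹ : Hn) : G) = D.dd (x₁ : G) := by
          show H.t * ((a : G) * x₁ * (a : G)⁻¹ * H.t * ((a : G) * x₁ * (a : G)⁻¹)⁻¹) = _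
          have h4 : (a : G)⁻¹ * H.t = H.t * (a : G)⁻¹ := by
            rw [inv_mul_eq_iff_eq_mul, ← mul_assoc, hat, mul_inv_cancel_right]
          calc H.t * ((a : G) * x₁ * (a : G)⁻¹ * H.t * ((a : G) * x₁ * (a : G)⁻¹)⁻¹)
              = H.t * ((a : G) * x₁ * ((a : G)⁻¹ * H.t) * a * (x₁ : G)⁻¹ * (a : G)⁻¹) := by group
            _ = (H.t * a) * ((x₁ : G) * H.t * (x₁ : G)⁻¹) * (a : G)⁻¹ := by rw [h4]; group
            _ = (a : G) * D.dd x₁ * (a : G)⁻¹ := by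
              rw [← hat]; unfold Trans.dd; group
            _ = _ := haE _ (D.dd_mem hF hx₁)
        have h5 : (x₁ : G) * ((a * x₁ * a⁻¹ : Hn) : G) ∈ H.T0 := by
          rw [← D.dd_one_iff (mul_mem hx₁ hax), D.dd_mul hF hx₁ hax, hd]
          exact H.sq _ (D.dd_mem hF hx₁)
        have hzT : q x₁ ∈ T1q := hz
        rcases h5 with h5 | h5
        · left
          have h6 : q x₁ * q (a * x₁ * a⁻¹) = 1 := by rw [← map_mul]; exact D.q_eq_one.2 h5
          rw [mul_eq_one_iff_eq_inv, hinv _ hz'] at h6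
          exact h6.symm
        · right
          have h6 : q tb * q x₁ * q (a * x₁ * a⁻¹) = 1 := by
            rw [← map_mul, ← map_mul]
            refine D.q_eq_one.2 ?_
            show H.t * (x₁ : G) * ((a * x₁ * a⁻¹ : Hn) : G) ∈ H.E
            rwa [mul_assoc]
          rw [mul_eq_one_iff_eq_inv, hinv _ hz'] at h6
          rw [← h6, hcomm _ htT _ hzT]
      have haqt : q a * q tb * (q a)⁻¹ = q tb := by
        rw [← map_inv, ← map_mul, ← map_mul]
        refine congrArg q (Subtype.ext ?_)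
        show (a : G) * H.t * (a : G)⁻¹ = H.t
        rw [hat, mul_inv_cancel_right]
      have hsq2 : ∀ z ∈ T1q, q a ^ 2 * z * (q a ^ 2)⁻¹ = z := by
        intro z hz
        rw [pow_two, show q a * q a * z * (q a * q a)⁻¹ = q a * (q a * z * (q a)⁻¹) * (q a)⁻¹ by group]
        rcases hstep z hz with h | h
        · rw [h, h]
        · rw [h, show q a * (z * q tb) * (q a)⁻¹ = (q a * z * (q a)⁻¹) * (q a * q tb * (q a)⁻¹) by group,
            h, haqt, mul_assoc, hsq _ htT, mul_one]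
      obtain ⟨m, hm, hP⟩ := odd_part (a : G)
      obtain ⟨i, rfl⟩ := hm
      have haN : (a : G) ∈ H.N := by
        refine mem_normalizer_iff.2 fun z => ?_
        show z ∈ H.E ∨ H.t * z ∈ H.E ↔
          (a : G) * z * (a : G)⁻¹ ∈ H.E ∨ H.t * ((a : G) * z * (a : G)⁻¹) ∈ H.E
        rw [show H.t * ((a : G) * z * (a : G)⁻¹) = (H.t * a) * z * (a : G)⁻¹ by group, ← hat,
          show (a : G) * H.t * z * (a : G)⁻¹ = (a : G) * (H.t * z) * (a : G)⁻¹ by group,
          ← mem_normalizer_iff.1 a.2 z, ← mem_normalizer_iff.1 a.2 (H.t * z)]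
      have ham : (a : G) ^ (2 * i + 1) ∈ H.T0 :=
        H.two_elt (pow_mem haN _) hP ((Commute.pow_left hat _).eq)
      intro z hz
      have hmq : q a ^ (2 * i + 1) * z * (q a ^ (2 * i + 1))⁻¹ = z := by
        have : q a ^ (2 * i + 1) ∈ T1q := by rw [← map_pow]; exact (hmem _).2 (D.le ham)
        rw [hcomm _ this _ hz, mul_inv_cancel_right]
      have h2i : ∀ i : ℕ, ∀ z ∈ T1q, q a ^ (2 * i) * z * (q a ^ (2 * i))⁻¹ = z := by
        intro i z hz
        induction i with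
        | zero => simp
        | succ i ih =>
          rw [show 2 * (i + 1) = 2 + 2 * i by ring, pow_add,
            show q a ^ 2 * q a ^ (2 * i) * z * (q a ^ 2 * q a ^ (2 * i))⁻¹ =
              q a ^ 2 * (q a ^ (2 * i) * z * (q a ^ (2 * i))⁻¹) * (q a ^ 2)⁻¹ by group, ih, hsq2 z hz]
      rw [pow_succ', show q a * q a ^ (2 * i) * z * (q a * q a ^ (2 * i))⁻¹ =
        q a * (q a ^ (2 * i) * z * (q a ^ (2 * i))⁻¹) * (q a)⁻¹ by group, h2i i z hz] at hmq
      exact hmq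
    have hact : ∀ z ∈ T1q, (q y * q cb * (q y)⁻¹) * z * (q y * q cb * (q y)⁻¹)⁻¹ =
        q cb ^ j * z * (q cb ^ j)⁻¹ := by
      intro z hz
      have h1 : q y * q cb * (q y)⁻¹ = q cb ^ j * q a := by
        rw [← map_pow, ← map_inv, ← map_mul, ← map_mul, ← map_mul, ha, mul_inv_cancel_left]
      rw [h1, show q cb ^ j * q a * z * (q cb ^ j * q a)⁻¹ = q cb ^ j * (q a * z * (q a)⁻¹) * (q cb ^ j)⁻¹
        by group, hatriv z hz]
    refine ⟨fun u hu => ?_, j, fun u hu => ?_⟩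
    · obtain ⟨⟨z, hz⟩, rfl⟩ := hu
      show q x * (q cb * z * (q cb)⁻¹ * z) * (q x)⁻¹ ∈ U
      rw [hsame _ (mul_mem (hcq z hz) hz),
        show q y * (q cb * z * (q cb)⁻¹ * z) * (q y)⁻¹ = (q y * q cb * (q y)⁻¹) * (q y * z * (q y)⁻¹) *
          (q y * q cb * (q y)⁻¹)⁻¹ * (q y * z * (q y)⁻¹) by group, hact _ (hyT z hz)]
      exact (hcpow j _ (hyT z hz)).2
    · rw [← hact u (hUT hu)]
      have hvq : q ⟨v, hT1H hvT⟩ ∈ T1q := (hmem _).2 hvT
      have hxy : q x = q ⟨v, hT1H hvT⟩ * q y := by rw [← map_mul, hy, mul_inv_cancel_left]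
      set V := q ⟨v, hT1H hvT⟩ with hV
      set C := q y * q cb * (q y)⁻¹ with hC
      have h1 : q x * q cb * (q x)⁻¹ = V * C * V⁻¹ := by rw [hxy, hC]; group
      rw [h1, show V * C * V⁻¹ * u * (V * C * V⁻¹)⁻¹ = V * (C * (V⁻¹ * u * V) * C⁻¹) * V⁻¹ by group,
        show V⁻¹ * u * V = u by rw [mul_assoc, ← hcomm _ hvq _ (hUT hu), inv_mul_cancel_left],
        hcomm _ hvq _ (by rw [hact u (hUT hu)]; exact (hcpow j u (hUT hu)).1), mul_inv_cancel_right]
  · intro x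
    constructor
    · intro hx
      refine (hmem x).1 ?_
      rcases hx with h | h
      · exact hUT h
      · have := mul_mem htT (hUT h)
        rwa [← mul_assoc, hsq _ htT, one_mul] at this
    · intro hx
      exact hcase _ ((hmem x).2 hx)

end Trans

end Hyp

end Cfsg.Agent.InvolTimesPSL
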