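import Cfsg.Agent.Lib.InvolTimesPSL.TowerExc

/-!
# The translation case: the group `T₁` of order `2 |E|²` and the hypothesis for `N(E)/E`
-/

set_option autoImplicit false
set_option linter.style.haveILetI false

namespace Cfsg.Agent.InvolTimesPSL

open Subgroup

universe u

variable {G : Type u} [Group G] [Finite G]

namespace Hyp

variable (H : Hyp G)

theorem isPGroup_E : IsPGroup 2 H.E := H.isPGroup_T0.to_le H.E_le

/-- A `2`-subgroup `T₁` centralising `E`, transitive on `tE`, normalised by a version of `k`. -/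
structure Trans where
  T1 : Subgroup G
  isP : IsPGroup 2 T1
  le : H.T0 ≤ T1
  le_N : T1 ≤ H.N
  comm : ∀ w ∈ T1, ∀ e ∈ H.E, w * e = e * w
  move : ∀ e ∈ H.E, ∃ w ∈ T1, w * H.t * w⁻¹ = H.t * e
  card : Nat.card T1 = 2 * Nat.card H.E * Nat.card H.E
  c : G
  c_t : c * H.t = H.t * c
  c_act : ∀ e ∈ H.E, c * e * c⁻¹ = H.k * e * H.k⁻¹
  c_T : ∀ w ∈ T1, c * w * c⁻¹ ∈ T1

theorem exists_trans (hF : H.Fused)
    (htr : ∀ e ∈ H.E, ∃ g ∈ H.N, (∀ x ∈ H.E, g * x * g⁻¹ = x) ∧ g * H.t * g⁻¹ = H.t * e) :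
    Nonempty (Trans H) := by
  classical
  haveI : Fact (Nat.Prime 2) := ⟨Nat.prime_two⟩
  obtain ⟨n, hn⟩ := IsPGroup.iff_card.1 H.isPGroup_E
  let Cen : Subgroup G := H.N ⊓ centralizer (H.E : Set G)
  have hCen : ∀ g, g ∈ Cen ↔ g ∈ H.N ∧ ∀ e ∈ H.E, g * e = e * g := fun g => by
    simp only [Cen, mem_inf, mem_centralizer_iff, SetLike.mem_coe]
    exact and_congr Iff.rfl ⟨fun h e he => (h e he).symm, fun h e he => (h e he).symm⟩
  have hTCen : H.T0 ≤ Cen := fun x hx =>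
    (hCen x).2 ⟨H.T0_le_N hx, fun e he => H.comm_T0 hx (H.E_le he)⟩
  obtain ⟨S, hS⟩ := (H.isPGroup_T0.comap_of_injective Cen.subtype Cen.subtype_injective).exists_le_sylow
  set T1 := (S : Subgroup Cen).map Cen.subtype with hT1
  have hT1C : T1 ≤ Cen := map_subtype_le _
  have hle : H.T0 ≤ T1 := fun x hx => ⟨⟨x, hTCen hx⟩, hS hx, rfl⟩
  have hp : IsPGroup 2 T1 := S.2.map _
  have hcomm : ∀ w ∈ T1, ∀ e ∈ H.E, w * e = e * w := fun w hw => ((hCen w).1 (hT1C hw)).2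
  -- orbit of `t` under `T1`
  let Ot : Set G := (fun g => g * H.t * g⁻¹) '' (T1 : Set G)
  have h1 := card_le_orbit_mul (P := T1) (x := H.t) (O := Ot) (fun g hg => ⟨g, hg, rfl⟩)
  have h2 : Nat.card ↥(T1 ⊓ centralizer ({H.t} : Set G)) ≤ 2 * Nat.card H.E :=
    H.card_le (hp.to_le inf_le_left) (fun g hg => mem_centralizer_singleton_iff.1 hg.2)
  have hsub : Ot ⊆ (fun e => H.t * e) '' (H.E : Set G) := by
    rintro _ ⟨g, hg, rfl⟩
    exact ⟨_, hF.conj g (hT1C hg).1, H.t_mul_t_mul _⟩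
  have himg : Nat.card ((fun e => H.t * e) '' (H.E : Set G)) = Nat.card H.E := by
    rw [Nat.card_image_of_injective (mul_right_injective H.t)]
    rfl
  have hOle : Nat.card Ot ≤ Nat.card H.E := himg ▸ Nat.card_mono (Set.toFinite _) hsub
  have hup : Nat.card T1 ≤ Nat.card H.E * (2 * Nat.card H.E) := le_trans h1 (Nat.mul_le_mul hOle h2)
  have hlow : Nat.card H.E * (2 * Nat.card H.E) ≤ Nat.card T1 := by
    set St := Cen ⊓ centralizer ({H.t} : Set G) with hSt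
    choose g hgN hgE hgt using htr
    have hCcard : Nat.card Cen = Nat.card H.E * Nat.card St := by
      rw [← Nat.card_prod]
      refine (Nat.card_eq_of_bijective (fun p : H.E × St => (⟨g p.1 p.1.2 * p.2, mul_mem
        ((hCen _).2 ⟨hgN _ p.1.2, fun e he => mul_inv_eq_iff_eq_mul.1 (hgE _ p.1.2 e he)⟩) p.2.2.1⟩ : Cen))
        ⟨?_, ?_⟩).symm
      · rintro ⟨a, x⟩ ⟨b, y⟩ hab
        have h3 : g a a.2 * (x : G) = g b b.2 * (y : G) := congrArg Subtype.val hab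
        have hx : ∀ (a : H.E) (x : St), g a a.2 * (x : G) * H.t * (g a a.2 * (x : G))⁻¹ = H.t * a := by
          intro a x
          rw [show g a a.2 * (x : G) * H.t * (g a a.2 * (x : G))⁻¹ =
            g a a.2 * ((x : G) * H.t * (x : G)⁻¹) * (g a a.2)⁻¹ by group,
            mem_centralizer_singleton_iff.1 x.2.2, mul_inv_cancel_right, hgt]
        have h4 : H.t * (a : G) = H.t * b := by rw [← hx a x, h3, hx b y]
        obtain rfl : a = b := Subtype.ext (mul_left_cancel h4)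
        rw [Subtype.ext (mul_left_cancel h3)]
      · rintro ⟨x, hx⟩
        have he := hF.conj x ((hCen x).1 hx).1
        refine ⟨⟨⟨_, he⟩, ⟨(g _ he)⁻¹ * x, Cen.mul_mem (Cen.inv_mem ((hCen _).2 ⟨hgN _ he,
          fun e he' => mul_inv_eq_iff_eq_mul.1 (hgE _ he e he')⟩)) hx, ?_⟩⟩,
          Subtype.ext (mul_inv_cancel_left _ _)⟩
        refine mem_centralizer_singleton_iff.2 ?_
        have h3 : g _ he * H.t * (g _ he)⁻¹ = x * H.t * x⁻¹ := by rw [hgt, H.t_mul_t_mul]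
        calc (g _ he)⁻¹ * x * H.t = (g _ he)⁻¹ * (x * H.t * x⁻¹) * x := by group
          _ = (g _ he)⁻¹ * (g _ he * H.t * (g _ he)⁻¹) * x := by rw [h3]
          _ = _ := by group
    have hdvd : Nat.card H.T0 ∣ Nat.card St :=
      card_dvd_of_le fun x hx => ⟨hTCen hx, mem_centralizer_singleton_iff.2 (H.comm_t' hx)⟩
    have hpow : 2 ^ (n + (n + 1)) ∣ Nat.card Cen := by
      rw [hCcard, pow_add, hn]
      refine Nat.mul_dvd_mul_left _ ?_
      rwa [H.card_T0, hn, ← pow_succ'] at hdvd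
    have h5 := (Nat.prime_two.pow_dvd_iff_le_factorization Nat.card_pos.ne').1 hpow
    rw [hT1, card_map_of_injective Cen.subtype_injective, S.card_eq_multiplicity, hn,
      ← pow_succ', ← pow_add]
    exact Nat.pow_le_pow_right two_pos h5
  have hcard : Nat.card T1 = 2 * Nat.card H.E * Nat.card H.E := by
    rw [mul_comm (Nat.card H.E) (2 * Nat.card H.E)] at hup hlow
    omega
  have hOeq : Ot = (fun e => H.t * e) '' (H.E : Set G) := by
    refine Set.eq_of_subset_of_ncard_le hsub ?_ (Set.toFinite _)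
    rw [← Nat.card_coe_set_eq, ← Nat.card_coe_set_eq, himg]
    refine Nat.le_of_mul_le_mul_right (c := 2 * Nat.card H.E) ?_ (by have := H.four; omega)
    exact le_trans hlow (le_trans h1 (Nat.mul_le_mul_left _ h2))
  have hmove : ∀ e ∈ H.E, ∃ w ∈ T1, w * H.t * w⁻¹ = H.t * e := fun e he => by
    have : H.t * e ∈ Ot := hOeq ▸ ⟨e, he, rfl⟩
    exact this
  -- Frattini
  let Cn : Subgroup H.N := Cen.subgroupOf H.N
  haveI hCn : Cn.Normal := ⟨fun x hx g => by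
    obtain ⟨-, hxE⟩ := (hCen x).1 (mem_subgroupOf.1 hx)
    refine mem_subgroupOf.2 ((hCen _).2 ⟨(g * x * g⁻¹).2, fun e he => ?_⟩)
    have h3 : (g : G)⁻¹ * e * g ∈ H.E := by
      have := hF.normE _ (inv_mem g.2) e he
      rwa [inv_inv] at this
    rw [Subgroup.coe_mul, Subgroup.coe_mul, Subgroup.coe_inv]
    calc (g : G) * x * (g : G)⁻¹ * e = g * (x * ((g : G)⁻¹ * e * g)) * (g : G)⁻¹ := by group
      _ = _ := by rw [hxE _ h3]; group⟩
  have hCenN : Cen ≤ H.N := inf_le_left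
  let eC : Cn ≃* Cen := subgroupOfEquivOfLe hCenN
  let S' : Sylow 2 Cn := S.mapSurjective (f := eC.symm.toMonoidHom) eC.symm.surjective
  obtain ⟨a, ha, b, hb, hab⟩ : ∃ a ∈ normalizer (((S' : Subgroup Cn).map Cn.subtype) : Set H.N),
      ∃ b ∈ Cn, a * b = ⟨H.k, H.k_mem_N⟩ := by
    have h3 : (⟨H.k, H.k_mem_N⟩ : H.N) ∈
        normalizer (((S' : Subgroup Cn).map Cn.subtype) : Set H.N) ⊔ Cn := by
      rw [Sylow.normalizer_sup_eq_top S']; exact mem_top _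
    rw [← SetLike.mem_coe, Subgroup.mul_normal] at h3
    exact h3
  have hSmap : ∀ x : H.N, x ∈ (S' : Subgroup Cn).map Cn.subtype ↔ (x : G) ∈ T1 := by
    intro x
    constructor
    · rintro ⟨y, ⟨s, hs, rfl⟩, rfl⟩
      exact ⟨s, hs, rfl⟩
    · rintro ⟨s, hs, hsx⟩
      exact ⟨eC.symm s, ⟨s, hs, rfl⟩, Subtype.ext hsx⟩
  have haT : ∀ w ∈ T1, (a : G) * w * (a : G)⁻¹ ∈ T1 := by
    intro w hw
    have h3 := (hSmap ⟨w, (hT1C hw).1⟩).2 hw
    exact (hSmap _).1 (((mem_normalizer_iff.1 ha) _).1 h3)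
  have hak : (a : G) = H.k * (b : G)⁻¹ := eq_mul_inv_of_mul_eq (congrArg Subtype.val hab)
  have haE : ∀ e ∈ H.E, (a : G) * e * (a : G)⁻¹ = H.k * e * H.k⁻¹ := by
    intro e he
    obtain ⟨-, hbE⟩ := (hCen b).1 (mem_subgroupOf.1 hb)
    rw [hak]
    calc H.k * (b : G)⁻¹ * e * (H.k * (b : G)⁻¹)⁻¹
        = H.k * (b : G)⁻¹ * (e * b) * H.k⁻¹ := by group
      _ = H.k * (b : G)⁻¹ * ((b : G) * e) * H.k⁻¹ := by rw [hbE e he]
      _ = _ := by group
  obtain ⟨w, hw, hwt⟩ := hmove _ (hF.conj a a.2)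
  rw [H.t_mul_t_mul] at hwt
  refine ⟨⟨T1, hp, hle, fun x hx => (hT1C hx).1, hcomm, hmove, hcard, w⁻¹ * a, ?_, fun e he => ?_,
    fun x hx => ?_⟩⟩
  · calc w⁻¹ * a * H.t = w⁻¹ * ((a : G) * H.t * (a : G)⁻¹) * a := by group
      _ = w⁻¹ * (w * H.t * w⁻¹) * a := by rw [hwt]
      _ = _ := by group
  · have h3 : H.k * e * H.k⁻¹ ∈ H.E := H.k_E e he
    calc w⁻¹ * a * e * (w⁻¹ * (a : G))⁻¹ = w⁻¹ * ((a : G) * e * (a : G)⁻¹) * w := by group
      _ = w⁻¹ * ((H.k * e * H.k⁻¹) * w) := by rw [haE e he, mul_assoc]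
      _ = _ := by rw [← hcomm w hw _ h3]; group
  · have h3 := haT x hx
    rw [show w⁻¹ * a * x * (w⁻¹ * (a : G))⁻¹ = w⁻¹ * ((a : G) * x * (a : G)⁻¹) * w by group]
    exact mul_mem (mul_mem (inv_mem hw) h3) hw

namespace Trans

variable {H} (D : Trans H)

/-- The commutator with `t`. -/
def dd (_ : Trans H) (w : G) : G := H.t * (w * H.t * w⁻¹)

theorem dd_mem (hF : H.Fused) {w : G} (hw : w ∈ D.T1) : D.dd w ∈ H.E := hF.conj w (D.le_N hw)

theorem dd_mul (hF : H.Fused) {v w : G} (hv : v ∈ D.T1) (hw : w ∈ D.T1) :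
    D.dd (v * w) = D.dd v * D.dd w := by
  have h := D.comm v hv _ (D.dd_mem hF hw)
  unfold dd at h ⊢
  calc H.t * (v * w * H.t * (v * w)⁻¹)
      = H.t * (v * (H.t * H.t) * (w * H.t * w⁻¹) * v⁻¹) := by rw [H.t_sq]; group
    _ = H.t * (v * H.t * v⁻¹) * (v * (H.t * (w * H.t * w⁻¹))) * v⁻¹ := by group
    _ = _ := by rw [h]; group

theorem dd_eq_one (hw : ∀ {w : G}, w ∈ D.T1 → w ∈ H.N) {w : G} (hwT : w ∈ D.T1) :
    D.dd w = 1 ↔ w ∈ H.T0 := by
  constructor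
  · intro h
    refine H.two_elt (hw hwT) (D.isP.to_le (zpowers_le.2 hwT)) ?_
    unfold dd at h
    rw [mul_eq_one_iff_inv_eq, H.t_inv] at h
    exact mul_inv_eq_iff_eq_mul.1 h.symm
  · intro h
    unfold dd
    rw [H.comm_t' h, mul_inv_cancel_right, H.t_sq]

theorem dd_one_iff {w : G} (hwT : w ∈ D.T1) : D.dd w = 1 ↔ w ∈ H.T0 :=
  D.dd_eq_one (fun h => D.le_N h) hwT

theorem dd_E {e : G} (he : e ∈ H.E) : D.dd e = 1 := (D.dd_one_iff (D.le (H.E_le he))).2 (H.E_le he)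

theorem dd_c (w : G) : D.dd (D.c * w * D.c⁻¹) = D.c * D.dd w * D.c⁻¹ := by
  have h1 : D.c⁻¹ * H.t = H.t * D.c⁻¹ := by
    rw [inv_mul_eq_iff_eq_mul, ← mul_assoc, D.c_t, mul_inv_cancel_right]
  unfold dd
  calc H.t * (D.c * w * D.c⁻¹ * H.t * (D.c * w * D.c⁻¹)⁻¹)
      = H.t * (D.c * w * (D.c⁻¹ * H.t) * D.c * w⁻¹ * D.c⁻¹) := by group
    _ = H.t * (D.c * w * (H.t * D.c⁻¹) * D.c * w⁻¹ * D.c⁻¹) := by rw [h1]
    _ = (H.t * D.c) * (w * H.t * w⁻¹) * D.c⁻¹ := by group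
    _ = (D.c * H.t) * (w * H.t * w⁻¹) * D.c⁻¹ := by rw [D.c_t]
    _ = _ := by group

theorem sq_mem (hF : H.Fused) {w : G} (hw : w ∈ D.T1) : w * w ∈ H.E := by
  by_cases hwT : w ∈ H.T0
  · rw [H.sq_T0 hwT]; exact one_mem _
  · have h2 : w * w ∈ H.T0 := by
      rw [← D.dd_one_iff (mul_mem hw hw), D.dd_mul hF hw hw, H.sq _ (D.dd_mem hF hw)]
    refine h2.resolve_right fun h => hwT ((D.dd_one_iff hw).1 ?_)
    set e := H.t * (w * w) with he
    have hc := D.comm w hw e h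
    have hwe : w * (H.t * e) * w⁻¹ = H.t * e := by rw [he, H.t_mul_t_mul]; group
    have : w * H.t * w⁻¹ = H.t := by
      have h3 : w * H.t * w⁻¹ * e = H.t * e := by
        calc w * H.t * w⁻¹ * e = w * H.t * (w⁻¹ * (e * w)) * w⁻¹ := by group
          _ = w * H.t * (w⁻¹ * (w * e)) * w⁻¹ := by rw [hc]
          _ = w * (H.t * e) * w⁻¹ := by group
          _ = _ := hwe
      exact mul_right_cancel h3
    unfold dd
    rw [this, H.t_sq]

/-- `T₁` normalises `E`. -/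
theorem T1_le : D.T1 ≤ normalizer (H.E : Set G) := by
  intro w hw
  refine mem_normalizer_iff.2 fun e => ⟨fun he => by rw [D.comm w hw e he, mul_inv_cancel_right]; exact he,
    fun he => ?_⟩
  have h := D.comm w hw _ he
  rw [← mul_assoc, ← mul_assoc] at h
  have h2 : w * e * w⁻¹ = e := by
    calc w * e * w⁻¹ = w⁻¹ * (w * w * e * w⁻¹) := by group
      _ = w⁻¹ * (w * e * w⁻¹ * w) := by rw [h]
      _ = e := by group
  rwa [h2] at he

theorem t_mem : H.t ∈ D.T1 := D.le H.t_mem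

theorem c_mem : D.c ∈ normalizer (H.E : Set G) := by
  have hcl : ∀ e ∈ H.E, D.c * e * D.c⁻¹ ∈ H.E := fun e he => D.c_act e he ▸ H.k_E e he
  refine mem_normalizer_iff.2 fun x => ⟨hcl x, fun hx => ?_⟩
  have hb : Function.Bijective (fun y : H.E => (⟨_, hcl y y.2⟩ : H.E)) :=
    Finite.injective_iff_bijective.1 fun a b hab => Subtype.ext
      (mul_left_cancel (mul_right_cancel (congrArg Subtype.val hab :)))
  obtain ⟨y, hy⟩ := hb.2 ⟨_, hx⟩
  have : (y : G) = x := mul_left_cancel (mul_right_cancel (congrArg Subtype.val hy :))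
  exact this ▸ y.2

theorem c_pow_act (j : ℕ) {e : G} (he : e ∈ H.E) :
    D.c ^ j * e * (D.c ^ j)⁻¹ = H.k ^ j * e * (H.k ^ j)⁻¹ := by
  induction j with
  | zero => simp
  | succ j ih =>
    rw [pow_succ', pow_succ',
      show D.c * D.c ^ j * e * (D.c * D.c ^ j)⁻¹ = D.c * (D.c ^ j * e * (D.c ^ j)⁻¹) * D.c⁻¹ by group,
      ih, D.c_act _ (H.k_pow_E j he)]
    group

end Trans

end Hyp

end Cfsg.Agent.InvolTimesPSL
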